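import Mathlib

/-!
# Endomorphisms of finite order over `ℂ` are diagonalisable

Helper library (helper3): an endomorphism `f` of a finite-dimensional complex vector space with
`f ^ n = 1` (`n > 0`) has a basis of eigenvectors whose eigenvalues are `n`-th roots of unity.
-/

set_option autoImplicit false

namespace Cfsg.Agent.Helper3

open Module

/-- An endomorphism of finite order of a finite-dimensional complex vector space has an eigenbasis,
with eigenvalues that are roots of unity. -/
theorem exists_eigenbasis_of_pow_eq_one {V : Type*} [AddCommGroup V] [Module ℂ V]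
    [FiniteDimensional ℂ V] (f : Module.End ℂ V) (n : ℕ) (hn : n ≠ 0) (hf : f ^ n = 1) :
    ∃ (b : Basis (Fin (finrank ℂ V)) ℂ V) (μ : Fin (finrank ℂ V) → ℂ),
      (∀ i, μ i ^ n = 1) ∧ ∀ i, f (b i) = μ i • b i := by
  classical
  have hsep : (Polynomial.X ^ n - Polynomial.C (1 : ℂ)).Separable :=
    Polynomial.separable_X_pow_sub_C (1 : ℂ) (by exact_mod_cast hn) one_ne_zero
  have hss : f.IsSemisimple := by
    apply Module.End.isSemisimple_of_squarefree_aeval_eq_zero hsep.squarefree
    simp [hf]
  let eigenDecomp := DirectSum.isInternal_submodule_of_iSupIndep_of_iSup_eq_top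
    f.eigenspaces_iSupIndep hss.iSup_eigenspace_eq_top
  let I := (ν : ℂ) × Fin (finrank ℂ (f.eigenspace ν))
  let v : Basis I ℂ V := eigenDecomp.collectedBasis fun μ ↦ finBasis ℂ (f.eigenspace μ)
  have : Fintype I := FiniteDimensional.fintypeBasisIndex v
  let μ : I → ℂ := Sigma.fst
  have hsv (i : I) : f (v i) = μ i • v i :=
    Module.End.mem_eigenspace_iff.mp (eigenDecomp.collectedBasis_mem _ i)
  have hμ (i : I) : μ i ^ n = 1 := by
    have h1 : (f ^ n) (v i) = (μ i) ^ n • v i := by
      have : ∀ k : ℕ, (f ^ k) (v i) = (μ i) ^ k • v i := by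
        intro k
        induction k with
        | zero => simp
        | succ k ih =>
          rw [pow_succ, Module.End.mul_apply, hsv, map_smul, ih, smul_smul, pow_succ, mul_comm]
      exact this n
    rw [hf, Module.End.one_apply] at h1
    have h2 : ((μ i) ^ n - 1) • v i = 0 := by rw [sub_smul, ← h1, one_smul, sub_self]
    rcases smul_eq_zero.mp h2 with h | h
    · exact sub_eq_zero.mp h
    · exact absurd h (v.ne_zero i)
  have hcard : Fintype.card I = finrank ℂ V := (finrank_eq_card_basis v).symm
  let e : I ≃ Fin (finrank ℂ V) := Fintype.equivFinOfCardEq hcard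
  refine ⟨v.reindex e, μ ∘ e.symm, fun i => hμ _, fun i => ?_⟩
  simp only [Basis.reindex_apply, Function.comp_apply]
  exact hsv _

/-- The trace of an endomorphism in terms of an eigenbasis. -/
theorem trace_eq_sum_of_eigenbasis {V : Type*} [AddCommGroup V] [Module ℂ V]
    {ι : Type*} [Fintype ι] (b : Basis ι ℂ V) (f : Module.End ℂ V) (μ : ι → ℂ)
    (h : ∀ i, f (b i) = μ i • b i) : LinearMap.trace ℂ V f = ∑ i, μ i := by
  classical
  rw [LinearMap.trace_eq_matrix_trace ℂ b f, Matrix.trace]
  refine Finset.sum_congr rfl fun i _ => ?_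
  rw [Matrix.diag_apply, LinearMap.toMatrix_apply, h i]
  simp

end Cfsg.Agent.Helper3
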