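import Mathlib
import Cfsg.Agent.Helper3.Eigen

/-!
# Values of characters of finite-order elements (helper3)

For a finite-dimensional complex representation `ρ` and an element `g` of finite order we get an
eigenbasis of `ρ g`, and derive: the character values of powers of `g` as power sums of roots of
unity, `χ(g⁻¹) = conj χ(g)`, `‖χ(g)‖ ≤ χ(1)`, integrality, and the equality cases.
-/

set_option autoImplicit false

namespace Cfsg.Agent.Helper3

open Module
open scoped ComplexConjugate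

variable {G : Type*} [Group G] {V : Type*} [AddCommGroup V] [Module ℂ V]
  (ρ : Representation ℂ G V)

/-- Eigenbasis for `ρ g`, `g` of finite order. -/
theorem exists_eigenbasis_rep [FiniteDimensional ℂ V] (g : G) (hg : IsOfFinOrder g) :
    ∃ (b : Basis (Fin (finrank ℂ V)) ℂ V) (μ : Fin (finrank ℂ V) → ℂ),
      (∀ i, μ i ^ orderOf g = 1) ∧ ∀ i, ρ g (b i) = μ i • b i := by
  apply exists_eigenbasis_of_pow_eq_one (ρ g) (orderOf g) hg.orderOf_pos.ne'
  rw [← map_pow, pow_orderOf_eq_one, map_one]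

theorem rep_pow_apply_eigen (g : G) (v : V) (c : ℂ) (h : ρ g v = c • v) (k : ℕ) :
    ρ (g ^ k) v = c ^ k • v := by
  induction k with
  | zero => simp
  | succ k ih =>
    rw [pow_succ, map_mul, Module.End.mul_apply, h, map_smul, ih, smul_smul, pow_succ, mul_comm]

theorem rep_inv_apply_eigen (g : G) (v : V) (c : ℂ) (hc : c ≠ 0) (h : ρ g v = c • v) :
    ρ g⁻¹ v = c⁻¹ • v := by
  have h1 : ρ g⁻¹ (ρ g v) = v := by
    rw [← Module.End.mul_apply, ← map_mul, inv_mul_cancel, map_one, Module.End.one_apply]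
  rw [h, map_smul] at h1
  calc ρ g⁻¹ v = c⁻¹ • (c • ρ g⁻¹ v) := by rw [smul_smul, inv_mul_cancel₀ hc, one_smul]
    _ = c⁻¹ • v := by rw [h1]

/-- Character values on powers of `g` are power sums of the eigenvalues. -/
theorem exists_roots_char_pow [FiniteDimensional ℂ V] (g : G) (hg : IsOfFinOrder g) :
    ∃ μ : Fin (finrank ℂ V) → ℂ, (∀ i, μ i ^ orderOf g = 1) ∧
      (∀ k : ℕ, ρ.character (g ^ k) = ∑ i, μ i ^ k) ∧
      (ρ.character g⁻¹ = ∑ i, (μ i)⁻¹) := by
  obtain ⟨b, μ, hμ, hb⟩ := exists_eigenbasis_rep ρ g hg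
  refine ⟨μ, hμ, fun k => ?_, ?_⟩
  · exact trace_eq_sum_of_eigenbasis b _ _ fun i => rep_pow_apply_eigen ρ g _ _ (hb i) k
  · refine trace_eq_sum_of_eigenbasis b _ _ fun i => rep_inv_apply_eigen ρ g _ _ ?_ (hb i)
    intro h0
    have := hμ i
    rw [h0, zero_pow hg.orderOf_pos.ne'] at this
    exact zero_ne_one this

theorem norm_eq_one_of_pow_orderOf {g : G} (hg : IsOfFinOrder g) {c : ℂ}
    (hc : c ^ orderOf g = 1) : ‖c‖ = 1 :=
  Complex.norm_eq_one_of_pow_eq_one hc hg.orderOf_pos.ne'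

/-- `χ(g⁻¹) = conj χ(g)` for elements of finite order. -/
theorem char_inv [FiniteDimensional ℂ V] (g : G) (hg : IsOfFinOrder g) :
    ρ.character g⁻¹ = conj (ρ.character g) := by
  obtain ⟨μ, hμ, hpow, hinv⟩ := exists_roots_char_pow ρ g hg
  have h1 := hpow 1
  rw [pow_one] at h1
  rw [hinv, h1, map_sum]
  refine Finset.sum_congr rfl fun i _ => ?_
  rw [pow_one, Complex.inv_eq_conj (norm_eq_one_of_pow_orderOf hg (hμ i))]

/-- `‖χ(g)‖ ≤ χ(1)`. -/
theorem norm_char_le [FiniteDimensional ℂ V] (g : G) (hg : IsOfFinOrder g) :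
    ‖ρ.character g‖ ≤ (finrank ℂ V : ℝ) := by
  obtain ⟨μ, hμ, hpow, -⟩ := exists_roots_char_pow ρ g hg
  have h1 := hpow 1
  rw [pow_one] at h1
  rw [h1]
  calc ‖∑ i, μ i ^ 1‖ ≤ ∑ i, ‖μ i ^ 1‖ := norm_sum_le _ _
    _ = ∑ _i : Fin (finrank ℂ V), (1 : ℝ) := by
        refine Finset.sum_congr rfl fun i _ => ?_
        rw [pow_one, norm_eq_one_of_pow_orderOf hg (hμ i)]
    _ = (finrank ℂ V : ℝ) := by simp

/-- Character values are algebraic integers. -/
theorem isIntegral_char [FiniteDimensional ℂ V] (g : G) (hg : IsOfFinOrder g) :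
    IsIntegral ℤ (ρ.character g) := by
  obtain ⟨μ, hμ, hpow, -⟩ := exists_roots_char_pow ρ g hg
  have h1 := hpow 1
  rw [pow_one] at h1
  rw [h1]
  refine IsIntegral.sum _ fun i _ => ?_
  rw [pow_one]
  refine ⟨Polynomial.X ^ orderOf g - 1, Polynomial.monic_X_pow_sub_C 1 hg.orderOf_pos.ne', ?_⟩
  simp [hμ i]

end Cfsg.Agent.Helper3
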