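import Mathlib
import Cfsg.Agent.Helper3.CharVal

/-!
# Equality cases for `‖χ(g)‖ ≤ χ(1)` (helper3)
-/

set_option autoImplicit false

namespace Cfsg.Agent.Helper3

open Module
open scoped ComplexConjugate

/-- Equality in the triangle inequality for unit complex numbers forces them to be equal. -/
theorem eq_of_norm_sum_eq_card {d : ℕ} (μ : Fin d → ℂ) (hμ : ∀ i, ‖μ i‖ = 1)
    (h : ‖∑ i, μ i‖ = (d : ℝ)) (i j : Fin d) : μ i = μ j := by
  by_contra hij
  have hd : 0 < d := Fin.pos i
  have hd' : (0 : ℝ) < d := by exact_mod_cast hd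
  have key := norm_sum_lt_of_strictConvexSpace (V := ℂ) (t := Finset.univ)
    (w := fun _ : Fin d => (1 / d : ℝ)) (r := 1) (z := μ)
    (fun _ _ => by positivity) (by simp [hd'.ne']) (Finset.mem_univ i) (Finset.mem_univ j) hij
    (by positivity) (by positivity) (fun k _ => (hμ k).le)
  rw [← Finset.smul_sum, norm_smul, h] at key
  simp [hd'.ne'] at key

variable {G : Type*} [Group G] {V : Type*} [AddCommGroup V] [Module ℂ V]
  (ρ : Representation ℂ G V)

/-- `‖χ(g)‖ = χ(1)` iff `ρ g` is a scalar. -/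
theorem norm_char_eq_iff [FiniteDimensional ℂ V] (g : G) (hg : IsOfFinOrder g) :
    ‖ρ.character g‖ = (finrank ℂ V : ℝ) ↔ ∃ ω : ℂ, ρ g = ω • (LinearMap.id : V →ₗ[ℂ] V) := by
  obtain ⟨b, μ, hμ, hb⟩ := exists_eigenbasis_rep ρ g hg
  have hχ : ρ.character g = ∑ i, μ i := trace_eq_sum_of_eigenbasis b _ _ hb
  constructor
  · intro h
    rw [hχ] at h
    have heq := eq_of_norm_sum_eq_card μ (fun i => norm_eq_one_of_pow_orderOf hg (hμ i)) h
    by_cases hd : 0 < finrank ℂ V
    · refine ⟨μ ⟨0, hd⟩, b.ext fun i => ?_⟩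
      rw [hb i, heq i ⟨0, hd⟩]
      simp
    · refine ⟨0, b.ext fun i => ?_⟩
      exact absurd (Fin.pos i) hd
  · rintro ⟨ω, hω⟩
    by_cases hd : 0 < finrank ℂ V
    · have h1 : ∀ i, μ i = ω := by
        intro i
        have h2 : ρ g (b i) = ω • b i := by rw [hω]; simp
        rw [hb i] at h2
        have h3 : (μ i - ω) • b i = 0 := by rw [sub_smul, h2, sub_self]
        rcases smul_eq_zero.mp h3 with h | h
        · exact sub_eq_zero.mp h
        · exact absurd h (b.ne_zero i)
      rw [hχ]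
      simp only [h1, Finset.sum_const, Finset.card_univ, Fintype.card_fin, nsmul_eq_mul, norm_mul,
        Complex.norm_natCast]
      rw [← h1 ⟨0, hd⟩, norm_eq_one_of_pow_orderOf hg (hμ _), mul_one]
    · have hd0 : finrank ℂ V = 0 := by omega
      rw [hχ]
      have : IsEmpty (Fin (finrank ℂ V)) := by rw [hd0]; infer_instance
      simp [hd0]

/-- `χ(g) = χ(1)` iff `ρ g = 1`. -/
theorem char_eq_finrank_iff [FiniteDimensional ℂ V] (g : G) (hg : IsOfFinOrder g) :
    ρ.character g = (finrank ℂ V : ℂ) ↔ ρ g = LinearMap.id := by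
  constructor
  · intro h
    obtain ⟨b, μ, hμ, hb⟩ := exists_eigenbasis_rep ρ g hg
    have hχ : ρ.character g = ∑ i, μ i := trace_eq_sum_of_eigenbasis b _ _ hb
    have hn : ‖∑ i, μ i‖ = (finrank ℂ V : ℝ) := by
      rw [← hχ, h, Complex.norm_natCast]
    have heq := eq_of_norm_sum_eq_card μ (fun i => norm_eq_one_of_pow_orderOf hg (hμ i)) hn
    refine b.ext fun i => ?_
    have hi : μ i = 1 := by
      have h2 : ∑ j : Fin (finrank ℂ V), μ j = (finrank ℂ V : ℂ) * μ i := by
        rw [Finset.sum_congr rfl fun j _ => heq j i]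
        simp
      rw [← hχ, h] at h2
      have hd : (finrank ℂ V : ℂ) ≠ 0 := by
        have := Fin.pos i
        exact_mod_cast this.ne'
      have h3 : (finrank ℂ V : ℂ) * μ i = (finrank ℂ V : ℂ) * 1 := by rw [← h2, mul_one]
      exact mul_left_cancel₀ hd h3
    rw [hb i, hi, one_smul, LinearMap.id_apply]
  · intro h
    rw [Representation.character, h]
    exact LinearMap.trace_id ℂ V

end Cfsg.Agent.Helper3
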