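import Mathlib
import Cfsg.Prelude.Def_Characters

/-!
# Transporting representations to coordinate spaces (helper3)

Every finite-dimensional complex representation is equivalent to one on `Fin n → ℂ`, so its
character is a `Cfsg.IsCharacter`; if it is irreducible, the character is a `Cfsg.IsIrrCharacter`.
-/

set_option autoImplicit false

namespace Cfsg.Agent.Helper3

open Module Representation

section Subrep

variable {k G V W : Type*} [CommSemiring k] [Monoid G] [AddCommMonoid V] [Module k V]
  [AddCommMonoid W] [Module k W] {ρ : Representation k G V} {σ : Representation k G W}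

/-- Image of a subrepresentation under an equivalence of representations. -/
def subrepMap (φ : ρ.Equiv σ) (A : Subrepresentation ρ) : Subrepresentation σ where
  toSubmodule := A.toSubmodule.map φ.toLinearMap
  apply_mem_toSubmodule g v hv := by
    obtain ⟨w, hw, rfl⟩ := hv
    exact ⟨ρ g w, A.apply_mem_toSubmodule g hw,
      IntertwiningMap.isIntertwining ρ σ φ.toIntertwiningMap g w⟩

theorem mem_subrepMap (φ : ρ.Equiv σ) (A : Subrepresentation ρ) (v : W) :
    v ∈ subrepMap φ A ↔ φ.symm v ∈ A := by
  constructor
  · rintro ⟨w, hw, rfl⟩
    have : φ.symm (φ w) = w := φ.symm_apply_apply w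
    change φ.symm (φ w) ∈ A
    rw [this]; exact hw
  · intro h
    exact ⟨φ.symm v, h, φ.apply_symm_apply v⟩

theorem subrepMap_symm_subrepMap (φ : ρ.Equiv σ) (A : Subrepresentation ρ) :
    subrepMap φ.symm (subrepMap φ A) = A := by
  apply SetLike.ext
  intro v
  rw [mem_subrepMap, mem_subrepMap]
  have : φ.symm (φ.symm.symm v) = v := φ.symm.apply_symm_apply v
  rw [this]

theorem subrepMap_subrepMap_symm (φ : ρ.Equiv σ) (A : Subrepresentation σ) :
    subrepMap φ (subrepMap φ.symm A) = A := by
  apply SetLike.ext
  intro v
  rw [mem_subrepMap, mem_subrepMap]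
  have : φ.symm.symm (φ.symm v) = v := φ.symm.symm_apply_apply v
  rw [this]

theorem subrepMap_mono (φ : ρ.Equiv σ) {A B : Subrepresentation ρ} (h : A ≤ B) :
    subrepMap φ A ≤ subrepMap φ B := by
  intro v hv
  rw [mem_subrepMap] at hv ⊢
  exact h hv

/-- Equivalent representations have isomorphic lattices of subrepresentations. -/
def subrepOrderIso (φ : ρ.Equiv σ) : Subrepresentation ρ ≃o Subrepresentation σ where
  toFun := subrepMap φ
  invFun := subrepMap φ.symm
  left_inv A := subrepMap_symm_subrepMap φ A
  right_inv A := subrepMap_subrepMap_symm φ A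
  map_rel_iff' := by
    intro A B
    constructor
    · intro h
      have h' : subrepMap φ A ≤ subrepMap φ B := h
      have := subrepMap_mono φ.symm h'
      rwa [subrepMap_symm_subrepMap, subrepMap_symm_subrepMap] at this
    · exact subrepMap_mono φ

end Subrep

section Irr

variable {k G V W : Type*} [Field k] [Monoid G] [AddCommGroup V] [Module k V]
  [AddCommGroup W] [Module k W] {ρ : Representation k G V} {σ : Representation k G W}

/-- Irreducibility is invariant under equivalence. -/
theorem isIrreducible_of_equiv (φ : ρ.Equiv σ) [h : ρ.IsIrreducible] : σ.IsIrreducible :=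
  (OrderIso.isSimpleOrder_iff (subrepOrderIso φ)).mp h

/-- Transport a representation along a linear equivalence. -/
noncomputable def transportRep (e : V ≃ₗ[k] W) (ρ : Representation k G V) : Representation k G W :=
  (e.conjRingEquiv.toMulEquiv.toMonoidHom).comp ρ

theorem transportRep_apply (e : V ≃ₗ[k] W) (ρ : Representation k G V) (g : G) (w : W) :
    transportRep e ρ g w = e (ρ g (e.symm w)) := rfl

/-- The transported representation is equivalent to the original one. -/
noncomputable def transportEquiv (e : V ≃ₗ[k] W) (ρ : Representation k G V) :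
    ρ.Equiv (transportRep e ρ) :=
  Representation.Equiv.mk e (fun g => by
    ext v
    simp [transportRep_apply])

end Irr

section Char

variable {G : Type*} [Group G] {V : Type*} [AddCommGroup V] [Module ℂ V] [FiniteDimensional ℂ V]
  (ρ : Representation ℂ G V)

/-- The character of any finite-dimensional complex representation is a `Cfsg.IsCharacter`. -/
theorem isCharacter_character : Cfsg.IsCharacter G ρ.character := by
  let e : V ≃ₗ[ℂ] (Fin (finrank ℂ V) → ℂ) := (finBasis ℂ V).equivFun
  exact ⟨finrank ℂ V, transportRep e ρ, (char_iso (transportEquiv e ρ)).symm⟩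

/-- The character of a finite-dimensional irreducible complex representation is a
`Cfsg.IsIrrCharacter`. -/
theorem isIrrCharacter_character [ρ.IsIrreducible] : Cfsg.IsIrrCharacter G ρ.character := by
  let e : V ≃ₗ[ℂ] (Fin (finrank ℂ V) → ℂ) := (finBasis ℂ V).equivFun
  exact ⟨finrank ℂ V, transportRep e ρ, isIrreducible_of_equiv (transportEquiv e ρ),
    (char_iso (transportEquiv e ρ)).symm⟩

end Char

end Cfsg.Agent.Helper3
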