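import Mathlib
import Cfsg.Prelude.Def_Characters
import Cfsg.Agent.Helper3.CharVal
import Cfsg.Agent.Helper3.Transport

/-!
# First orthogonality relation for `Cfsg.IrrCharacter` (helper3)
-/

set_option autoImplicit false

namespace Cfsg.Agent.Helper3

open Module Representation
open scoped ComplexConjugate

section classInner

variable {G : Type*} [Group G] [Fintype G]

theorem classInner_def (φ ψ : G → ℂ) :
    Cfsg.classInner φ ψ = (Nat.card G : ℂ)⁻¹ * ∑ g : G, φ g * conj (ψ g) := rfl

theorem classInner_add_left (φ₁ φ₂ ψ : G → ℂ) :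
    Cfsg.classInner (φ₁ + φ₂) ψ = Cfsg.classInner φ₁ ψ + Cfsg.classInner φ₂ ψ := by
  simp only [classInner_def, Pi.add_apply, add_mul, Finset.sum_add_distrib, mul_add]

theorem classInner_sub_left (φ₁ φ₂ ψ : G → ℂ) :
    Cfsg.classInner (φ₁ - φ₂) ψ = Cfsg.classInner φ₁ ψ - Cfsg.classInner φ₂ ψ := by
  simp only [classInner_def, Pi.sub_apply, sub_mul, Finset.sum_sub_distrib, mul_sub]

theorem classInner_smul_left (c : ℂ) (φ ψ : G → ℂ) :
    Cfsg.classInner (c • φ) ψ = c * Cfsg.classInner φ ψ := by
  simp only [classInner_def, Pi.smul_apply, smul_eq_mul, mul_assoc, ← Finset.mul_sum]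
  ring

theorem classInner_zero_left (ψ : G → ℂ) : Cfsg.classInner (0 : G → ℂ) ψ = 0 := by
  simp [classInner_def]

theorem classInner_sum_left {ι : Type*} (s : Finset ι) (φ : ι → G → ℂ) (ψ : G → ℂ) :
    Cfsg.classInner (∑ i ∈ s, φ i) ψ = ∑ i ∈ s, Cfsg.classInner (φ i) ψ := by
  classical
  induction s using Finset.induction with
  | empty => simp [classInner_zero_left]
  | insert i s hi ih => rw [Finset.sum_insert hi, Finset.sum_insert hi, classInner_add_left, ih]

theorem classInner_add_right (φ ψ₁ ψ₂ : G → ℂ) :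
    Cfsg.classInner φ (ψ₁ + ψ₂) = Cfsg.classInner φ ψ₁ + Cfsg.classInner φ ψ₂ := by
  simp only [classInner_def, Pi.add_apply, map_add, mul_add, Finset.sum_add_distrib]

theorem classInner_smul_right (c : ℂ) (φ ψ : G → ℂ) :
    Cfsg.classInner φ (c • ψ) = conj c * Cfsg.classInner φ ψ := by
  simp only [classInner_def, Pi.smul_apply, smul_eq_mul, map_mul, Finset.mul_sum]
  refine Finset.sum_congr rfl fun g _ => ?_
  ring

theorem classInner_conj_symm (φ ψ : G → ℂ) :
    conj (Cfsg.classInner φ ψ) = Cfsg.classInner ψ φ := by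
  simp only [classInner_def, map_mul, map_inv₀, map_natCast, map_sum, Complex.conj_conj]
  congr 1
  refine Finset.sum_congr rfl fun g _ => ?_
  ring

end classInner

section Orth

variable {G : Type*} [Group G] [Fintype G]
  {V W : Type*} [AddCommGroup V] [Module ℂ V] [FiniteDimensional ℂ V]
  [AddCommGroup W] [Module ℂ W] [FiniteDimensional ℂ W]
  (ρ : Representation ℂ G V) (σ : Representation ℂ G W)

open scoped Classical in
/-- First orthogonality relation, phrased with `Cfsg.classInner`. -/
theorem classInner_char_irreducible [ρ.IsIrreducible] [σ.IsIrreducible] :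
    Cfsg.classInner ρ.character σ.character = if Nonempty (σ.Equiv ρ) then 1 else 0 := by
  have hne : (Nat.card G : ℂ) ≠ 0 := by
    exact_mod_cast Nat.card_pos.ne'
  let _ : Invertible (Nat.card G : ℂ) := invertibleOfNonzero hne
  have h := char_orthonormal ρ σ
  rw [classInner_def]
  have h2 : ∀ g : G, conj (σ.character g) = σ.character g⁻¹ := fun g =>
    (char_inv σ g (isOfFinOrder_of_finite g)).symm
  simp only [h2]
  rw [h]

theorem classInner_char_self [ρ.IsIrreducible] : Cfsg.classInner ρ.character ρ.character = 1 := by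
  classical
  rw [classInner_char_irreducible, if_pos ⟨Representation.Equiv.refl ρ⟩]

end Orth

section Irr

variable {G : Type*} [Group G] [Fintype G]

open scoped Classical in
/-- Orthonormality of the irreducible characters. -/
theorem classInner_irr (χ ψ : Cfsg.IrrCharacter G) :
    Cfsg.classInner (χ : G → ℂ) (ψ : G → ℂ) = if χ = ψ then 1 else 0 := by
  obtain ⟨χ, n, ρ, hρ, rfl⟩ := χ
  obtain ⟨ψ, m, σ, hσ, rfl⟩ := ψ
  split_ifs with h
  · have h' : ρ.character = σ.character := congrArg Subtype.val h
    change Cfsg.classInner ρ.character σ.character = 1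
    rw [← h']; exact classInner_char_self ρ
  · change Cfsg.classInner ρ.character σ.character = 0
    rw [classInner_char_irreducible, if_neg]
    rintro ⟨φ⟩
    exact h (Subtype.ext (char_iso φ).symm)

theorem classInner_irr_self (χ : Cfsg.IrrCharacter G) :
    Cfsg.classInner (χ : G → ℂ) (χ : G → ℂ) = 1 := by
  classical
  rw [classInner_irr, if_pos rfl]

theorem classInner_irr_ne {χ ψ : Cfsg.IrrCharacter G} (h : χ ≠ ψ) :
    Cfsg.classInner (χ : G → ℂ) (ψ : G → ℂ) = 0 := by
  classical
  rw [classInner_irr, if_neg h]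

/-- The irreducible characters are linearly independent. -/
theorem linearIndependent_irr :
    LinearIndependent ℂ (fun χ : Cfsg.IrrCharacter G => (χ : G → ℂ)) := by
  classical
  rw [linearIndependent_iff']
  intro s c hsum ψ hψ
  have h1 : Cfsg.classInner (∑ χ ∈ s, c χ • (χ : G → ℂ)) (ψ : G → ℂ) = 0 := by
    rw [hsum, classInner_zero_left]
  rw [classInner_sum_left] at h1
  simp only [classInner_smul_left, classInner_irr] at h1
  simpa [hψ] using h1

instance finite_irrCharacter : Finite (Cfsg.IrrCharacter G) :=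
  LinearIndependent.finite (R := ℂ) (M := G → ℂ) linearIndependent_irr

end Irr

end Cfsg.Agent.Helper3
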