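import Mathlib
import Cfsg.Prelude.Def_Characters
import Cfsg.Agent.Helper3.CharEq
import Cfsg.Agent.Helper3.Orthogonality

/-!
# The subgroup of elements acting as scalars (centre of a representation) (helper3)
-/

set_option autoImplicit false

namespace Cfsg.Agent.Helper3

open Module Representation
open scoped ComplexConjugate

section

variable {G : Type*} [Group G] {V : Type*} [AddCommGroup V] [Module ℂ V]
  (ρ : Representation ℂ G V)

/-- The subgroup of elements acting as scalars (the "centre" `Z(ρ)`). -/
def scalarSubgroup : Subgroup G where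
  carrier := {x | ∃ c : ℂ, ρ x = c • (LinearMap.id : V →ₗ[ℂ] V)}
  one_mem' := ⟨1, by rw [map_one, one_smul]; rfl⟩
  mul_mem' := by
    rintro x y ⟨c, hc⟩ ⟨c', hc'⟩
    refine ⟨c * c', ?_⟩
    rw [map_mul, hc, hc']
    ext v
    simp [mul_smul, smul_comm c c']
  inv_mem' := by
    rintro x ⟨c, hc⟩
    refine ⟨c⁻¹, ?_⟩
    have h1 : ρ x * ρ x⁻¹ = 1 := by rw [← map_mul, mul_inv_cancel, map_one]
    rw [hc] at h1
    by_cases h0 : c = 0
    · rw [h0, zero_smul, zero_mul] at h1
      have hsub : Subsingleton V := by
        constructor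
        intro a b
        have ha : a = (1 : Module.End ℂ V) a := rfl
        have hb : b = (1 : Module.End ℂ V) b := rfl
        rw [ha, hb, ← h1]; simp
      exact Subsingleton.elim _ _
    · ext v
      have := congrArg (fun f => c⁻¹ • f v) h1
      simp only [Module.End.mul_apply, LinearMap.smul_apply, LinearMap.id_apply,
        Module.End.one_apply, smul_smul, inv_mul_cancel₀ h0, one_smul] at this
      rw [this]; simp

theorem mem_scalarSubgroup (x : G) :
    x ∈ scalarSubgroup ρ ↔ ∃ c : ℂ, ρ x = c • (LinearMap.id : V →ₗ[ℂ] V) := Iff.rfl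

instance scalarSubgroup_normal : (scalarSubgroup ρ).Normal := by
  constructor
  rintro x ⟨c, hc⟩ y
  refine ⟨c, ?_⟩
  rw [map_mul, map_mul, hc]
  ext v
  simp only [Module.End.mul_apply, LinearMap.smul_apply, LinearMap.id_apply, map_smul]
  congr 1
  rw [← Module.End.mul_apply, ← map_mul, mul_inv_cancel, map_one, Module.End.one_apply]

/-- Commutators act trivially when everything acts by scalars. -/
theorem rep_commutator_eq_one_of_scalar (h : scalarSubgroup ρ = ⊤) (x y : G) :
    ρ (x * y * x⁻¹ * y⁻¹) = 1 := by
  obtain ⟨c, hc⟩ : x ∈ scalarSubgroup ρ := by rw [h]; trivial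
  have hcomm : ρ x * ρ y = ρ y * ρ x := by
    rw [hc]; ext v; simp
  calc ρ (x * y * x⁻¹ * y⁻¹) = (ρ x * ρ y) * ρ x⁻¹ * ρ y⁻¹ := by simp only [map_mul]
    _ = ρ y * (ρ x * ρ x⁻¹) * ρ y⁻¹ := by rw [hcomm, mul_assoc (ρ y)]
    _ = 1 := by
      rw [← map_mul, mul_inv_cancel, map_one, mul_one, ← map_mul, mul_inv_cancel, map_one]

end

section Simple

variable {G : Type*} [Group G] [Finite G] {V : Type*} [AddCommGroup V] [Module ℂ V]
  [FiniteDimensional ℂ V] (ρ : Representation ℂ G V)

/-- In a perfect simple group, if a nonidentity element acts as a scalar in an irreducible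
representation, then the character is trivial. -/
theorem character_eq_one_of_scalar [IsSimpleGroup G] [ρ.IsIrreducible]
    (hperf : commutator G = ⊤) (x : G) (hx1 : x ≠ 1)
    (hx : ∃ c : ℂ, ρ x = c • (LinearMap.id : V →ₗ[ℂ] V)) : ρ.character = fun _ => 1 := by
  classical
  have : Fintype G := Fintype.ofFinite G
  have htop : scalarSubgroup ρ = ⊤ := by
    rcases (scalarSubgroup_normal ρ).eq_bot_or_eq_top with h | h
    · exfalso
      have : x ∈ scalarSubgroup ρ := hx
      rw [h, Subgroup.mem_bot] at this
      exact hx1 this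
    · exact h
  -- the kernel is everything
  have hker : ∀ y : G, ρ y = 1 := by
    intro y
    have hy : y ∈ commutator G := by rw [hperf]; trivial
    rw [commutator_def] at hy
    have hle : ⁅(⊤ : Subgroup G), (⊤ : Subgroup G)⁆ ≤ (ρ : G →* Module.End ℂ V).ker := by
      rw [Subgroup.commutator_le]
      intro a _ b _
      rw [MonoidHom.mem_ker, commutatorElement_def]
      exact rep_commutator_eq_one_of_scalar ρ htop a b
    exact MonoidHom.mem_ker.mp (hle hy)
  have hchar : ∀ y : G, ρ.character y = (finrank ℂ V : ℂ) := by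
    intro y
    rw [Representation.character, hker y]
    exact LinearMap.trace_one ℂ V
  -- orthonormality gives degree one
  have hself := classInner_char_self ρ
  rw [classInner_def] at hself
  simp only [hchar, Complex.conj_natCast, Finset.sum_const, Finset.card_univ, nsmul_eq_mul] at hself
  have hG : (Nat.card G : ℂ) ≠ 0 := by exact_mod_cast Nat.card_pos.ne'
  rw [← Nat.card_eq_fintype_card, ← mul_assoc, inv_mul_cancel₀ hG, one_mul] at hself
  have hd : finrank ℂ V = 1 := by
    have h2 : (finrank ℂ V) * (finrank ℂ V) = 1 := by exact_mod_cast hself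
    exact Nat.eq_one_of_mul_eq_one_right h2
  funext y
  rw [hchar y, hd, Nat.cast_one]

end Simple

end Cfsg.Agent.Helper3
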