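import Mathlib
import Cfsg.Prelude.Def_Characters
import Cfsg.Agent.Helper3.CharVal
import Cfsg.Agent.Helper3.ScalarSubgroup
import Cfsg.Agent.Helper80.Integrality

/-!
# `χ(1) · |A|` divides `|G|` when `A` acts by scalars (helper3)

For an irreducible complex representation `ρ` of a finite group `G` and a subgroup `A` all of
whose elements act as scalars (`A ≤ Z(χ)`), `χ(1) * |A|` divides `|G|`.  In particular
`χ(1)` divides `|G : Z(G)|`.
-/

set_option autoImplicit false

namespace Cfsg.Agent.Helper3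

open Module Representation

section Transversal

variable {G : Type*} [Group G] [Fintype G]

/-- A sum over the group of a function constant on left cosets of `A` is `|A|` times the sum over
a left transversal. -/
theorem sum_eq_card_nsmul_sum_transversal {M : Type*} [AddCommMonoid M] (A : Subgroup G)
    (S : Set G) (hS : Subgroup.IsComplement S (A : Set G)) [Fintype S] (F : G → M)
    (hF : ∀ g, ∀ a ∈ A, F (g * a) = F g) :
    ∑ g, F g = Nat.card A • ∑ s : S, F s := by
  classical
  haveI : Fintype A := Fintype.ofFinite A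
  let e : S × (A : Set G) ≃ G := Equiv.ofBijective _ hS
  have h1 : ∑ g, F g = ∑ p : S × (A : Set G), F (e p) := (Equiv.sum_comp e F).symm
  rw [h1, Fintype.sum_prod_type, Finset.smul_sum]
  refine Finset.sum_congr rfl fun s _ => ?_
  have h2 : ∀ a : (A : Set G), F (e (s, a)) = F s := fun a => hF s a a.2
  rw [Finset.sum_congr rfl fun a _ => h2 a, Finset.sum_const, Finset.card_univ]
  congr 1
  rw [Nat.card_eq_fintype_card]
  rfl

end Transversal

section Lattice

variable {G : Type*} [Group G] [Fintype G] {V : Type*} [AddCommGroup V] [Module ℂ V]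
  [FiniteDimensional ℂ V] (ρ : Representation ℂ G V)

/-- If `α • 1 = ∑_{s ∈ S} χ(s⁻¹) ρ(s)` for a finite family `S` of group elements, then `α` is an
algebraic integer: it stabilises the `ℤ`-lattice spanned by roots of unity times the `ρ(g)`. -/
theorem isIntegral_of_smul_one_eq_sum [Nontrivial V] {ι : Type*} (S : Finset ι) (t : ι → G)
    (α : ℂ)
    (hα : α • (1 : Module.End ℂ V) = ∑ s ∈ S, ρ.character (t s)⁻¹ • ρ (t s)) :
    IsIntegral ℤ α := by
  classical
  set n := Fintype.card G with hn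
  haveI : NeZero n := ⟨Fintype.card_ne_zero⟩
  let gen : (rootsOfUnity n ℂ) × G → Module.End ℂ V := fun p => ((p.1 : ℂˣ) : ℂ) • ρ p.2
  let N : Submodule ℤ (Module.End ℂ V) := Submodule.span ℤ (Set.range gen)
  have hgen : ∀ (μ : ℂ) (g : G), μ ^ n = 1 → μ • ρ g ∈ N := by
    intro μ g hμ
    have hμ0 : μ ≠ 0 := by
      intro h0
      rw [h0, zero_pow (NeZero.ne n)] at hμ
      exact zero_ne_one hμ
    apply Submodule.subset_span
    refine ⟨(⟨Units.mk0 μ hμ0, ?_⟩, g), rfl⟩
    rw [mem_rootsOfUnity]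
    ext
    simpa using hμ
  have hNbot : N ≠ ⊥ := by
    intro h
    have h1 : (1 : ℂ) • ρ (1 : G) ∈ N := hgen 1 1 (one_pow n)
    rw [h, Submodule.mem_bot, one_smul, map_one] at h1
    exact one_ne_zero h1
  have hNfg : N.FG := Submodule.fg_span (Set.finite_range gen)
  refine isIntegral_of_smul_mem_submodule N hNbot hNfg α ?_
  intro x hx
  induction hx using Submodule.span_induction with
  | mem x hx =>
    obtain ⟨⟨μ, h⟩, rfl⟩ := hx
    have hμ : ((μ : ℂˣ) : ℂ) ^ n = 1 := by
      have := μ.2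
      rw [mem_rootsOfUnity] at this
      have h2 := congrArg (fun u : ℂˣ => (u : ℂ)) this
      simpa using h2
    show α • (((μ : ℂˣ) : ℂ) • ρ h) ∈ N
    have h3 : α • (((μ : ℂˣ) : ℂ) • ρ h) =
        ∑ s ∈ S, (((μ : ℂˣ) : ℂ) * ρ.character (t s)⁻¹) • ρ (t s * h) := by
      rw [smul_comm]
      have h4 : α • ρ h = (α • (1 : Module.End ℂ V)) * ρ h := by
        rw [smul_mul_assoc, one_mul]
      rw [h4, hα, Finset.sum_mul, Finset.smul_sum]
      refine Finset.sum_congr rfl fun s _ => ?_
      rw [smul_mul_assoc, ← map_mul, smul_smul]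
    rw [h3]
    refine Submodule.sum_mem _ fun s _ => ?_
    obtain ⟨ν, hν, hpow, -⟩ := exists_roots_char_pow ρ (t s)⁻¹ (isOfFinOrder_of_finite _)
    have h5 := hpow 1
    rw [pow_one] at h5
    rw [h5, Finset.mul_sum, Finset.sum_smul]
    refine Submodule.sum_mem _ fun i _ => ?_
    apply hgen
    rw [pow_one, mul_pow, hμ, one_mul]
    obtain ⟨k, hk⟩ := orderOf_dvd_card (x := (t s)⁻¹)
    rw [hn, hk, pow_mul, hν i, one_pow]
  | zero => rw [smul_zero]; exact N.zero_mem
  | add x y _ _ hx hy => rw [smul_add]; exact N.add_mem hx hy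
  | smul r x _ hx => rw [smul_comm]; exact N.smul_mem r hx

end Lattice

end Cfsg.Agent.Helper3

namespace Cfsg.Agent.Helper3

open Module Representation

section Main

variable {G : Type*} [Group G] [Fintype G] {V : Type*} [AddCommGroup V] [Module ℂ V]
  [FiniteDimensional ℂ V] (ρ : Representation ℂ G V)

/-- The operator `∑ χ(g⁻¹) ρ(g)` is the scalar `|G|/χ(1)` for irreducible `ρ`. -/
theorem sum_char_inv_smul_rep [ρ.IsIrreducible] :
    ∃ c : ℂ, ∑ g : G, ρ.character g⁻¹ • ρ g = c • (1 : Module.End ℂ V) ∧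
      c * (finrank ℂ V : ℂ) = (Fintype.card G : ℂ) := by
  have hcomm : ∀ h : G, (∑ g : G, ρ.character g⁻¹ • ρ g) * ρ h =
      ρ h * ∑ g : G, ρ.character g⁻¹ • ρ g := by
    intro h
    rw [Finset.sum_mul, Finset.mul_sum]
    refine Fintype.sum_equiv (MulAut.conj h⁻¹).toEquiv _ _ fun g => ?_
    simp only [MulEquiv.toEquiv_eq_coe, EquivLike.coe_coe, MulAut.conj_apply, inv_inv]
    rw [smul_mul_assoc, mul_smul_comm, ← map_mul, ← map_mul]
    have h1 : (h⁻¹ * g * h)⁻¹ = h⁻¹ * g⁻¹ * (h⁻¹)⁻¹ := by group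
    have h2 : h * (h⁻¹ * g * h) = g * h := by group
    rw [h1, Representation.char_conj, h2]
  obtain ⟨c, hc⟩ := Cfsg.Agent.Helper80.exists_scalar_of_commute ρ inferInstance _ hcomm
  refine ⟨c, hc, ?_⟩
  have h3 := congrArg (LinearMap.trace ℂ V) hc
  rw [map_sum, map_smul, LinearMap.trace_one, smul_eq_mul] at h3
  rw [← h3, ← Cfsg.Agent.Helper80.sum_char_mul_char_inv ρ inferInstance]
  refine Finset.sum_congr rfl fun g _ => ?_
  rw [map_smul, smul_eq_mul, mul_comm]
  rfl

/-- **Scalar index lemma.** If `ρ` is irreducible and every element of `A` acts as a scalar, then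
`χ(1) * |A|` divides `|G|`. -/
theorem finrank_mul_card_dvd_card_of_le_scalarSubgroup [ρ.IsIrreducible] (A : Subgroup G)
    (hA : A ≤ scalarSubgroup ρ) : finrank ℂ V * Nat.card A ∣ Nat.card G := by
  classical
  have hV : Nontrivial V := ((Cfsg.Agent.Helper80.isIrreducible_iff ρ).mp inferInstance).1
  obtain ⟨c, hc, hcd⟩ := sum_char_inv_smul_rep ρ
  obtain ⟨S, hS, -⟩ := Subgroup.exists_isComplement_left A (1 : G)
  haveI : Fintype S := Fintype.ofFinite S
  -- the summand is constant on left cosets of `A`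
  have hF : ∀ g, ∀ a ∈ A, ρ.character (g * a)⁻¹ • ρ (g * a) = ρ.character g⁻¹ • ρ g := by
    intro g a ha
    obtain ⟨l, hl⟩ := hA ha
    obtain ⟨m, hm⟩ := hA (A.inv_mem ha)
    have hlm : l * m = 1 := by
      have h1 : ρ a * ρ a⁻¹ = 1 := by rw [← map_mul, mul_inv_cancel, map_one]
      rw [hl, hm] at h1
      obtain ⟨v, hv⟩ := exists_ne (0 : V)
      have h2 := congrArg (fun f : Module.End ℂ V => f v) h1
      simp only [Module.End.mul_apply, LinearMap.smul_apply, LinearMap.id_apply,
        Module.End.one_apply, smul_smul] at h2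
      have h3 : (l * m - 1) • v = 0 := by rw [sub_smul, h2, one_smul, sub_self]
      rcases smul_eq_zero.mp h3 with h4 | h4
      · exact sub_eq_zero.mp h4
      · exact absurd h4 hv
    have h5 : ρ (g * a) = l • ρ g := by
      rw [map_mul, hl]; ext v; simp
    have h6 : ρ.character (g * a)⁻¹ = m * ρ.character g⁻¹ := by
      rw [mul_inv_rev, Representation.character, map_mul, hm]
      have : (m • (LinearMap.id : V →ₗ[ℂ] V)) * ρ g⁻¹ = m • ρ g⁻¹ := by ext v; simp
      rw [this, map_smul, smul_eq_mul]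
      rfl
    rw [h5, h6, smul_smul]
    have h8 : m * ρ.character g⁻¹ * l = ρ.character g⁻¹ := by
      calc m * ρ.character g⁻¹ * l = (l * m) * ρ.character g⁻¹ := by ring
        _ = ρ.character g⁻¹ := by rw [hlm, one_mul]
    rw [h8]
  have hsum := sum_eq_card_nsmul_sum_transversal A S hS
    (fun g => ρ.character g⁻¹ • ρ g) hF
  rw [hc] at hsum
  have hApos : (Nat.card A : ℂ) ≠ 0 := by exact_mod_cast Nat.card_pos.ne'
  have hα : (c / (Nat.card A : ℂ)) • (1 : Module.End ℂ V) =
      ∑ s ∈ (Finset.univ : Finset S), ρ.character ((s : G))⁻¹ • ρ (s : G) := by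
    have h7 : (Nat.card A : ℂ) • ∑ s : S, ρ.character ((s : G))⁻¹ • ρ (s : G) =
        c • (1 : Module.End ℂ V) := by
      rw [hsum]
      exact (Nat.cast_smul_eq_nsmul ℂ _ _)
    rw [div_eq_inv_mul, mul_smul, ← h7, smul_smul, inv_mul_cancel₀ hApos, one_smul]
  have hint := isIntegral_of_smul_one_eq_sum ρ Finset.univ (fun s : S => (s : G)) _ hα
  have hd0 : finrank ℂ V ≠ 0 := (Module.finrank_pos (R := ℂ) (M := V)).ne'
  have hd : (finrank ℂ V : ℂ) ≠ 0 := by exact_mod_cast hd0
  have hc' : c = (Fintype.card G : ℂ) / (finrank ℂ V : ℂ) := by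
    rw [← hcd]; field_simp
  have hne : finrank ℂ V * Nat.card A ≠ 0 := Nat.mul_ne_zero hd0 Nat.card_pos.ne'
  rw [Nat.card_eq_fintype_card (α := G)]
  apply Cfsg.Agent.Helper80.dvd_of_isIntegral_div hne
  convert hint using 1
  rw [hc']
  push_cast
  field_simp

/-- The degree of an irreducible complex representation divides the index of the centre. -/
theorem finrank_dvd_index_center [ρ.IsIrreducible] :
    finrank ℂ V ∣ (Subgroup.center G).index := by
  have hle : Subgroup.center G ≤ scalarSubgroup ρ := by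
    intro z hz
    have hcomm : ∀ g, ρ z * ρ g = ρ g * ρ z := by
      intro g
      rw [← map_mul, ← map_mul, (Subgroup.mem_center_iff.mp hz g)]
    obtain ⟨c, hc⟩ := Cfsg.Agent.Helper80.exists_scalar_of_commute ρ inferInstance _ hcomm
    exact ⟨c, hc⟩
  have h1 := finrank_mul_card_dvd_card_of_le_scalarSubgroup ρ (Subgroup.center G) hle
  have h2 := (Subgroup.center G).card_mul_index
  rw [← h2, mul_comm] at h1
  exact Nat.dvd_of_mul_dvd_mul_left Nat.card_pos h1

end Main

end Cfsg.Agent.Helper3
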