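import Mathlib

/-!
# Subrepresentations: atoms are irreducible, characters add over complements (helper3)
-/

set_option autoImplicit false

namespace Cfsg.Agent.Helper3

open Module Representation

section General

variable {k G V : Type*} [Field k] [Monoid G] [AddCommGroup V] [Module k V]
  {ρ : Representation k G V}

theorem subrep_lt_iff (A B : Subrepresentation ρ) : A < B ↔ A.toSubmodule < B.toSubmodule :=
  Iff.rfl

theorem subrep_le_iff (A B : Subrepresentation ρ) : A ≤ B ↔ A.toSubmodule ≤ B.toSubmodule :=
  Iff.rfl

instance wellFoundedLT_subrep [FiniteDimensional k V] : WellFoundedLT (Subrepresentation ρ) :=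
  ⟨(InvImage.wf (Subrepresentation.toSubmodule (ρ := ρ)) wellFounded_lt).mono
    (fun _ _ h => (subrep_lt_iff _ _).mp h)⟩

instance isAtomic_subrep [FiniteDimensional k V] : IsAtomic (Subrepresentation ρ) :=
  isAtomic_of_orderBot_wellFounded_lt wellFounded_lt

/-- Push a subrepresentation of a subrepresentation forward to the ambient representation. -/
def subrepPush (A : Subrepresentation ρ) (B : Subrepresentation A.toRepresentation) :
    Subrepresentation ρ where
  toSubmodule := B.toSubmodule.map A.toSubmodule.subtype
  apply_mem_toSubmodule g v hv := by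
    obtain ⟨w, hw, rfl⟩ := hv
    exact ⟨A.toRepresentation g w, B.apply_mem_toSubmodule g hw, rfl⟩

theorem mem_subrepPush (A : Subrepresentation ρ) (B : Subrepresentation A.toRepresentation)
    (v : V) : v ∈ subrepPush A B ↔ ∃ h : v ∈ A.toSubmodule, (⟨v, h⟩ : A.toSubmodule) ∈ B := by
  constructor
  · rintro ⟨w, hw, rfl⟩
    exact ⟨w.2, hw⟩
  · rintro ⟨h, hB⟩
    exact ⟨⟨v, h⟩, hB, rfl⟩

theorem subrepPush_le (A : Subrepresentation ρ) (B : Subrepresentation A.toRepresentation) :
    subrepPush A B ≤ A := by
  intro v hv
  obtain ⟨h, -⟩ := (mem_subrepPush A B v).mp hv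
  exact h

/-- An atom in the lattice of subrepresentations is an irreducible representation. -/
theorem isIrreducible_of_isAtom (A : Subrepresentation ρ) (hA : IsAtom A) :
    A.toRepresentation.IsIrreducible := by
  have hne : A ≠ ⊥ := hA.1
  refine { exists_pair_ne := ?_, eq_bot_or_eq_top := ?_ }
  · refine ⟨⊥, ⊤, ?_⟩
    intro h
    apply hne
    apply SetLike.ext
    intro v
    constructor
    · intro hv
      have h1 : (⟨v, hv⟩ : A.toSubmodule) ∈ (⊤ : Subrepresentation A.toRepresentation) :=
        Submodule.mem_top
      rw [← h] at h1
      have h2 : (⟨v, hv⟩ : A.toSubmodule) = 0 := (Submodule.mem_bot k).mp h1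
      have h3 : v = 0 := congrArg Subtype.val h2
      rw [h3]; exact (⊥ : Subrepresentation ρ).toSubmodule.zero_mem
    · intro hv
      have h3 : v = 0 := (Submodule.mem_bot k).mp hv
      rw [h3]; exact A.toSubmodule.zero_mem
  · intro B
    rcases (hA.le_iff.mp (subrepPush_le A B)) with h | h
    · left
      apply SetLike.ext
      intro w
      constructor
      · intro hw
        have h1 : (w : V) ∈ subrepPush A B := (mem_subrepPush A B _).mpr ⟨w.2, hw⟩
        rw [h] at h1
        have h3 : (w : V) = 0 := (Submodule.mem_bot k).mp h1
        have : w = 0 := Subtype.ext h3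
        rw [this]; exact (⊥ : Subrepresentation A.toRepresentation).toSubmodule.zero_mem
      · intro hw
        have : w = 0 := (Submodule.mem_bot k).mp hw
        rw [this]; exact B.toSubmodule.zero_mem
    · right
      apply SetLike.ext
      intro w
      constructor
      · intro _; exact Submodule.mem_top
      · intro _
        have h1 : (w : V) ∈ subrepPush A B := by rw [h]; exact w.2
        obtain ⟨_, h2⟩ := (mem_subrepPush A B _).mp h1
        exact h2

/-- Every nonzero subrepresentation of a finite-dimensional representation contains an
irreducible one. -/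
theorem exists_irreducible_le [FiniteDimensional k V] (B : Subrepresentation ρ) (hB : B ≠ ⊥) :
    ∃ A : Subrepresentation ρ, A ≤ B ∧ A ≠ ⊥ ∧ A.toRepresentation.IsIrreducible := by
  rcases eq_bot_or_exists_atom_le B with h | ⟨A, hA, hAB⟩
  · exact absurd h hB
  · exact ⟨A, hAB, hA.1, isIrreducible_of_isAtom A hA⟩

end General

section Char

variable {k G V : Type*} [Field k] [Monoid G] [AddCommGroup V] [Module k V]
  [FiniteDimensional k V] {ρ : Representation k G V}

/-- The character is additive over complementary subrepresentations. -/
theorem character_eq_add_of_isCompl (A B : Subrepresentation ρ) (h : IsCompl A B) :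
    ρ.character = A.toRepresentation.character + B.toRepresentation.character := by
  classical
  funext g
  have hc : IsCompl A.toSubmodule B.toSubmodule := by
    constructor
    · rw [disjoint_iff]
      have := h.inf_eq_bot
      exact congrArg Subrepresentation.toSubmodule this
    · rw [codisjoint_iff]
      have := h.sup_eq_top
      exact congrArg Subrepresentation.toSubmodule this
  let N : Bool → Submodule k V := fun b => if b then A.toSubmodule else B.toSubmodule
  have hint : DirectSum.IsInternal N := by
    rw [DirectSum.isInternal_submodule_iff_isCompl N (i := true) (j := false) (by simp)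
      (by ext b; cases b <;> simp)]
    exact hc
  have hf : ∀ b, Set.MapsTo (ρ g) (N b) (N b) := by
    intro b
    cases b
    · exact fun v hv => B.apply_mem_toSubmodule g hv
    · exact fun v hv => A.apply_mem_toSubmodule g hv
  have := LinearMap.trace_eq_sum_trace_restrict hint hf
  simp only [Representation.character, Pi.add_apply]
  rw [this, Fintype.sum_bool]
  rfl

end Char

end Cfsg.Agent.Helper3
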