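import Mathlib
import Cfsg.Prelude.Def_Characters
import Cfsg.Agent.Helper3.Orthogonality
import Cfsg.Agent.Helper3.Subrep

/-!
# Completeness of the irreducible characters (helper3)

A central element of `ℂ[G]` on which every irreducible character vanishes is zero; consequently a
class function orthogonal to all irreducible characters is zero, and every class function is the
combination of the irreducible characters with coefficients the inner products.
-/

set_option autoImplicit false

namespace Cfsg.Agent.Helper3

open Module Representation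
open scoped ComplexConjugate

section Algebra

variable {G : Type*} [Group G] [Fintype G] {V : Type*} [AddCommGroup V] [Module ℂ V]

/-- The action of a group-algebra element as an explicit sum. -/
theorem asAlgebraHom_eq_sum (ρ : Representation ℂ G V) (z : MonoidAlgebra ℂ G) :
    ρ.asAlgebraHom z = ∑ g, z.coeff g • ρ g := by
  rw [asAlgebraHom_def, MonoidAlgebra.lift_apply, Finsupp.sum_fintype]
  intro i; simp

theorem trace_asAlgebraHom (ρ : Representation ℂ G V) (z : MonoidAlgebra ℂ G) :
    LinearMap.trace ℂ V (ρ.asAlgebraHom z) = ∑ g, z.coeff g * ρ.character g := by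
  rw [asAlgebraHom_eq_sum, map_sum]
  refine Finset.sum_congr rfl fun g _ => ?_
  rw [map_smul, smul_eq_mul, Representation.character]

theorem asAlgebraHom_subrep (ρ : Representation ℂ G V) (A : Subrepresentation ρ)
    (z : MonoidAlgebra ℂ G) (x : A.toSubmodule) :
    ((A.toRepresentation.asAlgebraHom z x : A.toSubmodule) : V) = ρ.asAlgebraHom z x := by
  rw [asAlgebraHom_eq_sum, asAlgebraHom_eq_sum]
  simp only [LinearMap.sum_apply, LinearMap.smul_apply, Submodule.coe_sum, Submodule.coe_smul]
  rfl

/-- Schur's lemma for central elements of the group algebra. -/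
theorem central_acts_scalar [FiniteDimensional ℂ V] (ρ : Representation ℂ G V) [ρ.IsIrreducible]
    (z : MonoidAlgebra ℂ G) (hz : z ∈ Submonoid.center (MonoidAlgebra ℂ G)) :
    ∃ c : ℂ, ρ.asAlgebraHom z = c • (LinearMap.id : V →ₗ[ℂ] V) ∧
      c * (finrank ℂ V : ℂ) = ∑ g, z.coeff g * ρ.character g := by
  obtain ⟨c, hc⟩ :=
    (IsIrreducible.algebraMap_intertwiningMap_bijective_of_isAlgClosed (ρ := ρ)).2
      (IntertwiningMap.centralAlgebraMul ρ hz)
  have h1 : ρ.asAlgebraHom z = c • (LinearMap.id : V →ₗ[ℂ] V) := by
    have := congrArg IntertwiningMap.toLinearMap hc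
    rw [IntertwiningMap.algebraMap_apply] at this
    exact this.symm
  refine ⟨c, h1, ?_⟩
  rw [← trace_asAlgebraHom, h1, map_smul, LinearMap.trace_id, smul_eq_mul]

end Algebra

section Vanish

variable {G : Type*} [Group G] [Fintype G]

/-- A central element killed by all irreducible characters acts as zero on every
finite-dimensional representation. -/
theorem asAlgebraHom_eq_zero_of_central {V : Type*} [AddCommGroup V] [Module ℂ V]
    [FiniteDimensional ℂ V] (ρ : Representation ℂ G V)
    (z : MonoidAlgebra ℂ G) (hz : z ∈ Submonoid.center (MonoidAlgebra ℂ G))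
    (h : ∀ χ : Cfsg.IrrCharacter G, ∑ g, z.coeff g * (χ : G → ℂ) g = 0) :
    ρ.asAlgebraHom z = 0 := by
  have hne : NeZero (Nat.card G : ℂ) := ⟨by exact_mod_cast Nat.card_pos.ne'⟩
  set T := IntertwiningMap.centralAlgebraMul ρ hz with hT
  set K : Subrepresentation ρ := T.ker with hK
  obtain ⟨K', hK'⟩ := exists_isCompl K
  by_cases hbot : K' = ⊥
  · have htop : K = ⊤ := by
      have := hK'.sup_eq_top
      rwa [hbot, sup_bot_eq] at this
    ext v
    have hv : v ∈ K := by rw [htop]; exact Submodule.mem_top
    exact hv
  · exfalso
    obtain ⟨A, hAK', hAne, hAirr⟩ := exists_irreducible_le K' hbot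
    have hAK : A ≤ K := by
      intro v hv
      obtain ⟨c, hc1, hc2⟩ := central_acts_scalar A.toRepresentation z hz
      have h0 := h ⟨A.toRepresentation.character, isIrrCharacter_character A.toRepresentation⟩
      rw [h0] at hc2
      have hfr : (finrank ℂ A.toSubmodule : ℂ) ≠ 0 := by
        have : Nontrivial A.toSubmodule := by
          by_contra hnt
          rw [not_nontrivial_iff_subsingleton] at hnt
          apply hAne
          apply SetLike.ext
          intro w
          constructor
          · intro hw
            have : (⟨w, hw⟩ : A.toSubmodule) = 0 := Subsingleton.elim _ _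
            have h3 : w = 0 := congrArg Subtype.val this
            rw [h3]; exact (⊥ : Subrepresentation ρ).toSubmodule.zero_mem
          · intro hw
            have h3 : w = 0 := (Submodule.mem_bot ℂ).mp hw
            rw [h3]; exact A.toSubmodule.zero_mem
        have := Module.finrank_pos (R := ℂ) (M := A.toSubmodule)
        exact_mod_cast this.ne'
      have hc0 : c = 0 := by
        rcases mul_eq_zero.mp hc2 with h' | h'
        · exact h'
        · exact absurd h' hfr
      have h2 := asAlgebraHom_subrep ρ A z ⟨v, hv⟩
      rw [hc1, hc0] at h2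
      simp only [zero_smul, LinearMap.zero_apply, ZeroMemClass.coe_zero] at h2
      change T v = 0
      exact h2.symm
    have : A ≤ K ⊓ K' := le_inf hAK hAK'
    rw [hK'.inf_eq_bot] at this
    exact hAne (le_bot_iff.mp this)

/-- A central element of `ℂ[G]` killed by all irreducible characters is zero. -/
theorem central_eq_zero (z : MonoidAlgebra ℂ G) (hz : z ∈ Submonoid.center (MonoidAlgebra ℂ G))
    (h : ∀ χ : Cfsg.IrrCharacter G, ∑ g, z.coeff g * (χ : G → ℂ) g = 0) : z = 0 := by
  have h1 := asAlgebraHom_eq_zero_of_central (Representation.ofMulAction ℂ G G) z hz h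
  have h2 := Representation.asAlgebraHom_ofMulAction_smul_eq_mul z (1 : MonoidAlgebra ℂ G)
  rw [h1, mul_one] at h2
  exact h2.symm

end Vanish

end Cfsg.Agent.Helper3
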