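import Mathlib
import Cfsg.Prelude.Def_Characters
import Cfsg.Agent.Helper3.Completeness

/-!
# Class functions are spanned by the irreducible characters (helper3)
-/

set_option autoImplicit false

namespace Cfsg.Agent.Helper3

open Module Representation
open scoped ComplexConjugate

section

variable {G : Type*} [Group G]

theorem isClassFunction_of_isCharacter {χ : G → ℂ} (h : Cfsg.IsCharacter G χ) :
    Cfsg.IsClassFunction G χ := by
  obtain ⟨n, ρ, rfl⟩ := h
  intro g x
  exact char_conj ρ g x

theorem isCharacter_of_isIrrCharacter {χ : G → ℂ} (h : Cfsg.IsIrrCharacter G χ) :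
    Cfsg.IsCharacter G χ := by
  obtain ⟨n, ρ, -, rfl⟩ := h
  exact ⟨n, ρ, rfl⟩

theorem isClassFunction_irr (χ : Cfsg.IrrCharacter G) : Cfsg.IsClassFunction G (χ : G → ℂ) :=
  isClassFunction_of_isCharacter (isCharacter_of_isIrrCharacter χ.2)

theorem isClassFunction_add {f₁ f₂ : G → ℂ} (h₁ : Cfsg.IsClassFunction G f₁)
    (h₂ : Cfsg.IsClassFunction G f₂) : Cfsg.IsClassFunction G (f₁ + f₂) := by
  intro g x; simp only [Pi.add_apply, h₁ g x, h₂ g x]

theorem isClassFunction_sub {f₁ f₂ : G → ℂ} (h₁ : Cfsg.IsClassFunction G f₁)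
    (h₂ : Cfsg.IsClassFunction G f₂) : Cfsg.IsClassFunction G (f₁ - f₂) := by
  intro g x; simp only [Pi.sub_apply, h₁ g x, h₂ g x]

theorem isClassFunction_smul (c : ℂ) {f : G → ℂ} (h : Cfsg.IsClassFunction G f) :
    Cfsg.IsClassFunction G (c • f) := by
  intro g x; simp only [Pi.smul_apply, h g x]

theorem isClassFunction_zero : Cfsg.IsClassFunction G (0 : G → ℂ) := by
  intro g x; rfl

theorem isClassFunction_sum {ι : Type*} (s : Finset ι) (f : ι → G → ℂ)
    (h : ∀ i ∈ s, Cfsg.IsClassFunction G (f i)) : Cfsg.IsClassFunction G (∑ i ∈ s, f i) := by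
  intro g x
  simp only [Finset.sum_apply]
  exact Finset.sum_congr rfl fun i hi => h i hi g x

theorem isClassFunction_comp_inv {f : G → ℂ} (h : Cfsg.IsClassFunction G f) :
    Cfsg.IsClassFunction G (fun g => f g⁻¹) := by
  intro g x
  have := h g⁻¹ x
  simp only [mul_inv_rev, inv_inv] at this ⊢
  rw [← this, mul_assoc]

theorem isClassFunction_isConj {f : G → ℂ} (h : Cfsg.IsClassFunction G f) {a b : G}
    (hab : IsConj a b) : f a = f b := by
  obtain ⟨c, hc⟩ := isConj_iff.mp hab
  rw [← hc, h]

/-- `conj χ(g) = χ(g⁻¹)` for characters of finite groups. -/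
theorem conj_isCharacter [Finite G] {χ : G → ℂ} (h : Cfsg.IsCharacter G χ) (g : G) :
    conj (χ g) = χ g⁻¹ := by
  obtain ⟨n, ρ, rfl⟩ := h
  exact (char_inv ρ g (isOfFinOrder_of_finite g)).symm

theorem conj_irr [Finite G] (χ : Cfsg.IrrCharacter G) (g : G) :
    conj ((χ : G → ℂ) g) = (χ : G → ℂ) g⁻¹ :=
  conj_isCharacter (isCharacter_of_isIrrCharacter χ.2) g

end

section Alg

variable {G : Type*} [Group G] [Fintype G]

/-- The group-algebra element attached to a function. -/
noncomputable def fnToAlg (f : G → ℂ) : MonoidAlgebra ℂ G := ∑ g, MonoidAlgebra.single g (f g)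

theorem fnToAlg_coeff (f : G → ℂ) (g : G) : (fnToAlg f).coeff g = f g := by
  classical
  rw [fnToAlg, MonoidAlgebra.coeff_sum, Finsupp.finsetSum_apply]
  simp [MonoidAlgebra.coeff_single, Finsupp.single_apply]

theorem fnToAlg_central (f : G → ℂ) (hf : Cfsg.IsClassFunction G f) :
    fnToAlg f ∈ Submonoid.center (MonoidAlgebra ℂ G) := by
  rw [Submonoid.mem_center_iff]
  intro a
  induction a using MonoidAlgebra.induction_linear with
  | zero => simp
  | add x y hx hy => rw [add_mul, mul_add, hx, hy]
  | single h r =>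
    apply MonoidAlgebra.coeff_injective
    ext x
    rw [MonoidAlgebra.coeff_single_mul_apply, MonoidAlgebra.coeff_mul_single_apply,
      fnToAlg_coeff, fnToAlg_coeff, mul_comm]
    congr 1
    have := hf (x * h⁻¹) h⁻¹
    rw [← this]
    congr 1
    group

end Alg

section Main

variable {G : Type*} [Group G] [Fintype G]

/-- A class function orthogonal to every irreducible character vanishes. -/
theorem eq_zero_of_classInner_irr_eq_zero (f : G → ℂ) (hf : Cfsg.IsClassFunction G f)
    (h : ∀ χ : Cfsg.IrrCharacter G, Cfsg.classInner f (χ : G → ℂ) = 0) : f = 0 := by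
  have hne : (Nat.card G : ℂ) ≠ 0 := by exact_mod_cast Nat.card_pos.ne'
  have key : fnToAlg (fun g => f g⁻¹) = 0 := by
    apply central_eq_zero _ (fnToAlg_central _ (isClassFunction_comp_inv hf))
    intro χ
    have h1 := h χ
    rw [classInner_def] at h1
    have h2 : ∑ g : G, f g * conj ((χ : G → ℂ) g) = 0 := by
      rcases mul_eq_zero.mp h1 with h' | h'
      · exact absurd (inv_eq_zero.mp h') hne
      · exact h'
    simp only [fnToAlg_coeff]
    rw [← h2]
    refine Fintype.sum_equiv (Equiv.inv G) _ _ fun g => ?_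
    simp only [Equiv.inv_apply, conj_irr, inv_inv]
  funext g
  have := congrArg (fun z => z.coeff g⁻¹) key
  simpa [fnToAlg_coeff] using this

/-- Expansion of a class function in terms of the irreducible characters (finite sum version). -/
theorem class_function_expansion [Fintype (Cfsg.IrrCharacter G)] (ψ : G → ℂ)
    (hψ : Cfsg.IsClassFunction G ψ) :
    ψ = ∑ χ : Cfsg.IrrCharacter G, Cfsg.classInner ψ (χ : G → ℂ) • (χ : G → ℂ) := by
  classical
  have hcf : Cfsg.IsClassFunction G
      (ψ - ∑ χ : Cfsg.IrrCharacter G, Cfsg.classInner ψ (χ : G → ℂ) • (χ : G → ℂ)) :=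
    isClassFunction_sub hψ (isClassFunction_sum _ _ fun χ _ => isClassFunction_smul _ (isClassFunction_irr χ))
  have := eq_zero_of_classInner_irr_eq_zero _ hcf (fun χ' => by
    rw [classInner_sub_left, classInner_sum_left]
    simp only [classInner_smul_left, classInner_irr]
    simp)
  exact sub_eq_zero.mp this

/-- Expansion of a class function in terms of the irreducible characters (`finsum` version). -/
theorem class_function_expansion_finsum (ψ : G → ℂ) (hψ : Cfsg.IsClassFunction G ψ) :
    ψ = ∑ᶠ χ : Cfsg.IrrCharacter G, Cfsg.classInner ψ (χ : G → ℂ) • (χ : G → ℂ) := by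
  have : Fintype (Cfsg.IrrCharacter G) := Fintype.ofFinite _
  rw [finsum_eq_sum_of_fintype]
  exact class_function_expansion ψ hψ

end Main

end Cfsg.Agent.Helper3
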