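import Mathlib
import Cfsg.Prelude.Def_Characters
import Cfsg.Agent.Helper3.ClassFunction

/-!
# Second orthogonality relation (helper3)
-/

set_option autoImplicit false

namespace Cfsg.Agent.Helper3

open Module Representation
open scoped ComplexConjugate

section

variable {G : Type*} [Group G]

/-- The index of the centralizer of `h` is the size of its conjugacy class. -/
theorem index_centralizer_eq_card_conj (h : G) :
    (Subgroup.centralizer ({h} : Set G)).index = Nat.card {x : G // IsConj x h} := by
  have h1 : (Subgroup.centralizer ({h} : Set G)).index =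
      (MulAction.stabilizer (ConjAct G) h).index := by
    rw [Subgroup.centralizer_eq_comap_stabilizer]
    exact Subgroup.index_comap_of_surjective (MulAction.stabilizer (ConjAct G) h)
      (f := (ConjAct.toConjAct (G := G)).toMonoidHom) ConjAct.toConjAct.surjective
  rw [h1, MulAction.index_stabilizer, ← Nat.card_coe_set_eq]
  apply Nat.card_congr
  exact Equiv.subtypeEquivRight fun x => ConjAct.mem_orbit_conjAct

theorem card_conj_mul_card_centralizer (h : G) :
    Nat.card (Subgroup.centralizer ({h} : Set G)) * Nat.card {x : G // IsConj x h} =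
      Nat.card G := by
  rw [← index_centralizer_eq_card_conj, Subgroup.card_mul_index]

theorem isClassFunction_indicator (h : G) [DecidablePred fun x : G => IsConj x h] :
    Cfsg.IsClassFunction G (fun x => if IsConj x h then (1 : ℂ) else 0) := by
  intro g x
  have : IsConj (x * g * x⁻¹) h ↔ IsConj g h := by
    have h1 : IsConj g (x * g * x⁻¹) := isConj_iff.mpr ⟨x, rfl⟩
    exact ⟨fun h2 => h1.trans h2, fun h2 => h1.symm.trans h2⟩
  simp only [this]

variable [Fintype G]

theorem classInner_indicator (h : G) [DecidablePred fun x : G => IsConj x h]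
    (χ : G → ℂ) (hχ : Cfsg.IsClassFunction G χ) :
    Cfsg.classInner (fun x => if IsConj x h then (1 : ℂ) else 0) χ =
      (Nat.card G : ℂ)⁻¹ * (Nat.card {x : G // IsConj x h} : ℂ) * conj (χ h) := by
  rw [classInner_def, mul_assoc]
  congr 1
  have : ∀ x : G, (if IsConj x h then (1 : ℂ) else 0) * conj (χ x) =
      if IsConj x h then conj (χ h) else 0 := by
    intro x
    split_ifs with hx
    · rw [one_mul, isClassFunction_isConj hχ hx]
    · rw [zero_mul]
  simp only [this]
  rw [← Finset.sum_filter, Finset.sum_const, nsmul_eq_mul, Nat.card_eq_fintype_card,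
    Fintype.card_subtype]

/-- Second orthogonality relation on the diagonal. -/
theorem column_orthogonality_self [Fintype (Cfsg.IrrCharacter G)] (g : G) :
    ∑ χ : Cfsg.IrrCharacter G, (χ : G → ℂ) g * conj ((χ : G → ℂ) g) =
      (Nat.card (Subgroup.centralizer ({g} : Set G)) : ℂ) := by
  classical
  have hexp := class_function_expansion _ (isClassFunction_indicator g)
  have h1 := congrFun hexp g
  simp only [if_pos (IsConj.refl g), Finset.sum_apply, Pi.smul_apply, smul_eq_mul] at h1
  have h2 : ∀ χ : Cfsg.IrrCharacter G,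
      Cfsg.classInner (fun x => if IsConj x g then (1 : ℂ) else 0) (χ : G → ℂ) * (χ : G → ℂ) g =
      ((Nat.card G : ℂ)⁻¹ * (Nat.card {x : G // IsConj x g} : ℂ)) *
        ((χ : G → ℂ) g * conj ((χ : G → ℂ) g)) := by
    intro χ
    rw [classInner_indicator g _ (isClassFunction_irr χ)]
    ring
  simp only [h2] at h1
  rw [← Finset.mul_sum] at h1
  have h3 := card_conj_mul_card_centralizer g
  have h4 : (Nat.card (Subgroup.centralizer ({g} : Set G)) : ℂ) *
      (Nat.card {x : G // IsConj x g} : ℂ) = (Nat.card G : ℂ) := by exact_mod_cast h3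
  have hG : (Nat.card G : ℂ) ≠ 0 := by exact_mod_cast Nat.card_pos.ne'
  have hc : (Nat.card {x : G // IsConj x g} : ℂ) ≠ 0 := by
    intro h0
    rw [h0, mul_zero] at h4
    exact hG h4.symm
  have h5 : (Nat.card G : ℂ)⁻¹ * (Nat.card {x : G // IsConj x g} : ℂ) ≠ 0 :=
    mul_ne_zero (inv_ne_zero hG) hc
  have h6 : ((Nat.card G : ℂ)⁻¹ * (Nat.card {x : G // IsConj x g} : ℂ)) *
      (Nat.card (Subgroup.centralizer ({g} : Set G)) : ℂ) = 1 := by
    rw [mul_assoc, mul_comm (Nat.card {x : G // IsConj x g} : ℂ), h4, inv_mul_cancel₀ hG]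
  apply mul_left_cancel₀ h5
  rw [← h1, h6]

/-- Second orthogonality relation. -/
theorem column_orthogonality [Fintype (Cfsg.IrrCharacter G)] (g h : G) [Decidable (IsConj g h)] :
    ∑ χ : Cfsg.IrrCharacter G, (χ : G → ℂ) g * conj ((χ : G → ℂ) h) =
      if IsConj g h then (Nat.card (Subgroup.centralizer ({g} : Set G)) : ℂ) else 0 := by
  classical
  split_ifs with hgh
  · rw [← column_orthogonality_self g]
    refine Finset.sum_congr rfl fun χ _ => ?_
    rw [isClassFunction_isConj (isClassFunction_irr χ) hgh]
  · have hexp := class_function_expansion _ (isClassFunction_indicator h)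
    have h1 := congrFun hexp g
    simp only [if_neg hgh, Finset.sum_apply, Pi.smul_apply, smul_eq_mul] at h1
    have h2 : ∀ χ : Cfsg.IrrCharacter G,
        Cfsg.classInner (fun x => if IsConj x h then (1 : ℂ) else 0) (χ : G → ℂ) * (χ : G → ℂ) g =
        ((Nat.card G : ℂ)⁻¹ * (Nat.card {x : G // IsConj x h} : ℂ)) *
          ((χ : G → ℂ) g * conj ((χ : G → ℂ) h)) := by
      intro χ
      rw [classInner_indicator h _ (isClassFunction_irr χ)]
      ring
    simp only [h2] at h1
    rw [← Finset.mul_sum] at h1
    have h3 := card_conj_mul_card_centralizer h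
    have h4 : (Nat.card (Subgroup.centralizer ({h} : Set G)) : ℂ) *
        (Nat.card {x : G // IsConj x h} : ℂ) = (Nat.card G : ℂ) := by exact_mod_cast h3
    have hG : (Nat.card G : ℂ) ≠ 0 := by exact_mod_cast Nat.card_pos.ne'
    have hc : (Nat.card {x : G // IsConj x h} : ℂ) ≠ 0 := by
      intro h0
      rw [h0, mul_zero] at h4
      exact hG h4.symm
    have h5 : (Nat.card G : ℂ)⁻¹ * (Nat.card {x : G // IsConj x h} : ℂ) ≠ 0 :=
      mul_ne_zero (inv_ne_zero hG) hc
    rcases mul_eq_zero.mp h1.symm with h' | h'
    · exact absurd h' h5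
    · exact h'

end

end Cfsg.Agent.Helper3
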