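import Mathlib
import Cfsg.Prelude.Def_Transfer
import Cfsg.Agent.Helper63.LcsIndex
import Cfsg.Agent.Helper30.Collect
import Cfsg.Agent.S0129

/-!
# `p`-groups of rank at most two, `p > 3`: `Ω₁` has exponent `p` (helper3)

Minimal counterexample: `R = ⟨x, y⟩`, `N` the normal closure of `x` has exponent `p` by induction,
so `|N| ≤ p ^ 3` (S0129), `R / N` is cyclic, hence `R' ≤ [N, R]` and `R` has class at most `3`;
conclude with the collection formula of helper30.
-/

set_option autoImplicit false

universe u

namespace Cfsg.Agent.Helper3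

open Cfsg
open scoped commutatorElement

/-- The rank condition passes to subgroups. -/
theorem rank_two_subgroup {R : Type*} [Group R] {p : ℕ} (H : Subgroup R)
    (hrk : ∀ E : Subgroup R, Cfsg.IsElementaryAbelian p E → Nat.card E ≤ p ^ 2) :
    ∀ E : Subgroup H, Cfsg.IsElementaryAbelian p E → Nat.card E ≤ p ^ 2 := by
  intro E hE
  have h1 : Cfsg.IsElementaryAbelian p (E.map H.subtype) := by
    refine ⟨?_, ?_⟩
    · haveI := hE.1
      infer_instance
    · rintro _ ⟨a, ha, rfl⟩
      have := hE.2 a ha
      rw [← map_pow, this, map_one]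
  have := hrk _ h1
  rwa [Subgroup.card_map_of_injective H.subtype_injective] at this

/-- A finite `p`-group of exponent `p` all of whose elementary abelian subgroups have order at
most `p ^ 2` has order at most `p ^ 3`. -/
theorem card_le_cube_of_exponent {N : Type*} [Group N] [Finite N] {p : ℕ} [Fact p.Prime]
    (hN : IsPGroup p N) (hexp : ∀ g : N, g ^ p = 1)
    (hrk : ∀ E : Subgroup N, Cfsg.IsElementaryAbelian p E → Nat.card E ≤ p ^ 2) :
    Nat.card N ≤ p ^ 3 := by
  classical
  obtain ⟨A, -, hA⟩ := Finite.exists_le_maximal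
    (p := fun B : Subgroup N => B.Normal ∧ IsMulCommutative B) (a := ⊥)
    ⟨inferInstance, inferInstance⟩
  haveI hAn : A.Normal := hA.prop.1
  have hAc : IsMulCommutative A := hA.prop.2
  have hAe : Cfsg.IsElementaryAbelian p A := ⟨hAc, fun a _ => hexp a⟩
  have hcard := hrk A hAe
  obtain ⟨a, ha⟩ := (hN.to_subgroup A).exists_card_eq
  have ha2 : a ≤ 2 := by
    rw [ha] at hcard
    exact (Nat.pow_le_pow_iff_right (Fact.out : p.Prime).one_lt).mp hcard
  have h := Cfsg.Agent.S0129.result hN A hAc
    (fun B hB hBc hAB => le_antisymm (hA.le_of_ge ⟨hB, hBc⟩ hAB) hAB) a ha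
  refine h.trans (Nat.pow_le_pow_right (Fact.out : p.Prime).pos ?_)
  interval_cases a <;> simp

theorem mul_pow_prime_eq_one_of_rank_two {p : ℕ} [Fact p.Prime] (hp : 3 < p) :
    ∀ (n : ℕ) (R : Type u) [Group R] [Finite R], Nat.card R = n → IsPGroup p R →
      (∀ E : Subgroup R, Cfsg.IsElementaryAbelian p E → Nat.card E ≤ p ^ 2) →
      ∀ x y : R, x ^ p = 1 → y ^ p = 1 → (x * y) ^ p = 1 := by
  intro n
  induction n using Nat.strong_induction_on with
  | _ n ih =>
    intro R _ _ hn hR hrk x y hx hy
    subst hn
    have hlt : ∀ H : Subgroup R, H ≠ ⊤ → Nat.card H < Nat.card R := fun H hH =>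
      lt_of_le_of_ne (Subgroup.card_le_card_group H) (fun h => hH (Subgroup.eq_top_of_card_eq H h))
    by_cases hH : Subgroup.closure {x, y} = ⊤
    swap
    · -- proper subgroup: induction
      set H := Subgroup.closure {x, y} with hHdef
      have hxH : x ∈ H := Subgroup.subset_closure (by simp)
      have hyH : y ∈ H := Subgroup.subset_closure (by simp)
      have := ih (Nat.card H) (hlt H hH) H rfl (hR.to_subgroup H) (rank_two_subgroup H hrk)
        ⟨x, hxH⟩ ⟨y, hyH⟩ (Subtype.ext (by simpa using hx)) (Subtype.ext (by simpa using hy))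
      have h2 := congrArg Subtype.val this
      simpa using h2
    by_cases hcyc : Subgroup.zpowers x = ⊤
    · have hy' : y ∈ Subgroup.zpowers x := by rw [hcyc]; trivial
      obtain ⟨k, rfl⟩ := Subgroup.mem_zpowers_iff.mp hy'
      have hc : Commute x (x ^ k) := (Commute.refl x).zpow_right k
      rw [hc.mul_pow, hx, hy, one_mul]
    -- a maximal subgroup containing x
    obtain ⟨M, hM, hxM⟩ := (eq_top_or_exists_le_coatom (Subgroup.zpowers x)).resolve_left hcyc
    haveI hnil : Group.IsNilpotent R := hR.isNilpotent
    haveI hMn : M.Normal := Subgroup.NormalizerCondition.normal_of_coatom M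
      normalizerCondition_of_isNilpotent hM
    set N := Subgroup.normalClosure ({x} : Set R) with hNdef
    haveI hNn : N.Normal := Subgroup.normalClosure_normal
    have hNM : N ≤ M := Subgroup.normalClosure_le_normal (by
      intro g hg
      rw [Set.mem_singleton_iff] at hg
      subst hg
      exact hxM (Subgroup.mem_zpowers g))
    have hNtop : N ≠ ⊤ := by
      intro h
      apply hM.1
      rw [eq_top_iff, ← h]
      exact hNM
    have hNlt := hlt N hNtop
    -- N has exponent p
    have hNexp : ∀ g ∈ Subgroup.closure (Group.conjugatesOfSet ({x} : Set R)), g ^ p = 1 := by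
      intro g hg
      induction hg using Subgroup.closure_induction with
      | mem g hg =>
        rw [Group.mem_conjugatesOfSet_iff] at hg
        obtain ⟨a, ha, hconj⟩ := hg
        rw [Set.mem_singleton_iff] at ha
        subst ha
        obtain ⟨c, hc⟩ := isConj_iff.mp hconj
        rw [← hc, conj_pow, hx]
        simp
      | one => exact one_pow _
      | mul g h hg hh ihg ihh =>
        have hgN : g ∈ N := hg
        have hhN : h ∈ N := hh
        have := ih (Nat.card N) hNlt N rfl (hR.to_subgroup N) (rank_two_subgroup N hrk)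
          ⟨g, hgN⟩ ⟨h, hhN⟩ (Subtype.ext (by simpa using ihg))
          (Subtype.ext (by simpa using ihh))
        have h2 := congrArg Subtype.val this
        simpa using h2
      | inv g hg ihg =>
        rw [inv_pow, ihg, inv_one]
    -- |N| ≤ p ^ 3
    have hNcard : Nat.card N ≤ p ^ 3 :=
      card_le_cube_of_exponent (hR.to_subgroup N)
        (fun g => Subtype.ext (by simpa using hNexp g.1 g.2)) (rank_two_subgroup N hrk)
    -- R / N is cyclic
    have hkey : ∀ g ∈ Subgroup.closure {x, y},
        (QuotientGroup.mk g : R ⧸ N) ∈ Subgroup.zpowers (QuotientGroup.mk y : R ⧸ N) := by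
      intro g hg
      induction hg using Subgroup.closure_induction with
      | mem g hg =>
        rcases hg with rfl | hg
        · have : (QuotientGroup.mk g : R ⧸ N) = 1 :=
            (QuotientGroup.eq_one_iff g).mpr
              (Subgroup.subset_normalClosure (Set.mem_singleton g))
          rw [this]
          exact one_mem _
        · rw [Set.mem_singleton_iff] at hg
          subst hg
          exact Subgroup.mem_zpowers _
      | one => exact one_mem _
      | mul a b _ _ ha hb => exact mul_mem ha hb
      | inv a _ ha => exact inv_mem ha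
    haveI hcycq : IsCyclic (R ⧸ N) := by
      refine ⟨⟨(QuotientGroup.mk y : R ⧸ N), fun q => ?_⟩⟩
      induction q using QuotientGroup.induction_on with
      | H g => exact hkey g (by rw [hH]; trivial)
    -- R' ≤ [N, R]
    set K : Subgroup R := ⁅N, (⊤ : Subgroup R)⁆ with hKdef
    haveI hKn : K.Normal := Subgroup.commutator_normal _ _
    have hKN : K ≤ N := Subgroup.commutator_le_left _ _
    have hcomm : ∀ a b : R ⧸ K, a * b = b * a := by
      refine commutative_of_cyclic_center_quotient
        (QuotientGroup.map K N (MonoidHom.id R) (by simpa using hKN)) ?_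
      intro q hq
      induction q using QuotientGroup.induction_on with
      | H g =>
        rw [MonoidHom.mem_ker, QuotientGroup.map_mk, MonoidHom.id_apply,
          QuotientGroup.eq_one_iff] at hq
        rw [Subgroup.mem_center_iff]
        intro r
        induction r using QuotientGroup.induction_on with
        | H h =>
          have h1 : ⁅g, h⁆ ∈ K := Subgroup.commutator_mem_commutator hq (Subgroup.mem_top h)
          have h2 : (QuotientGroup.mk ⁅g, h⁆ : R ⧸ K) = 1 := (QuotientGroup.eq_one_iff _).mpr h1
          rw [commutatorElement_def] at h2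
          have h3 : (QuotientGroup.mk g : R ⧸ K) * QuotientGroup.mk h *
              (QuotientGroup.mk g)⁻¹ * (QuotientGroup.mk h)⁻¹ = 1 := by
            simpa using h2
          have h4 := mul_inv_eq_one.mp h3
          have h5 := mul_inv_eq_iff_eq_mul.mp h4
          exact h5.symm
    have hRK : commutator R ≤ K := by
      rw [commutator_def, Subgroup.commutator_le]
      intro a _ b _
      rw [← QuotientGroup.eq_one_iff (N := K), commutatorElement_def]
      have := hcomm (QuotientGroup.mk a) (QuotientGroup.mk b)
      simp only [QuotientGroup.mk_mul, QuotientGroup.mk_inv]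
      rw [this]
      group
    -- class at most 3
    have hcl : ⁅⁅commutator R, (⊤ : Subgroup R)⁆, (⊤ : Subgroup R)⁆ = ⊥ := by
      rw [eq_bot_iff]
      have h1 : Cfsg.Agent.Helper63.iterComm ⊤ N 3 ≤ ⊥ :=
        Cfsg.Agent.Helper63.iterComm_top_le_of_relIndex_le hR 3 N ⊥ hNn inferInstance bot_le
          (by rw [Subgroup.relIndex_bot_left]; exact hNcard)
      refine le_trans ?_ h1
      show ⁅⁅commutator R, (⊤ : Subgroup R)⁆, (⊤ : Subgroup R)⁆ ≤
        ⁅⁅⁅N, (⊤ : Subgroup R)⁆, (⊤ : Subgroup R)⁆, (⊤ : Subgroup R)⁆
      exact Subgroup.commutator_mono (Subgroup.commutator_mono hRK le_rfl) le_rfl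
    exact Cfsg.Agent.Helper30.pow_prime_eq_one_of_mem_closure (Fact.out : p.Prime)
      (Or.inr ⟨hp, hcl⟩) (mul_mem (Subgroup.subset_closure hx) (Subgroup.subset_closure hy))

end Cfsg.Agent.Helper3
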