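import Mathlib

/-!
# S2500 part (4): operator lemmas for isometries of sesquilinear forms

`conjRev σ f` is the conjugate-reciprocal polynomial `X^d · (σ f)(1/X)` of `f` (`d = natDegree f`).
For a linear map `T` preserving a sesquilinear form `B` (semilinear in the first argument):
`B (f(T) x) (T^d y) = B x (conjRev σ f (T) y)`.
-/

set_option autoImplicit false

namespace Cfsg.Agent.Helper3.Cov2

open Polynomial

variable {F V : Type*} [Field F] [AddCommGroup V] [Module F V] {σ : F →+* F}

/-- the conjugate-reciprocal polynomial `Σ σ(aᵢ) X^(d-i)` of `f = Σ aᵢ X^i`, `d = natDegree f` -/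
noncomputable def conjRev (σ : F →+* F) (f : F[X]) : F[X] := (f.map σ).reverse

theorem isom_pow (B : V →ₛₗ[σ] V →ₗ[F] F) (T : V →ₗ[F] V)
    (hT : ∀ x y, B (T x) (T y) = B x y) (i : ℕ) (x y : V) :
    B ((T ^ i) x) ((T ^ i) y) = B x y := by
  induction i generalizing x y with
  | zero => simp
  | succ i ih =>
    rw [pow_succ, Module.End.mul_apply, Module.End.mul_apply, ih, hT]

theorem conjRev_eq_sum (f : F[X]) :
    conjRev σ f = ∑ i ∈ Finset.range (f.natDegree + 1),
      C (σ (f.coeff i)) * X ^ (f.natDegree - i) := by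
  have hd : (f.map σ).natDegree = f.natDegree := natDegree_map_eq_of_injective σ.injective f
  unfold conjRev
  ext n
  rw [coeff_reverse, hd, finset_sum_coeff]
  simp only [coeff_C_mul, coeff_X_pow]
  by_cases hn : n ≤ f.natDegree
  · rw [revAt_le hn, coeff_map]
    rw [Finset.sum_eq_single (f.natDegree - n)]
    · rw [if_pos (by omega), mul_one]
    · intro b hb hbn
      rw [if_neg, mul_zero]
      rw [Finset.mem_range] at hb
      omega
    · intro h
      rw [Finset.mem_range] at h
      omega
  · push Not at hn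
    have h1 : revAt f.natDegree n = n := by
      rw [← revAtFun_eq, revAtFun, if_neg (by omega)]
    rw [h1, coeff_map, coeff_eq_zero_of_natDegree_lt hn, map_zero]
    symm
    apply Finset.sum_eq_zero
    intro b hb
    rw [if_neg (by omega), mul_zero]

/-- the adjoint identity -/
theorem adj_conjRev (B : V →ₛₗ[σ] V →ₗ[F] F) (T : V →ₗ[F] V)
    (hT : ∀ x y, B (T x) (T y) = B x y) (f : F[X]) (x y : V) :
    B (aeval T f x) ((T ^ f.natDegree) y) = B x (aeval T (conjRev σ f) y) := by
  rw [conjRev_eq_sum, aeval_eq_sum_range]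
  simp only [map_sum, LinearMap.sum_apply, map_mul, map_pow, aeval_X, aeval_C,
    Module.End.mul_apply, Module.algebraMap_end_apply, LinearMap.map_smulₛₗ, LinearMap.smul_apply,
    map_smul, smul_eq_mul]
  apply Finset.sum_congr rfl
  intro i hi
  rw [Finset.mem_range] at hi
  have h1 : (T ^ f.natDegree) y = (T ^ i) ((T ^ (f.natDegree - i)) y) := by
    rw [← Module.End.mul_apply, ← pow_add]
    congr 2
    omega
  rw [h1, isom_pow B T hT]

/-- `ker f(T)` is totally isotropic when `f` is coprime to its conjugate-reciprocal -/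
theorem ker_ti (B : V →ₛₗ[σ] V →ₗ[F] F) (T : V →ₗ[F] V)
    (hT : ∀ x y, B (T x) (T y) = B x y) (f : F[X]) (hcop : IsCoprime f (conjRev σ f))
    (x : V) (hx : aeval T f x = 0) (y : V) (hy : aeval T f y = 0) : B x y = 0 := by
  obtain ⟨a, b, hab⟩ := hcop
  have h1 : y = aeval T (conjRev σ f) (aeval T b y) := by
    have := congrArg (fun p : F[X] => aeval T p y) hab
    rw [mul_comm b] at this
    simp only [map_add, map_mul, map_one, LinearMap.add_apply, Module.End.mul_apply,
      Module.End.one_apply] at this
    rw [hy, map_zero, zero_add] at this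
    exact this.symm
  rw [h1, ← adj_conjRev B T hT, hx, map_zero, LinearMap.zero_apply]

/-- `f(T) = 0` implies `conjRev σ f (T) = 0` for an isometry of a right-separating form -/
theorem aeval_conjRev_eq_zero (B : V →ₛₗ[σ] V →ₗ[F] F) (hB : B.SeparatingRight)
    (T : V →ₗ[F] V) (hT : ∀ x y, B (T x) (T y) = B x y) (f : F[X]) (hf : aeval T f = 0) :
    aeval T (conjRev σ f) = 0 := by
  ext y
  apply hB
  intro x
  rw [← adj_conjRev B T hT, hf, LinearMap.zero_apply, map_zero, LinearMap.zero_apply]

end Cfsg.Agent.Helper3.Cov2
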