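import Mathlib
import Cfsg.Prelude.Def_Classical
import Cfsg.Agent.Helper3.Cov2Ops

/-!
# S2500 part (4): definitions for the normal 2-covering of `SU_4(q)`

`stabSU W` : the stabiliser in `SU_n(q)` of a subspace `W ≤ F^n`;
`vecA ζ`, `vecB ζ`, `W0 ζ` : the totally isotropic plane `⟨e₀ + ζ e₁, e₂ + ζ e₃⟩` (`ζ^(q+1) = -1`).
-/

set_option autoImplicit false

namespace Cfsg.Agent.Helper3.Cov2

open Matrix

variable {F : Type*} [Field F] {q n : ℕ}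

/-- the stabiliser in `SU_n(q)` of a subspace -/
def stabSU (W : Submodule F (Fin n → F)) : Subgroup (Cfsg.SU n F q) where
  carrier := {A | ∀ v, (A.1.1 : Matrix (Fin n) (Fin n) F) *ᵥ v ∈ W ↔ v ∈ W}
  mul_mem' {A B} hA hB v := by
    have h : ((A * B).1.1 : Matrix (Fin n) (Fin n) F) = A.1.1 * B.1.1 := rfl
    rw [h, ← Matrix.mulVec_mulVec, hA, hB]
  one_mem' v := by
    have h : ((1 : Cfsg.SU n F q).1.1 : Matrix (Fin n) (Fin n) F) = 1 := rfl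
    rw [h, Matrix.one_mulVec]
  inv_mem' {A} hA v := by
    have h : (A.1.1 : Matrix (Fin n) (Fin n) F) * (A⁻¹).1.1 = 1 := by
      have h1 : ((A * A⁻¹).1.1 : Matrix (Fin n) (Fin n) F) = A.1.1 * (A⁻¹).1.1 := rfl
      rw [← h1, mul_inv_cancel]
      rfl
    rw [← hA ((A⁻¹).1.1 *ᵥ v), Matrix.mulVec_mulVec, h, Matrix.one_mulVec]

theorem mem_stabSU (W : Submodule F (Fin n → F)) (A : Cfsg.SU n F q) :
    A ∈ stabSU W ↔ ∀ v, (A.1.1 : Matrix (Fin n) (Fin n) F) *ᵥ v ∈ W ↔ v ∈ W := Iff.rfl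

/-- `e₀ + ζ e₁` -/
def vecA (ζ : F) : Fin 4 → F := ![1, ζ, 0, 0]

/-- `e₂ + ζ e₃` -/
def vecB (ζ : F) : Fin 4 → F := ![0, 0, 1, ζ]

/-- the plane `⟨e₀ + ζ e₁, e₂ + ζ e₃⟩` -/
def W0 (ζ : F) : Submodule F (Fin 4 → F) := Submodule.span F {vecA ζ, vecB ζ}

end Cfsg.Agent.Helper3.Cov2
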