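import Mathlib
import Cfsg.Prelude.Def_Classical
import Cfsg.Agent.Helper3.Cov2P4Defs

/-!
# S2500 part (5): definitions for the normal 2-covering of `SU_3(q)`, `q = 3^a`

`L` is a cubic extension of `F` (`|F| = q²`), `hL F L q x y = Tr_{L/F}(x · y^(q³))` the hermitian
trace form on `L`, and for an `F`-linear bijection `ψ : L ≃ F³` the set `singerSet L q ψ` consists
of the elements of `SU_3(q)` which are `L`-semilinear (`x ↦ t · x^(q^(2i))`) in the coordinates `ψ`;
`singerN L q ψ` is the subgroup it generates (the normaliser of a Singer torus).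
-/

set_option autoImplicit false

namespace Cfsg.Agent.Helper3.Cov2

open Matrix

/-- the hermitian trace form `Tr_{L/F}(x · y^(q³))` on a cubic extension `L / F`, `|F| = q²` -/
noncomputable def hL (F : Type*) [Field F] (L : Type*) [Field L] [Algebra F L] (q : ℕ) (x y : L) : F :=
  Algebra.trace F L (x * y ^ (q ^ 3))

variable {F : Type*} [Field F] (L : Type*) [Field L] [Algebra F L]

/-- the elements of `SU_3(q)` acting `L`-semilinearly in the coordinates `ψ` -/
def singerSet (q : ℕ) (ψ : L ≃ₗ[F] (Fin 3 → F)) : Set (Cfsg.SU 3 F q) :=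
  {A | ∃ (t : L) (i : ℕ), ∀ x : L,
    (A.1.1 : Matrix (Fin 3) (Fin 3) F) *ᵥ ψ x = ψ (t * x ^ ((q ^ 2) ^ i))}

/-- the subgroup generated by `singerSet` (in fact equal to it) -/
def singerN (q : ℕ) (ψ : L ≃ₗ[F] (Fin 3 → F)) : Subgroup (Cfsg.SU 3 F q) :=
  Subgroup.closure (singerSet L q ψ)

end Cfsg.Agent.Helper3.Cov2
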