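import Mathlib

/-!
# Groups with generalized quaternion Sylow 2-subgroups: local structure (helper3)

`QuatData P a m`: the subgroup `P` contains the cyclic subgroup `⟨a⟩` of order `2 ^ m ≥ 8`
with index two, and the elements of `P` outside `⟨a⟩` invert `a` and square to the involution
`t = a ^ (2 ^ (m-1))`.
-/

set_option autoImplicit false
set_option linter.unusedSectionVars false

namespace Cfsg.Agent.Helper3.Quat

variable {G : Type*} [Group G]

/-- In a cyclic group `⟨x⟩`, an element whose order divides the order of `u` lies in `⟨u⟩`. -/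
theorem mem_zpowers_of_orderOf_dvd {x u y : G} (hx : IsOfFinOrder x)
    (hu : u ∈ Subgroup.zpowers x) (hy : y ∈ Subgroup.zpowers x) (h : orderOf y ∣ orderOf u) :
    y ∈ Subgroup.zpowers u := by
  rw [← hx.mem_powers_iff_mem_zpowers, Submonoid.mem_powers_iff] at hu hy
  obtain ⟨i, rfl⟩ := hu
  obtain ⟨j, rfl⟩ := hy
  set N := orderOf x with hN
  have hNpos : 0 < N := hx.orderOf_pos
  set g := Nat.gcd N i with hg
  have hgpos : 0 < g := Nat.gcd_pos_of_pos_left _ hNpos
  have hd : orderOf (x ^ i) = N / g := IsOfFinOrder.orderOf_pow x i hx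
  have hNg : N / g * g = N := Nat.div_mul_cancel (Nat.gcd_dvd_left N i)
  have hdpos : 0 < N / g := Nat.div_pos (Nat.le_of_dvd hNpos (Nat.gcd_dvd_left N i)) hgpos
  have h1 : (x ^ j) ^ (N / g) = 1 := by
    rw [← hd]
    exact orderOf_dvd_iff_pow_eq_one.mp h
  rw [← pow_mul] at h1
  have h2 : N ∣ j * (N / g) := orderOf_dvd_of_pow_eq_one h1
  have h3 : g ∣ j := by
    have h2' : N / g * g ∣ N / g * j := by
      rw [hNg, mul_comm]
      exact h2
    exact Nat.dvd_of_mul_dvd_mul_left hdpos h2'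
  obtain ⟨s, hs⟩ := h3
  have hbez := Nat.gcd_eq_gcd_ab N i
  have h4 : x ^ (g : ℤ) = (x ^ i) ^ (Nat.gcdB N i) := by
    rw [hg, hbez, zpow_add, zpow_mul, zpow_mul, zpow_natCast, zpow_natCast, pow_orderOf_eq_one,
      one_zpow, one_mul]
  refine Subgroup.mem_zpowers_iff.mpr ⟨Nat.gcdB N i * s, ?_⟩
  rw [zpow_mul, ← h4, ← zpow_mul, hs]
  norm_cast

/-- abstract description of a generalized quaternion subgroup of order `2 ^ (m+1) ≥ 16`. -/
structure QuatData (P : Subgroup G) (a : G) (m : ℕ) : Prop where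
  ha : a ∈ P
  hm : 3 ≤ m
  hord : orderOf a = 2 ^ m
  hinv : ∀ x ∈ P, x ∉ Subgroup.zpowers a → x * a * x⁻¹ = a⁻¹
  hsq : ∀ x ∈ P, x ∉ Subgroup.zpowers a → x * x = a ^ (2 ^ (m - 1))
  hidx : ∀ x ∈ P, ∀ y ∈ P, x ∉ Subgroup.zpowers a → y ∉ Subgroup.zpowers a →
    x⁻¹ * y ∈ Subgroup.zpowers a
  hex : ∃ b ∈ P, b ∉ Subgroup.zpowers a

namespace QuatData

variable {P : Subgroup G} {a : G} {m : ℕ} (h : QuatData P a m)

include h

theorem fin : IsOfFinOrder a := by
  rw [← orderOf_pos_iff, h.hord]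
  positivity

theorem H_le : Subgroup.zpowers a ≤ P := Subgroup.zpowers_le.mpr h.ha

/-- elements outside `H` invert `H`. -/
theorem inv_H {x : G} (hx : x ∈ P) (hxH : x ∉ Subgroup.zpowers a) {y : G}
    (hy : y ∈ Subgroup.zpowers a) : x * y * x⁻¹ = y⁻¹ := by
  obtain ⟨k, rfl⟩ := Subgroup.mem_zpowers_iff.mp hy
  have := h.hinv x hx hxH
  rw [← conj_zpow, this, inv_zpow]

/-- the involution -/
theorem t_def_sq : (a ^ (2 ^ (m - 2))) * (a ^ (2 ^ (m - 2))) = a ^ (2 ^ (m - 1)) := by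
  rw [← pow_add]
  congr 1
  have hm := h.hm
  have : m - 1 = (m - 2) + 1 := by omega
  rw [this, pow_succ]
  ring

theorem orderOf_t : orderOf (a ^ (2 ^ (m - 1))) = 2 := by
  have hm := h.hm
  rw [h.fin.orderOf_pow, h.hord]
  have h1 : Nat.gcd (2 ^ m) (2 ^ (m - 1)) = 2 ^ (m - 1) :=
    Nat.gcd_eq_right (pow_dvd_pow 2 (by omega))
  rw [h1]
  have h2 : (2 : ℕ) ^ m = 2 ^ (m - 1) * 2 := by
    rw [← pow_succ]
    congr 1
    omega
  rw [h2]
  exact Nat.mul_div_cancel_left 2 (by positivity)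

theorem orderOf_u : orderOf (a ^ (2 ^ (m - 2))) = 4 := by
  have hm := h.hm
  rw [h.fin.orderOf_pow, h.hord]
  have h1 : Nat.gcd (2 ^ m) (2 ^ (m - 2)) = 2 ^ (m - 2) :=
    Nat.gcd_eq_right (pow_dvd_pow 2 (by omega))
  rw [h1]
  have h2 : (2 : ℕ) ^ m = 2 ^ (m - 2) * 4 := by
    have : (4 : ℕ) = 2 ^ 2 := by norm_num
    rw [this, ← pow_add]
    congr 1
    omega
  rw [h2]
  exact Nat.mul_div_cancel_left 4 (by positivity)

theorem t_ne_one : a ^ (2 ^ (m - 1)) ≠ 1 := by
  intro h1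
  have := h.orderOf_t
  rw [h1, orderOf_one] at this
  omega

theorem t_mem : a ^ (2 ^ (m - 1)) ∈ Subgroup.zpowers a := Subgroup.pow_mem _ (Subgroup.mem_zpowers a) _

theorem u_mem : a ^ (2 ^ (m - 2)) ∈ Subgroup.zpowers a := Subgroup.pow_mem _ (Subgroup.mem_zpowers a) _

/-- an element of `H` whose square is trivial is `1` or `t`. -/
theorem H_sq_eq_one {y : G} (hy : y ∈ Subgroup.zpowers a) (hy2 : y * y = 1) :
    y = 1 ∨ y = a ^ (2 ^ (m - 1)) := by
  have h1 : orderOf y ∣ orderOf (a ^ (2 ^ (m - 1))) := by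
    rw [h.orderOf_t]
    apply orderOf_dvd_of_pow_eq_one
    rw [pow_two, hy2]
  have h2 := mem_zpowers_of_orderOf_dvd h.fin h.t_mem hy h1
  obtain ⟨k, rfl⟩ := Subgroup.mem_zpowers_iff.mp h2
  have h3 : (a ^ (2 ^ (m - 1))) ^ (2 : ℤ) = 1 := by
    have := pow_orderOf_eq_one (a ^ (2 ^ (m - 1)))
    rw [h.orderOf_t] at this
    exact_mod_cast this
  rcases Int.emod_two_eq_zero_or_one k with hk | hk
  · left
    obtain ⟨s, rfl⟩ : (2 : ℤ) ∣ k := Int.dvd_of_emod_eq_zero hk
    rw [zpow_mul, h3, one_zpow]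
  · right
    have : k = 2 * (k / 2) + 1 := by omega
    rw [this, zpow_add, zpow_mul, h3, one_zpow, one_mul, zpow_one]

/-- the unique involution of `P`. -/
theorem unique_involution {x : G} (hx : x ∈ P) (hx2 : orderOf x = 2) :
    x = a ^ (2 ^ (m - 1)) := by
  have hxx : x * x = 1 := by
    rw [← pow_two, ← hx2]
    exact pow_orderOf_eq_one x
  by_cases hxH : x ∈ Subgroup.zpowers a
  · rcases h.H_sq_eq_one hxH hxx with h1 | h1
    · rw [h1, orderOf_one] at hx2
      omega
    · exact h1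
  · exfalso
    have := h.hsq x hx hxH
    rw [hxx] at this
    exact h.t_ne_one this.symm

/-- elements of `P` commuting with `u` lie in `H`. -/
theorem mem_H_of_commute_u {x : G} (hx : x ∈ P)
    (hc : x * a ^ (2 ^ (m - 2)) = a ^ (2 ^ (m - 2)) * x) : x ∈ Subgroup.zpowers a := by
  by_contra hxH
  have h1 := h.inv_H hx hxH h.u_mem
  rw [hc, mul_inv_cancel_right] at h1
  -- u = u⁻¹, so u² = 1, contradiction with order 4
  have h2 : (a ^ (2 ^ (m - 2))) ^ 2 = 1 := by
    rw [pow_two]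
    nth_rewrite 2 [h1]
    exact mul_inv_cancel _
  have := orderOf_dvd_of_pow_eq_one h2
  rw [h.orderOf_u] at this
  omega

/-- every element of order divisible by four in `H` has `u` as a power. -/
theorem u_mem_zpowers_of_four_dvd {y : G} (hy : y ∈ Subgroup.zpowers a) (h4 : 4 ∣ orderOf y) :
    a ^ (2 ^ (m - 2)) ∈ Subgroup.zpowers y := by
  have hyfin : IsOfFinOrder y := by
    obtain ⟨k, rfl⟩ := Subgroup.mem_zpowers_iff.mp hy
    exact h.fin.zpow
  -- the element `w = y ^ (o(y)/4)` has order four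
  obtain ⟨c, hc⟩ := h4
  have hcpos : 0 < c := by
    rcases Nat.eq_zero_or_pos c with h0 | h0
    · rw [h0, mul_zero] at hc
      exact absurd hc hyfin.orderOf_pos.ne'
    · exact h0
  have hw : orderOf (y ^ c) = 4 := by
    rw [hyfin.orderOf_pow, hc, Nat.gcd_eq_right (dvd_mul_left c 4), Nat.mul_div_cancel _ hcpos]
  have hwH : y ^ c ∈ Subgroup.zpowers a := Subgroup.pow_mem _ hy _
  -- `u ∈ ⟨w⟩`
  have h1 : a ^ (2 ^ (m - 2)) ∈ Subgroup.zpowers (y ^ c) :=
    mem_zpowers_of_orderOf_dvd h.fin hwH h.u_mem (by rw [h.orderOf_u, hw])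
  exact (Subgroup.zpowers_le.mpr (Subgroup.pow_mem _ (Subgroup.mem_zpowers y) c)) h1

end QuatData

section Sylow

variable [Finite G]

/-- A `2`-subgroup is conjugate into a given Sylow `2`-subgroup. -/
theorem exists_conj_mem (P : Sylow 2 G) (Q : Subgroup G) (hQ : IsPGroup 2 Q) :
    ∃ g : G, ∀ q ∈ Q, g⁻¹ * q * g ∈ (P : Subgroup G) := by
  obtain ⟨S, hS⟩ := hQ.exists_le_sylow
  obtain ⟨g, rfl⟩ := MulAction.exists_smul_eq G P S
  refine ⟨g, fun q hq => ?_⟩
  have h1 := hS hq
  rw [Sylow.coe_subgroup_smul, Subgroup.mem_pointwise_smul_iff_inv_smul_mem] at h1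
  simpa [MulAut.smul_def, MulAut.conj_apply] using h1

omit [Finite G] in
theorem orderOf_conj_inv (g z : G) : orderOf (g⁻¹ * z * g) = orderOf z := by
  have := (MulAut.conj g⁻¹).orderOf_eq z
  simpa [MulAut.conj_apply] using this

theorem isPGroup_zpowers_of_orderOf_two {x : G} (hx : orderOf x = 2) :
    IsPGroup 2 (Subgroup.zpowers x) := by
  apply IsPGroup.of_card (n := 1)
  rw [Nat.card_zpowers, hx, pow_one]

variable {P : Sylow 2 G} {a : G} {m : ℕ} (h : QuatData (P : Subgroup G) a m)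

include h

/-- every involution is conjugate to `t`. -/
theorem QuatData.involution_conj {x : G} (hx : orderOf x = 2) :
    ∃ g : G, g⁻¹ * x * g = a ^ (2 ^ (m - 1)) := by
  obtain ⟨g, hg⟩ := exists_conj_mem P _ (isPGroup_zpowers_of_orderOf_two hx)
  refine ⟨g, h.unique_involution (hg x (Subgroup.mem_zpowers x)) ?_⟩
  rw [orderOf_conj_inv, hx]

/-- two commuting involutions are equal. -/
theorem QuatData.eq_of_commute_involutions {x y : G} (hx : orderOf x = 2) (hy : orderOf y = 2)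
    (hc : Commute x y) : x = y := by
  have hV : IsPGroup 2 (Subgroup.zpowers x ⊔ Subgroup.zpowers y : Subgroup G) := by
    refine IsPGroup.to_sup_of_normal_right' (isPGroup_zpowers_of_orderOf_two hx)
      (isPGroup_zpowers_of_orderOf_two hy) ?_
    rw [Subgroup.zpowers_le]
    apply Subgroup.centralizer_le_normalizer
    rw [Subgroup.mem_centralizer_iff]
    intro z hz
    obtain ⟨k, rfl⟩ := Subgroup.mem_zpowers_iff.mp hz
    exact (hc.zpow_right k).symm.eq
  obtain ⟨g, hg⟩ := exists_conj_mem P _ hV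
  have hxV : x ∈ (Subgroup.zpowers x ⊔ Subgroup.zpowers y : Subgroup G) :=
    (le_sup_left : Subgroup.zpowers x ≤ _) (Subgroup.mem_zpowers x)
  have hyV : y ∈ (Subgroup.zpowers x ⊔ Subgroup.zpowers y : Subgroup G) :=
    (le_sup_right : Subgroup.zpowers y ≤ _) (Subgroup.mem_zpowers y)
  have ord : ∀ z : G, orderOf (g⁻¹ * z * g) = orderOf z := orderOf_conj_inv g
  have h1 := h.unique_involution (hg x hxV) (by rw [ord, hx])
  have h2 := h.unique_involution (hg y hyV) (by rw [ord, hy])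
  have h3 : g⁻¹ * x * g = g⁻¹ * y * g := by rw [h1, h2]
  exact mul_left_cancel (mul_right_cancel h3)

/-- the product of two involutions has odd order. -/
theorem QuatData.odd_orderOf_mul_involutions {x y : G} (hx : orderOf x = 2) (hy : orderOf y = 2) :
    ¬ 2 ∣ orderOf (x * y) := by
  intro h2
  obtain ⟨r, hr⟩ := h2
  have hxx : x * x = 1 := by rw [← pow_two, ← hx]; exact pow_orderOf_eq_one x
  have hyy : y * y = 1 := by rw [← pow_two, ← hy]; exact pow_orderOf_eq_one y
  have hxinv : x⁻¹ = x := inv_eq_of_mul_eq_one_left hxx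
  have hyinv : y⁻¹ = y := inv_eq_of_mul_eq_one_left hyy
  have hzpos : 0 < orderOf (x * y) := orderOf_pos _
  have hrpos : 0 < r := by
    rcases Nat.eq_zero_or_pos r with h0 | h0
    · rw [h0, mul_zero] at hr; omega
    · exact h0
  set w := (x * y) ^ r with hw
  have hword : orderOf w = 2 := by
    rw [hw, orderOf_pow, hr, Nat.gcd_eq_right (dvd_mul_left r 2), Nat.mul_div_cancel _ hrpos]
  have hwinv : w⁻¹ = w := by
    have : w * w = 1 := by rw [← pow_two, ← hword]; exact pow_orderOf_eq_one w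
    exact inv_eq_of_mul_eq_one_left this
  -- x inverts x*y
  have hxc : x * (x * y) * x⁻¹ = (x * y)⁻¹ := by
    rw [mul_inv_rev, hxinv, hyinv, ← mul_assoc, hxx, one_mul]
  have hyc : y * (x * y) * y⁻¹ = (x * y)⁻¹ := by
    rw [mul_inv_rev, hxinv, hyinv, mul_assoc y, mul_assoc x, hyy, mul_one]
  have hxw : x * w * x⁻¹ = w := by
    rw [hw, ← conj_pow, hxc, inv_pow, ← hw, hwinv]
  have hyw : y * w * y⁻¹ = w := by
    rw [hw, ← conj_pow, hyc, inv_pow, ← hw, hwinv]
  have hcx : Commute x w := by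
    have := mul_inv_eq_iff_eq_mul.mp hxw
    exact this
  have hcy : Commute y w := by
    have := mul_inv_eq_iff_eq_mul.mp hyw
    exact this
  have e1 := h.eq_of_commute_involutions hx hword hcx
  have e2 := h.eq_of_commute_involutions hy hword hcy
  have hxy : x * y = 1 := by rw [e1, ← e2, hyy]
  rw [hxy, orderOf_one] at hr
  omega

/-- **Key**: a `2`-subgroup of `C_G(u)` containing `H` equals `H`. -/
theorem QuatData.eq_H_of_isPGroup {Q : Subgroup G} (hQ : IsPGroup 2 Q)
    (hHQ : Subgroup.zpowers a ≤ Q)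
    (hQC : ∀ q ∈ Q, q * a ^ (2 ^ (m - 2)) = a ^ (2 ^ (m - 2)) * q) :
    Q = Subgroup.zpowers a := by
  obtain ⟨g, hg⟩ := exists_conj_mem P _ hQ
  obtain ⟨u, hu⟩ : ∃ u : G, u = a ^ (2 ^ (m - 2)) := ⟨_, rfl⟩
  rw [← hu] at hQC
  obtain ⟨v, hv⟩ : ∃ v : G, v = g⁻¹ * u * g := ⟨_, rfl⟩
  obtain ⟨a', ha'⟩ : ∃ a' : G, a' = g⁻¹ * a * g := ⟨_, rfl⟩
  have haQ : a ∈ Q := hHQ (Subgroup.mem_zpowers a)
  have huH : u ∈ Subgroup.zpowers a := hu ▸ h.u_mem
  have huQ : u ∈ Q := hHQ huH
  have hvP : v ∈ (P : Subgroup G) := hv ▸ hg u huQ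
  have ha'P : a' ∈ (P : Subgroup G) := ha' ▸ hg a haQ
  have hcomm : ∀ q ∈ Q, Commute (g⁻¹ * q * g) v := by
    intro q hq
    have := hQC q hq
    show g⁻¹ * q * g * v = v * (g⁻¹ * q * g)
    rw [hv]
    have e1 : g⁻¹ * q * g * (g⁻¹ * u * g) = g⁻¹ * (q * u) * g := by group
    have e2 : g⁻¹ * u * g * (g⁻¹ * q * g) = g⁻¹ * (u * q) * g := by group
    rw [e1, e2, this]
  have ha'ord : orderOf a' = 2 ^ m := by rw [ha', orderOf_conj_inv, h.hord]
  have hvord : orderOf v = 4 := by rw [hv, orderOf_conj_inv, hu, h.orderOf_u]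
  have h8 : 8 ≤ 2 ^ m := by
    calc 8 = 2 ^ 3 := by norm_num
      _ ≤ 2 ^ m := Nat.pow_le_pow_right (by norm_num) h.hm
  have hca' : Commute a' v := ha' ▸ hcomm a haQ
  -- `v ∈ H`
  have hvH : v ∈ Subgroup.zpowers a := by
    by_contra hvH
    by_cases ha'H : a' ∈ Subgroup.zpowers a
    · have h1 := h.inv_H hvP hvH ha'H
      have h2 : v * a' * v⁻¹ = a' := by
        rw [← hca'.eq, mul_inv_cancel_right]
      rw [h2] at h1
      have h3 : a' ^ 2 = 1 := by
        rw [pow_two]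
        nth_rewrite 2 [h1]
        exact mul_inv_cancel _
      have := orderOf_dvd_of_pow_eq_one h3
      rw [ha'ord] at this
      have := Nat.le_of_dvd (by norm_num) this
      omega
    · have hcH := h.hidx v hvP a' ha'P hvH ha'H
      obtain ⟨c, hcdef⟩ : ∃ c : G, c = v⁻¹ * a' := ⟨_, rfl⟩
      rw [← hcdef] at hcH
      have hcv : Commute c v := by
        show c * v = v * c
        rw [hcdef, mul_assoc, hca'.eq, ← mul_assoc, ← mul_assoc, inv_mul_cancel, mul_inv_cancel]
      have h1 := h.inv_H hvP hvH hcH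
      have h2 : v * c * v⁻¹ = c := by
        rw [← hcv.eq, mul_inv_cancel_right]
      rw [h2] at h1
      have hcc : c * c = 1 := by
        nth_rewrite 2 [h1]
        exact mul_inv_cancel _
      have ha'eq : a' = v * c := by rw [hcdef, mul_inv_cancel_left]
      have h3 : a' ^ 4 = 1 := by
        have e1 : a' * a' = v * v := by
          rw [ha'eq, mul_assoc v c, ← mul_assoc c v c, hcv.eq, mul_assoc v c c, hcc, mul_one]
        have e2 : v * v * (v * v) = 1 := by
          have := pow_orderOf_eq_one v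
          rw [hvord] at this
          rw [← this]
          simp [pow_succ, mul_assoc]
        calc a' ^ 4 = (a' * a') * (a' * a') := by simp [pow_succ, mul_assoc]
          _ = 1 := by rw [e1, e2]
      have := orderOf_dvd_of_pow_eq_one h3
      rw [ha'ord] at this
      have := Nat.le_of_dvd (by norm_num) this
      omega
  -- `u ∈ ⟨v⟩`
  have huv : u ∈ Subgroup.zpowers v := by
    rw [hu]
    exact h.u_mem_zpowers_of_four_dvd hvH (by rw [hvord])
  obtain ⟨k, hk⟩ := Subgroup.mem_zpowers_iff.mp huv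
  have hsub : ∀ q ∈ Q, g⁻¹ * q * g ∈ Subgroup.zpowers a := by
    intro q hq
    apply h.mem_H_of_commute_u (hg q hq)
    rw [← hu, ← hk]
    exact ((hcomm q hq).zpow_right k).eq
  -- cardinalities
  have hcard : Nat.card Q ≤ Nat.card (Subgroup.zpowers a) := by
    let f : Q → Subgroup.zpowers a := fun q => ⟨g⁻¹ * q * g, hsub q q.2⟩
    have hf : Function.Injective f := by
      intro q₁ q₂ e
      have := congrArg Subtype.val e
      simp only [f] at this
      exact Subtype.ext (mul_left_cancel (mul_right_cancel this))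
    exact Nat.card_le_card_of_injective f hf
  exact (Subgroup.eq_of_le_of_card_ge hHQ hcard).symm

end Sylow

end Cfsg.Agent.Helper3.Quat
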