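import Mathlib
import Cfsg.Agent.Helper3.QuatSylow

/-!
# The centralizer of an element of order four in a group with quaternion Sylow 2-subgroups (helper3)

`C = C_G(u)` has the cyclic Sylow `2`-subgroup `H = ⟨a⟩`, hence a normal `2`-complement (Burnside),
and we construct a linear character `μ` of `C` with kernel `O(C)⟨t⟩`.
-/

set_option autoImplicit false
set_option linter.unusedSectionVars false

namespace Cfsg.Agent.Helper3.Quat

variable {G : Type*} [Group G]

/-- the centralizer of `u = a ^ (2 ^ (m-2))`. -/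
abbrev centU (a : G) (m : ℕ) : Subgroup G :=
  Subgroup.centralizer ({a ^ (2 ^ (m - 2))} : Set G)

theorem mem_centU_iff {a : G} {m : ℕ} {x : G} :
    x ∈ centU a m ↔ a ^ (2 ^ (m - 2)) * x = x * a ^ (2 ^ (m - 2)) := by
  rw [Subgroup.mem_centralizer_iff]
  constructor
  · intro h
    exact h _ (Set.mem_singleton _)
  · intro h y hy
    rw [Set.mem_singleton_iff] at hy
    subst hy
    exact h

theorem H_le_centU (a : G) (m : ℕ) : Subgroup.zpowers a ≤ centU a m := by
  rw [Subgroup.zpowers_le, mem_centU_iff]
  exact ((Commute.refl a).pow_left _).eq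

variable [Finite G] {P : Sylow 2 G} {a : G} {m : ℕ}

/-- `H`, as a Sylow `2`-subgroup of `C_G(u)`. -/
noncomputable def QuatData.sylowC (h : QuatData (P : Subgroup G) a m) : Sylow 2 (centU a m) where
  toSubgroup := (Subgroup.zpowers a).subgroupOf (centU a m)
  isPGroup' := by
    have h1 : IsPGroup 2 (Subgroup.zpowers a) :=
      IsPGroup.of_card (n := m) (by rw [Nat.card_zpowers, h.hord])
    exact h1.comap_subtype
  is_maximal' := by
    intro Q hQ hle
    have haC : a ∈ centU a m := H_le_centU a m (Subgroup.mem_zpowers a)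
    have key := h.eq_H_of_isPGroup (Q := Q.map (centU a m).subtype) (hQ.map _) ?_ ?_
    · apply le_antisymm ?_ hle
      intro q hq
      show (q : G) ∈ Subgroup.zpowers a
      rw [← key]
      exact ⟨q, hq, rfl⟩
    · rw [Subgroup.zpowers_le]
      refine ⟨⟨a, haC⟩, hle ?_, rfl⟩
      show a ∈ Subgroup.zpowers a
      exact Subgroup.mem_zpowers a
    · rintro _ ⟨q, -, rfl⟩
      exact (mem_centU_iff.mp q.2).symm

theorem QuatData.mem_sylowC (h : QuatData (P : Subgroup G) a m) (x : centU a m) :
    x ∈ h.sylowC ↔ (x : G) ∈ Subgroup.zpowers a := Iff.rfl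

theorem QuatData.isCyclic_sylowC (h : QuatData (P : Subgroup G) a m) : IsCyclic h.sylowC := by
  have e : ((Subgroup.zpowers a).subgroupOf (centU a m)) ≃* Subgroup.zpowers a :=
    Subgroup.subgroupOfEquivOfLe (H_le_centU a m)
  exact (e.isCyclic).mpr inferInstance

theorem QuatData.minFac_card_centU (h : QuatData (P : Subgroup G) a m) :
    (Nat.card (centU a m)).minFac = 2 := by
  rw [Nat.minFac_eq_two_iff]
  have haC : a ∈ centU a m := H_le_centU a m (Subgroup.mem_zpowers a)
  have h1 : orderOf (⟨a, haC⟩ : centU a m) ∣ Nat.card (centU a m) := orderOf_dvd_natCard _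
  rw [Subgroup.orderOf_mk, h.hord] at h1
  have hm := h.hm
  exact (dvd_pow_self 2 (by omega)).trans h1

/-- the transfer homomorphism `C →* H`. -/
noncomputable def QuatData.tau (h : QuatData (P : Subgroup G) a m) : centU a m →* h.sylowC :=
  MonoidHom.transferSylow h.sylowC
    (IsCyclic.normalizer_le_centralizer h.minFac_card_centU h.isCyclic_sylowC)

theorem QuatData.tau_apply_mem (h : QuatData (P : Subgroup G) a m) (s : centU a m)
    (hs : s ∈ h.sylowC) :
    h.tau s = ⟨s, hs⟩ ^ (h.sylowC : Subgroup (centU a m)).index := by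
  have := MonoidHom.transferSylow_eq_pow h.sylowC
    (IsCyclic.normalizer_le_centralizer h.minFac_card_centU h.isCyclic_sylowC) s hs
  rw [QuatData.tau, this]
  rfl

theorem QuatData.odd_index_sylowC (h : QuatData (P : Subgroup G) a m) :
    Odd (h.sylowC : Subgroup (centU a m)).index := by
  rw [← Nat.not_even_iff_odd, even_iff_two_dvd]
  exact h.sylowC.not_dvd_index

theorem QuatData.isComplement_ker_tau (h : QuatData (P : Subgroup G) a m) :
    Subgroup.IsComplement' h.tau.ker (h.sylowC : Subgroup (centU a m)) :=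
  MonoidHom.ker_transferSylow_isComplement' h.sylowC
    (IsCyclic.normalizer_le_centralizer h.minFac_card_centU h.isCyclic_sylowC)

theorem QuatData.odd_card_ker_tau (h : QuatData (P : Subgroup G) a m) :
    Odd (Nat.card h.tau.ker) := by
  rw [← Nat.not_even_iff_odd, even_iff_two_dvd]
  exact MonoidHom.not_dvd_card_ker_transferSylow h.sylowC
    (IsCyclic.normalizer_le_centralizer h.minFac_card_centU h.isCyclic_sylowC)

end Cfsg.Agent.Helper3.Quat
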