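import Mathlib
import Cfsg.Agent.Helper3.QuatSylow
import Cfsg.Agent.Helper15.IndFun
import Cfsg.Agent.Helper15.IndChar
import Cfsg.Agent.Helper15.LinChar
import Cfsg.Agent.Helper15.Gallagher
import Cfsg.Agent.Helper25.GenCharTwo
import Cfsg.Agent.Helper74.CharBasic
import Cfsg.Agent.Helper15.CliffordCorr

/-!
# The exceptional characters attached to an element of order four (helper3)

Abstract setting: `u : G` of order four, `C = C_G(u)`, `b` inverting `u`, and a linear character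
`μ` of `C` which is nontrivial only on elements having `u` as a power, and which is inverted by
the elements inverting `u`.  Then `ϑ = (1_C - μ)^G` is a generalized character of norm three
vanishing off the elements of order divisible by four, and `ϑ = 1 + χ₂ - χ₁`.
-/

set_option autoImplicit false
set_option linter.unusedSectionVars false

namespace Cfsg.Agent.Helper3.Quat

open Cfsg
open scoped ComplexConjugate

universe v

variable {G : Type v} [Group G]

/-- abstract data for the exceptional character construction. -/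
structure MuData (u b : G) (μ : Subgroup.centralizer ({u} : Set G) →* ℂˣ) : Prop where
  hu : orderOf u = 4
  hb : b * u * b⁻¹ = u⁻¹
  h1 : ∀ x : Subgroup.centralizer ({u} : Set G), μ x ≠ 1 → u ∈ Subgroup.zpowers (x : G)
  h2 : ∀ g : G, g * u * g⁻¹ = u⁻¹ → ∀ (x : Subgroup.centralizer ({u} : Set G))
      (hx : g * (x : G) * g⁻¹ ∈ Subgroup.centralizer ({u} : Set G)),
      μ ⟨g * (x : G) * g⁻¹, hx⟩ = (μ x)⁻¹
  h3 : ∀ hu' : u ∈ Subgroup.centralizer ({u} : Set G), μ ⟨u, hu'⟩ = -1
  h4 : ∃ y, μ y ^ 2 ≠ 1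

theorem mem_cent_iff {u x : G} :
    x ∈ Subgroup.centralizer ({u} : Set G) ↔ u * x = x * u := by
  rw [Subgroup.mem_centralizer_iff]
  constructor
  · intro h
    exact h _ (Set.mem_singleton _)
  · intro h y hy
    rw [Set.mem_singleton_iff] at hy
    subst hy
    exact h

theorem mem_cent_of_mem_zpowers {u x : G} (h : u ∈ Subgroup.zpowers x) :
    x ∈ Subgroup.centralizer ({u} : Set G) := by
  rw [mem_cent_iff]
  obtain ⟨k, rfl⟩ := Subgroup.mem_zpowers_iff.mp h
  exact ((Commute.refl x).zpow_left k).eq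

/-- elements of order four in a cyclic group of order four. -/
theorem eq_or_eq_inv_of_orderOf_four {u v : G} (hu : orderOf u = 4) (hv : orderOf v = 4)
    (hvu : v ∈ Subgroup.zpowers u) : v = u ∨ v = u⁻¹ := by
  obtain ⟨k, rfl⟩ := Subgroup.mem_zpowers_iff.mp hvu
  have h4 : u ^ (4 : ℤ) = 1 := by
    have := pow_orderOf_eq_one u
    rw [hu] at this
    exact_mod_cast this
  have hk : u ^ k = u ^ (k % 4) := by
    have := zpow_mod_orderOf u k
    rw [hu] at this
    exact_mod_cast this.symm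
  have hcases : k % 4 = 0 ∨ k % 4 = 1 ∨ k % 4 = 2 ∨ k % 4 = 3 := by omega
  rcases hcases with h0 | h0 | h0 | h0
  · exfalso
    rw [hk, h0, zpow_zero, orderOf_one] at hv
    omega
  · left
    rw [hk, h0, zpow_one]
  · exfalso
    have h2 : (u ^ k) ^ 2 = 1 := by
      rw [hk, h0]
      have : (u ^ (2 : ℤ)) ^ 2 = u ^ (4 : ℤ) := by
        rw [← zpow_natCast, ← zpow_mul]
        norm_num
      rw [this, h4]
    have := orderOf_dvd_of_pow_eq_one h2
    rw [hv] at this
    omega
  · right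
    rw [hk, h0]
    have : u ^ (3 : ℤ) * u = 1 := by
      rw [← zpow_add_one]
      norm_num
      exact_mod_cast h4
    exact eq_inv_of_mul_eq_one_left this

theorem conj_eq_iff_mem {u g : G} :
    g * u * g⁻¹ = u ↔ g ∈ Subgroup.centralizer ({u} : Set G) := by
  rw [mem_cent_iff, mul_inv_eq_iff_eq_mul]
  exact eq_comm

theorem conj_eq_inv_iff_mem {u b g : G} (hb : b * u * b⁻¹ = u⁻¹) :
    g * u * g⁻¹ = u⁻¹ ↔ b⁻¹ * g ∈ Subgroup.centralizer ({u} : Set G) := by
  rw [← conj_eq_iff_mem, ← hb]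
  constructor
  · intro h
    have : b⁻¹ * g * u * (b⁻¹ * g)⁻¹ = b⁻¹ * (g * u * g⁻¹) * b := by group
    rw [this, h]
    group
  · intro h
    have : g * u * g⁻¹ = b * (b⁻¹ * g * u * (b⁻¹ * g)⁻¹) * b⁻¹ := by group
    rw [this, h]

theorem ne_inv_of_orderOf_four {u : G} (hu : orderOf u = 4) : u ≠ u⁻¹ := by
  intro h
  have h2 : u ^ 2 = 1 := by
    rw [pow_two]
    nth_rewrite 2 [h]
    exact mul_inv_cancel u
  have := orderOf_dvd_of_pow_eq_one h2
  rw [hu] at this
  omega

theorem orderOf_conj' (g z : G) : orderOf (g * z * g⁻¹) = orderOf z := by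
  have := (MulAut.conj g).orderOf_eq z
  simpa [MulAut.conj_apply] using this

section Theta

variable {u b : G} {μ : Subgroup.centralizer ({u} : Set G) →* ℂˣ}

theorem MuData.b_not_mem (hμ : MuData u b μ) : b ∉ Subgroup.centralizer ({u} : Set G) := by
  intro hb
  rw [← conj_eq_iff_mem, hμ.hb] at hb
  exact ne_inv_of_orderOf_four hμ.hu hb.symm

/-- the function `1 - μ` on `C`. -/
noncomputable def fmu (μ : Subgroup.centralizer ({u} : Set G) →* ℂˣ) :
    Subgroup.centralizer ({u} : Set G) → ℂ := fun x => 1 - (μ x : ℂ)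

theorem fmu_apply (x : Subgroup.centralizer ({u} : Set G)) : fmu μ x = 1 - (μ x : ℂ) := rfl

variable [Fintype G]

/-- the generalized character `ϑ = (1_C - μ)^G`. -/
noncomputable def theta (μ : Subgroup.centralizer ({u} : Set G) →* ℂˣ) : G → ℂ :=
  indFun (Subgroup.centralizer ({u} : Set G)) (fmu μ)

theorem isClassFunction_theta : IsClassFunction G (theta μ) :=
  Helper15.isClassFunction_indFun _ _

/-- a nonzero term of the induction formula comes from an element with `u` as a power. -/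
theorem mem_zpowers_of_term_ne_zero (hμ : MuData u b μ) {y : G}
    (hne : extendByZero (Subgroup.centralizer ({u} : Set G)) (fmu μ) y ≠ 0) :
    u ∈ Subgroup.zpowers y := by
  have hmem : y ∈ Subgroup.centralizer ({u} : Set G) := by
    by_contra hn
    exact hne (Helper15.extendByZero_of_not_mem _ _ hn)
  rw [Helper15.extendByZero_of_mem _ _ hmem, fmu_apply] at hne
  have hμne : μ ⟨y, hmem⟩ ≠ 1 := by
    intro h1
    apply hne
    rw [h1]
    simp
  exact hμ.h1 _ hμne

open Classical in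
theorem term_eq (hμ : MuData u b μ) {x : G} (hx : u ∈ Subgroup.zpowers x) (g : G) :
    extendByZero (Subgroup.centralizer ({u} : Set G)) (fmu μ) (g⁻¹ * x * g) =
      (if g ∈ Subgroup.centralizer ({u} : Set G) then
        1 - (μ ⟨x, mem_cent_of_mem_zpowers hx⟩ : ℂ) else 0) +
      (if b⁻¹ * g ∈ Subgroup.centralizer ({u} : Set G) then
        1 - (((μ ⟨x, mem_cent_of_mem_zpowers hx⟩)⁻¹ : ℂˣ) : ℂ) else 0) := by
  have hxC : x ∈ Subgroup.centralizer ({u} : Set G) := mem_cent_of_mem_zpowers hx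
  by_cases hg : g ∈ Subgroup.centralizer ({u} : Set G)
  · have hbg : b⁻¹ * g ∉ Subgroup.centralizer ({u} : Set G) := by
      intro hbg
      have h1 := Subgroup.mul_mem _ hg (Subgroup.inv_mem _ hbg)
      have h2 : g * (b⁻¹ * g)⁻¹ = b := by group
      rw [h2] at h1
      exact hμ.b_not_mem h1
    rw [if_pos hg, if_neg hbg, add_zero]
    have hmem : g⁻¹ * x * g ∈ Subgroup.centralizer ({u} : Set G) :=
      Subgroup.mul_mem _ (Subgroup.mul_mem _ (Subgroup.inv_mem _ hg) hxC) hg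
    rw [Helper15.extendByZero_of_mem _ _ hmem, fmu_apply]
    have e : (⟨g⁻¹ * x * g, hmem⟩ : Subgroup.centralizer ({u} : Set G)) =
        (⟨g, hg⟩ : Subgroup.centralizer ({u} : Set G))⁻¹ * ⟨x, hxC⟩ * ⟨g, hg⟩ := rfl
    rw [e, map_mul, map_mul, map_inv, mul_comm, mul_inv_cancel_left]
  · by_cases hbg : b⁻¹ * g ∈ Subgroup.centralizer ({u} : Set G)
    · rw [if_neg hg, if_pos hbg, zero_add]
      have hgu : g * u * g⁻¹ = u⁻¹ := (conj_eq_inv_iff_mem hμ.hb).mpr hbg
      have hu' : u = g⁻¹ * u⁻¹ * g := by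
        rw [← hgu]
        group
      have hgu' : g⁻¹ * u * g⁻¹⁻¹ = u⁻¹ := by
        rw [inv_inv]
        calc g⁻¹ * u * g = (g⁻¹ * u⁻¹ * g)⁻¹ := by group
          _ = u⁻¹ := by rw [← hu']
      have hxu : u⁻¹ * x = x * u⁻¹ := by
        have := mem_cent_iff.mp hxC
        rw [inv_mul_eq_iff_eq_mul, ← mul_assoc, this, mul_assoc, mul_inv_cancel, mul_one]
      have hmem : g⁻¹ * x * g⁻¹⁻¹ ∈ Subgroup.centralizer ({u} : Set G) := by
        rw [inv_inv, mem_cent_iff]
        calc u * (g⁻¹ * x * g) = (g⁻¹ * u⁻¹ * g) * (g⁻¹ * x * g) := by rw [← hu']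
          _ = g⁻¹ * (u⁻¹ * x) * g := by group
          _ = g⁻¹ * (x * u⁻¹) * g := by rw [hxu]
          _ = (g⁻¹ * x * g) * (g⁻¹ * u⁻¹ * g) := by group
          _ = g⁻¹ * x * g * u := by rw [← hu']
      have h2 := hμ.h2 g⁻¹ hgu' ⟨x, hxC⟩ hmem
      have e : g⁻¹ * x * g = g⁻¹ * x * g⁻¹⁻¹ := by rw [inv_inv]
      rw [e, Helper15.extendByZero_of_mem _ _ hmem, fmu_apply, h2]
    · rw [if_neg hg, if_neg hbg, add_zero]
      by_contra hne
      have h2 := mem_zpowers_of_term_ne_zero hμ hne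
      have h3 : g * u * g⁻¹ ∈ Subgroup.zpowers x := by
        obtain ⟨k, hk⟩ := Subgroup.mem_zpowers_iff.mp h2
        rw [← hk]
        have e : g⁻¹ * x * g = g⁻¹ * x * g⁻¹⁻¹ := by rw [inv_inv]
        rw [e, conj_zpow]
        have : g * (g⁻¹ * x ^ k * g⁻¹⁻¹) * g⁻¹ = x ^ k := by group
        rw [this]
        exact Subgroup.zpow_mem _ (Subgroup.mem_zpowers x) k
      have h4 : orderOf (g * u * g⁻¹) = 4 := by rw [orderOf_conj', hμ.hu]
      have hfin : IsOfFinOrder x := isOfFinOrder_of_finite x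
      have h5 := mem_zpowers_of_orderOf_dvd hfin hx h3 (by rw [h4, hμ.hu])
      rcases eq_or_eq_inv_of_orderOf_four hμ.hu h4 h5 with h6 | h6
      · exact hg (conj_eq_iff_mem.mp h6)
      · exact hbg ((conj_eq_inv_iff_mem hμ.hb).mp h6)

open Classical in
theorem sum_ite_mem (C : Subgroup G) (A : ℂ) :
    ∑ g : G, (if g ∈ C then A else 0) = (Nat.card C : ℂ) * A := by
  rw [← Finset.sum_filter, Finset.sum_const, nsmul_eq_mul]
  congr 2
  rw [Nat.card_eq_fintype_card, Fintype.card_subtype]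

open Classical in
theorem sum_ite_mem_translate (C : Subgroup G) (b : G) (A : ℂ) :
    ∑ g : G, (if b⁻¹ * g ∈ C then A else 0) = (Nat.card C : ℂ) * A := by
  rw [← sum_ite_mem C A]
  rw [← Equiv.sum_comp (Equiv.mulLeft b) (fun g => if b⁻¹ * g ∈ C then A else 0)]
  apply Finset.sum_congr rfl
  intro g _
  simp

theorem card_ne_zero (C : Subgroup G) : (Nat.card C : ℂ) ≠ 0 := by
  have : Nat.card C ≠ 0 := Nat.card_pos.ne'
  exact_mod_cast this

/-- the values of `ϑ` on the elements having `u` as a power. -/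
theorem theta_apply (hμ : MuData u b μ) {x : G} (hx : u ∈ Subgroup.zpowers x) :
    theta μ x = (1 - (μ ⟨x, mem_cent_of_mem_zpowers hx⟩ : ℂ)) +
      (1 - (((μ ⟨x, mem_cent_of_mem_zpowers hx⟩)⁻¹ : ℂˣ) : ℂ)) := by
  classical
  unfold theta
  rw [Helper15.indFun_apply]
  simp only [term_eq hμ hx]
  rw [Finset.sum_add_distrib, sum_ite_mem, sum_ite_mem_translate]
  have := card_ne_zero (Subgroup.centralizer ({u} : Set G))
  field_simp

/-- `ϑ` vanishes on the elements of order not divisible by four. -/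
theorem theta_eq_zero (hμ : MuData u b μ) {g : G} (hg : ¬ 4 ∣ orderOf g) : theta μ g = 0 := by
  unfold theta
  rw [Helper15.indFun_apply]
  have : ∀ y : G, extendByZero (Subgroup.centralizer ({u} : Set G)) (fmu μ) (y⁻¹ * g * y) = 0 := by
    intro y
    by_contra hne
    have h2 := mem_zpowers_of_term_ne_zero hμ hne
    apply hg
    rw [← hμ.hu, ← orderOf_conj_inv y g]
    exact orderOf_dvd_of_mem_zpowers h2
  simp [this]

theorem theta_one (hμ : MuData u b μ) : theta μ 1 = 0 := by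
  apply theta_eq_zero hμ
  rw [orderOf_one]
  omega

theorem theta_u (hμ : MuData u b μ) : theta μ u = 4 := by
  rw [theta_apply hμ (Subgroup.mem_zpowers u), hμ.h3]
  norm_num

theorem conj_mu (x : Subgroup.centralizer ({u} : Set G)) :
    conj (μ x : ℂ) = (((μ x)⁻¹ : ℂˣ) : ℂ) := by
  have h1 : (μ x) ^ (Nat.card (Subgroup.centralizer ({u} : Set G))) = 1 := by
    rw [← map_pow, pow_card_eq_one', map_one]
  have h2 : (μ x : ℂ) ^ (Nat.card (Subgroup.centralizer ({u} : Set G))) = 1 := by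
    have := congrArg (fun z : ℂˣ => (z : ℂ)) h1
    simpa using this
  have h3 : ‖(μ x : ℂ)‖ = 1 := Complex.norm_eq_one_of_pow_eq_one h2 Nat.card_pos.ne'
  rw [Units.val_inv_eq_inv_val]
  exact (Complex.inv_eq_conj h3).symm

theorem MuData.mu_ne_one (hμ : MuData u b μ) : (Units.coeHom ℂ).comp μ ≠ 1 := by
  intro h
  have h1 := DFunLike.congr_fun h ⟨u, mem_cent_of_mem_zpowers (Subgroup.mem_zpowers u)⟩
  rw [MonoidHom.comp_apply, hμ.h3] at h1
  norm_num at h1

theorem MuData.mu_inv_ne_one (hμ : MuData u b μ) : (Units.coeHom ℂ).comp μ⁻¹ ≠ 1 := by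
  intro h
  have h1 := DFunLike.congr_fun h ⟨u, mem_cent_of_mem_zpowers (Subgroup.mem_zpowers u)⟩
  rw [MonoidHom.comp_apply, MonoidHom.inv_apply, hμ.h3] at h1
  norm_num at h1

theorem MuData.mu_sq_ne_one (hμ : MuData u b μ) : (Units.coeHom ℂ).comp (μ ^ 2) ≠ 1 := by
  intro h
  obtain ⟨y, hy⟩ := hμ.h4
  have h1 := DFunLike.congr_fun h y
  rw [MonoidHom.comp_apply, MonoidHom.pow_apply] at h1
  apply hy
  exact Units.ext (by simpa using h1)

theorem inner_theta_one (hμ : MuData u b μ) : classInner (theta μ) (fun _ => 1) = 1 := by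
  classical
  unfold theta
  rw [Helper15.frobenius_reciprocity _ (fmu μ) (fun _ => 1) (fun _ _ => rfl),
    Helper15.classInner_apply]
  simp only [map_one, mul_one, fmu_apply]
  rw [Finset.sum_sub_distrib, Finset.sum_const, Finset.card_univ, ← Nat.card_eq_fintype_card,
    nsmul_eq_mul, mul_one]
  have h0 : ∑ x : Subgroup.centralizer ({u} : Set G), (μ x : ℂ) = 0 :=
    sum_hom_units_eq_zero ((Units.coeHom ℂ).comp μ) hμ.mu_ne_one
  rw [h0, sub_zero]
  exact inv_mul_cancel₀ (card_ne_zero _)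

theorem inner_theta_theta (hμ : MuData u b μ) : classInner (theta μ) (theta μ) = 3 := by
  classical
  have h0 : classInner (theta μ) (theta μ) =
      classInner (fmu μ) (fun x : Subgroup.centralizer ({u} : Set G) => theta μ x) :=
    Helper15.frobenius_reciprocity _ (fmu μ) (theta μ) isClassFunction_theta
  rw [h0, Helper15.classInner_apply]
  have hterm : ∀ x : Subgroup.centralizer ({u} : Set G), fmu μ x * conj (theta μ x) =
      3 - 3 * (μ x : ℂ) - (((μ⁻¹ : _ →* ℂˣ) x : ℂˣ) : ℂ) + (((μ ^ 2 : _ →* ℂˣ) x : ℂˣ) : ℂ) := by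
    intro x
    rw [MonoidHom.inv_apply, MonoidHom.pow_apply, fmu_apply]
    by_cases hx : μ x = 1
    · rw [hx]
      simp
    · have hux := hμ.h1 x hx
      rw [theta_apply hμ hux]
      have e : (⟨(x : G), mem_cent_of_mem_zpowers hux⟩ : Subgroup.centralizer ({u} : Set G)) = x :=
        rfl
      rw [e, map_add, map_sub, map_sub, map_one, conj_mu]
      have h5 : conj (((μ x)⁻¹ : ℂˣ) : ℂ) = (μ x : ℂ) := by
        rw [← conj_mu, Complex.conj_conj]
      rw [h5]
      have h6 : (μ x : ℂ) * (((μ x)⁻¹ : ℂˣ) : ℂ) = 1 := by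
        rw [← Units.val_mul, mul_inv_cancel, Units.val_one]
      rw [Units.val_pow_eq_pow_val]
      linear_combination (1 : ℂ) * h6
  simp only [hterm]
  rw [Finset.sum_add_distrib, Finset.sum_sub_distrib, Finset.sum_sub_distrib, ← Finset.mul_sum]
  have h1 : ∑ x : Subgroup.centralizer ({u} : Set G), (μ x : ℂ) = 0 :=
    sum_hom_units_eq_zero ((Units.coeHom ℂ).comp μ) hμ.mu_ne_one
  have h2 : ∑ x : Subgroup.centralizer ({u} : Set G), (((μ⁻¹ : _ →* ℂˣ) x : ℂˣ) : ℂ) = 0 :=
    sum_hom_units_eq_zero ((Units.coeHom ℂ).comp μ⁻¹) hμ.mu_inv_ne_one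
  have h3 : ∑ x : Subgroup.centralizer ({u} : Set G), (((μ ^ 2 : _ →* ℂˣ) x : ℂˣ) : ℂ) = 0 :=
    sum_hom_units_eq_zero ((Units.coeHom ℂ).comp (μ ^ 2)) hμ.mu_sq_ne_one
  rw [h1, h2, h3, Finset.sum_const, Finset.card_univ, ← Nat.card_eq_fintype_card, nsmul_eq_mul]
  have := card_ne_zero (Subgroup.centralizer ({u} : Set G))
  field_simp
  ring

theorem isGenChar_theta : IsGeneralizedCharacter G (theta μ) := by
  have h1 : IsCharacter (Subgroup.centralizer ({u} : Set G)) (fun _ => (1 : ℂ)) :=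
    Helper74.isCharacter_one
  have h2 : IsCharacter (Subgroup.centralizer ({u} : Set G)) (fun x => (μ x : ℂ)) :=
    (Helper15.isCharacter_of_hom ((Units.coeHom ℂ).comp μ)).1
  refine ⟨indFun _ (fun _ => 1), indFun _ (fun x => (μ x : ℂ)),
    Helper15.isCharacter_indFun _ h1, Helper15.isCharacter_indFun _ h2, ?_⟩
  unfold theta
  rw [← Helper15.indFun_sub]
  rfl

/-- **The exceptional characters.** -/
theorem exists_exceptional_chars (hμ : MuData u b μ) :
    ∃ χ₁ χ₂ : G → ℂ, IsIrrCharacter G χ₁ ∧ IsIrrCharacter G χ₂ ∧ χ₁ ≠ (fun _ => 1) ∧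
      χ₂ ≠ (fun _ => 1) ∧ χ₁ 1 = χ₂ 1 + 1 ∧ (∀ g : G, ¬ 4 ∣ orderOf g → χ₁ g - χ₂ g = 1) ∧
      1 + χ₂ u - χ₁ u = 4 := by
  classical
  obtain ⟨triv, htriv⟩ : ∃ triv : IrrCharacter G, (triv : G → ℂ) = fun _ => 1 :=
    ⟨⟨fun _ => 1, Helper15.isIrrCharacter_one G⟩, rfl⟩
  have h11 : classInner (fun _ : G => (1 : ℂ)) (fun _ => 1) = 1 := by
    rw [← htriv]
    exact Helper74.irr_inner_self triv
  have h1θ : classInner (fun _ : G => (1 : ℂ)) (theta μ) = 1 := by
    rw [← Helper15.classInner_conj_symm, inner_theta_one hμ, map_one]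
  obtain ⟨α, hαdef⟩ : ∃ α : G → ℂ, α = theta μ - fun _ => 1 := ⟨_, rfl⟩
  have hα : IsGeneralizedCharacter G α := by
    rw [hαdef]
    exact Helper25.isGenChar_sub isGenChar_theta
      (Helper25.isGenChar_of_isCharacter Helper74.isCharacter_one)
  have hnorm : classInner α α = 2 := by
    rw [hαdef, Helper15.classInner_sub_left, Helper15.classInner_sub_right,
      Helper15.classInner_sub_right, inner_theta_theta hμ, inner_theta_one hμ, h1θ, h11]
    norm_num
  have hα1 : classInner α (fun _ => 1) = 0 := by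
    rw [hαdef, Helper15.classInner_sub_left, inner_theta_one hμ, h11]
    norm_num
  obtain ⟨α₁, α₂, hs1, hs2, h12, hsum⟩ := Helper25.exists_two_signedIrr hα hnorm
  obtain ⟨s₁, ψ₁, hs₁, rfl⟩ := hs1.exists_sign
  obtain ⟨s₂, ψ₂, hs₂, rfl⟩ := hs2.exists_sign
  obtain ⟨d₁, hd₁pos, hd₁⟩ := Helper15.irr_degree_pos ψ₁.2
  obtain ⟨d₂, hd₂pos, hd₂⟩ := Helper15.irr_degree_pos ψ₂.2
  have hs₁0 : s₁ ≠ 0 := by rcases hs₁ with rfl | rfl <;> norm_num
  have hs₂0 : s₂ ≠ 0 := by rcases hs₂ with rfl | rfl <;> norm_num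
  have hne : ψ₁ ≠ ψ₂ := by
    intro h
    rw [h, Helper74.classInner_smul_left, Helper74.classInner_smul_right,
      Helper74.irr_inner_self, mul_one] at h12
    rcases mul_eq_zero.mp h12 with h0 | h0
    · exact hs₁0 h0
    · exact hs₂0 ((map_eq_zero _).mp h0)
  -- values
  have hval : ∀ g : G, theta μ g - 1 = s₁ * (ψ₁ : G → ℂ) g + s₂ * (ψ₂ : G → ℂ) g := by
    intro g
    have := congrFun hsum g
    rw [hαdef] at this
    simpa using this
  -- neither is principal
  have hα1' : s₁ * classInner (ψ₁ : G → ℂ) (fun _ => 1) +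
      s₂ * classInner (ψ₂ : G → ℂ) (fun _ => 1) = 0 := by
    rw [hsum, Helper15.classInner_add_left, Helper74.classInner_smul_left,
      Helper74.classInner_smul_left] at hα1
    exact hα1
  have hnp1 : (ψ₁ : G → ℂ) ≠ fun _ => 1 := by
    intro h
    have e : ψ₁ = triv := Subtype.ext (h.trans htriv.symm)
    rw [← htriv, e, Helper74.irr_inner_self, Helper74.irr_inner_ne (e ▸ hne).symm] at hα1'
    apply hs₁0
    simpa using hα1'
  have hnp2 : (ψ₂ : G → ℂ) ≠ fun _ => 1 := by
    intro h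
    have e : ψ₂ = triv := Subtype.ext (h.trans htriv.symm)
    rw [← htriv, e, Helper74.irr_inner_self, Helper74.irr_inner_ne (e ▸ hne)] at hα1'
    apply hs₂0
    simpa using hα1'
  have hdeg := hval 1
  rw [theta_one hμ, hd₁, hd₂] at hdeg
  -- reduce to the mixed-sign case
  obtain ⟨χ₁, χ₂, hv, hn1, hn2⟩ : ∃ χ₁ χ₂ : IrrCharacter G,
      (∀ g : G, theta μ g - 1 = (χ₂ : G → ℂ) g - (χ₁ : G → ℂ) g) ∧
      (χ₁ : G → ℂ) ≠ (fun _ => 1) ∧ (χ₂ : G → ℂ) ≠ (fun _ => 1) := by
    rcases hs₁ with rfl | rfl <;> rcases hs₂ with rfl | rfl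
    · exfalso
      have : ((d₁ + d₂ + 1 : ℕ) : ℂ) = 0 := by
        push_cast
        linear_combination (-1 : ℂ) * hdeg
      have : d₁ + d₂ + 1 = 0 := by exact_mod_cast this
      omega
    · refine ⟨ψ₂, ψ₁, fun g => ?_, hnp2, hnp1⟩
      rw [hval g]
      ring
    · refine ⟨ψ₁, ψ₂, fun g => ?_, hnp1, hnp2⟩
      rw [hval g]
      ring
    · exfalso
      have : ((d₁ + d₂ : ℕ) : ℂ) = ((1 : ℕ) : ℂ) := by
        push_cast
        linear_combination (1 : ℂ) * hdeg
      have : d₁ + d₂ = 1 := by exact_mod_cast this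
      omega
  refine ⟨χ₁, χ₂, χ₁.2, χ₂.2, hn1, hn2, ?_, ?_, ?_⟩
  · have := hv 1
    rw [theta_one hμ] at this
    linear_combination this
  · intro g hg
    have := hv g
    rw [theta_eq_zero hμ hg] at this
    linear_combination this
  · have := hv u
    rw [theta_u hμ] at this
    linear_combination (-1 : ℂ) * this

end Theta

end Cfsg.Agent.Helper3.Quat
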