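import Mathlib
import Cfsg.Agent.Helper3.QuatCent
import Cfsg.Agent.Helper3.QuatChar

/-!
# The linear character `μ` of `C_G(u)` (helper3)

`μ = ψ ∘ τ`, where `τ : C →* H` is the transfer into the cyclic Sylow `2`-subgroup `H = ⟨a⟩` and
`ψ` is a character of `H` with kernel `⟨t⟩`.
-/

set_option autoImplicit false
set_option linter.unusedSectionVars false

namespace Cfsg.Agent.Helper3.Quat

theorem exists_unit_orderOf (n : ℕ) (hn : n ≠ 0) : ∃ ζ : ℂˣ, orderOf ζ = n := by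
  have hprim := Complex.isPrimitiveRoot_exp n hn
  refine ⟨(hprim.isUnit hn).unit, ?_⟩
  rw [← orderOf_units, IsUnit.unit_spec]
  exact hprim.eq_orderOf.symm

/-- a character of a cyclic group of order `2 ^ m` with kernel of order two. -/
theorem exists_psi {S : Type*} [Group S] (g₀ : S) (hg₀ : ∀ x : S, x ∈ Subgroup.zpowers g₀)
    {m : ℕ} (hm : 1 ≤ m) (hord : orderOf g₀ = 2 ^ m) :
    ∃ ψ : S →* ℂˣ, orderOf (ψ g₀) = 2 ^ (m - 1) ∧ ∀ s : S, ψ s = 1 ↔ s * s = 1 := by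
  obtain ⟨ζ, hζ⟩ := exists_unit_orderOf (2 ^ (m - 1)) (by positivity)
  have hdvd : orderOf ζ ∣ orderOf g₀ := by
    rw [hζ, hord]
    exact pow_dvd_pow 2 (by omega)
  refine ⟨monoidHomOfForallMemZpowers hg₀ hdvd, ?_, ?_⟩
  · rw [monoidHomOfForallMemZpowers_apply_gen, hζ]
  · intro s
    obtain ⟨k, rfl⟩ := Subgroup.mem_zpowers_iff.mp (hg₀ s)
    rw [map_zpow, monoidHomOfForallMemZpowers_apply_gen, ← zpow_add,
      ← orderOf_dvd_iff_zpow_eq_one, ← orderOf_dvd_iff_zpow_eq_one, hζ, hord]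
    have e : (2 : ℕ) ^ m = 2 * 2 ^ (m - 1) := by
      rw [← pow_succ']
      congr 1
      omega
    rw [e, ← two_mul]
    push_cast
    exact (mul_dvd_mul_iff_left (two_ne_zero)).symm

/-- in a commutative group, an element killed by coprime exponents is trivial. -/
theorem eq_one_of_pow_coprime {A : Type*} [Group A] {z : A} {i j : ℕ} (hi : z ^ i = 1)
    (hj : z ^ j = 1) (hc : Nat.Coprime i j) : z = 1 := by
  have h1 := orderOf_dvd_of_pow_eq_one hi
  have h2 := orderOf_dvd_of_pow_eq_one hj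
  have := Nat.eq_one_of_dvd_coprimes hc h1 h2
  exact orderOf_eq_one_iff.mp this

section Mu

variable {G : Type*} [Group G] [Finite G] {P : Sylow 2 G} {a : G} {m : ℕ}

/-- conjugation by an element inverting `u` preserves `C_G(u)`. -/
theorem conj_mem_cent_of_inv {u g y : G} (hg : g * u * g⁻¹ = u⁻¹)
    (hy : y ∈ Subgroup.centralizer ({u} : Set G)) :
    g * y * g⁻¹ ∈ Subgroup.centralizer ({u} : Set G) := by
  have hyu : u * y = y * u := mem_cent_iff.mp hy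
  have hyu' : u⁻¹ * y = y * u⁻¹ := by
    rw [inv_mul_eq_iff_eq_mul, ← mul_assoc, hyu, mul_assoc, mul_inv_cancel, mul_one]
  have h1 : u⁻¹ * (g * y * g⁻¹) = (g * y * g⁻¹) * u⁻¹ := by
    rw [← hg]
    have e1 : g * u * g⁻¹ * (g * y * g⁻¹) = g * (u * y) * g⁻¹ := by group
    have e2 : g * y * g⁻¹ * (g * u * g⁻¹) = g * (y * u) * g⁻¹ := by group
    rw [e1, e2, hyu]
  rw [mem_cent_iff]
  rw [inv_mul_eq_iff_eq_mul, ← mul_assoc] at h1
  have h2 := congrArg (fun z => z * u) h1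
  simp only [inv_mul_cancel_right] at h2
  exact h2.symm

theorem QuatData.exists_muData (h : QuatData (P : Subgroup G) a m) :
    ∃ (b : G) (μ : centU a m →* ℂˣ), MuData (a ^ (2 ^ (m - 2))) b μ := by
  have hm := h.hm
  have haC : a ∈ centU a m := H_le_centU a m (Subgroup.mem_zpowers a)
  -- the generator of `H` as an element of the Sylow subgroup of `C`
  obtain ⟨g₀, hg₀def⟩ : ∃ g₀ : h.sylowC,
      g₀ = ⟨⟨a, haC⟩, (h.mem_sylowC _).mpr (Subgroup.mem_zpowers a)⟩ := ⟨_, rfl⟩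
  have hg₀ : ∀ x : h.sylowC, x ∈ Subgroup.zpowers g₀ := by
    intro x
    obtain ⟨k, hk⟩ := Subgroup.mem_zpowers_iff.mp ((h.mem_sylowC x.1).mp x.2)
    refine Subgroup.mem_zpowers_iff.mpr ⟨k, ?_⟩
    apply Subtype.ext
    apply Subtype.ext
    rw [Subgroup.coe_zpow, Subgroup.coe_zpow, hg₀def]
    exact hk
  have hg₀ord : orderOf g₀ = 2 ^ m := by
    rw [hg₀def, Subgroup.orderOf_mk, Subgroup.orderOf_mk, h.hord]
  obtain ⟨ψ, hψord, hψker⟩ := exists_psi g₀ hg₀ (by omega : 1 ≤ m) hg₀ord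
  obtain ⟨r, hrdef⟩ : ∃ r : ℕ, r = (h.sylowC : Subgroup (centU a m)).index := ⟨_, rfl⟩
  have hrodd : Odd r := hrdef ▸ h.odd_index_sylowC
  have hcop : ∀ j : ℕ, Nat.Coprime r (2 ^ j) := fun j =>
    (Nat.Coprime.pow_right j (Nat.coprime_two_right.mpr hrodd))
  obtain ⟨μ, hμdef⟩ : ∃ μ : centU a m →* ℂˣ, μ = ψ.comp h.tau := ⟨_, rfl⟩
  -- every element of the Sylow subgroup is killed by `2 ^ m`
  have hS2m : ∀ s : h.sylowC, s ^ (2 ^ m) = 1 := by
    intro s
    obtain ⟨k, rfl⟩ := Subgroup.mem_zpowers_iff.mp (hg₀ s)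
    rw [← zpow_natCast, ← zpow_mul, mul_comm, zpow_mul, zpow_natCast, ← hg₀ord,
      pow_orderOf_eq_one, one_zpow]
  -- values of `μ` are `2`-elements
  have hμ2m : ∀ x : centU a m, (μ x) ^ (2 ^ m) = 1 := by
    intro x
    rw [hμdef, MonoidHom.comp_apply, ← map_pow, hS2m, map_one]
  -- `μ` on `H`
  have hμH : ∀ (s : centU a m) (hs : s ∈ h.sylowC), μ s = (ψ ⟨s, hs⟩) ^ r := by
    intro s hs
    rw [hμdef, MonoidHom.comp_apply, h.tau_apply_mem s hs, map_pow, hrdef]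
  have hμHker : ∀ (s : centU a m) (hs : s ∈ h.sylowC), s * s = 1 → μ s = 1 := by
    intro s hs h1
    rw [hμH s hs]
    have h2 : ψ ⟨s, hs⟩ = 1 := (hψker ⟨s, hs⟩).mpr (Subtype.ext (by simpa using h1))
    rw [h2, one_pow]
  -- odd order elements lie in the kernel
  have hμodd : ∀ x : centU a m, Odd (orderOf x) → μ x = 1 := by
    intro x hx
    have h1 : (μ x) ^ (orderOf x) = 1 := by rw [← map_pow, pow_orderOf_eq_one, map_one]
    exact eq_one_of_pow_coprime h1 (hμ2m x)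
      (Nat.Coprime.pow_right m (Nat.coprime_two_right.mpr hx))
  obtain ⟨b, hbP, hbH⟩ := h.hex
  have hbu : b * a ^ (2 ^ (m - 2)) * b⁻¹ = (a ^ (2 ^ (m - 2)))⁻¹ := h.inv_H hbP hbH h.u_mem
  -- inversion under `b`
  have hstep1 : ∀ (y : centU a m) (hy : b * (y : G) * b⁻¹ ∈ centU a m),
      μ ⟨b * (y : G) * b⁻¹, hy⟩ = (μ y)⁻¹ := by
    intro y hy
    obtain ⟨⟨⟨k, hk⟩, ⟨s, hs⟩⟩, hks, -⟩ := h.isComplement_ker_tau.existsUnique y
    simp only at hks
    have hyG : (y : G) = (k : G) * (s : G) := by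
      rw [← hks]
      rfl
    have hkC : b * (k : G) * b⁻¹ ∈ centU a m := conj_mem_cent_of_inv hbu k.2
    have hsC : b * (s : G) * b⁻¹ ∈ centU a m := conj_mem_cent_of_inv hbu s.2
    have e1 : (⟨b * (y : G) * b⁻¹, hy⟩ : centU a m) =
        ⟨b * (k : G) * b⁻¹, hkC⟩ * ⟨b * (s : G) * b⁻¹, hsC⟩ := by
      apply Subtype.ext
      show b * (y : G) * b⁻¹ = (b * (k : G) * b⁻¹) * (b * (s : G) * b⁻¹)
      rw [hyG]
      group
    have hkodd : Odd (orderOf k) := by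
      have h1 : orderOf (⟨k, hk⟩ : h.tau.ker) ∣ Nat.card h.tau.ker := orderOf_dvd_natCard _
      rw [Subgroup.orderOf_mk] at h1
      exact h.odd_card_ker_tau.of_dvd_nat h1
    have hkodd' : Odd (orderOf (⟨b * (k : G) * b⁻¹, hkC⟩ : centU a m)) := by
      rw [Subgroup.orderOf_mk, orderOf_conj', Subgroup.orderOf_coe]
      exact hkodd
    have e2 : (⟨b * (s : G) * b⁻¹, hsC⟩ : centU a m) = s⁻¹ := by
      apply Subtype.ext
      rw [Subgroup.coe_inv]
      exact h.inv_H hbP hbH ((h.mem_sylowC s).mp hs)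
    rw [e1, map_mul, hμodd _ hkodd', one_mul, e2, map_inv, ← hks, map_mul, hμodd k hkodd,
      one_mul]
  refine ⟨b, μ, ⟨h.orderOf_u, hbu, ?_, ?_, ?_, ?_⟩⟩
  · -- (μ1)
    intro x hx
    obtain ⟨j, r', hr'odd, hN⟩ := Nat.exists_eq_two_pow_mul_odd (orderOf_pos x).ne'
    have hr'0 : r' ≠ 0 := by
      rintro rfl
      simp at hr'odd
    obtain ⟨y, hydef⟩ : ∃ y : centU a m, y = x ^ r' := ⟨_, rfl⟩
    have hyord : orderOf y = 2 ^ j := by
      rw [hydef, orderOf_pow_of_dvd hr'0 (by rw [hN]; exact dvd_mul_left _ _), hN,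
        Nat.mul_div_cancel _ (Nat.pos_of_ne_zero hr'0)]
    have hμy : μ y ≠ 1 := by
      intro h1
      rw [hydef, map_pow] at h1
      exact hx (eq_one_of_pow_coprime h1 (hμ2m x)
        (Nat.Coprime.pow_right m (Nat.coprime_two_right.mpr hr'odd)))
    have hQ : IsPGroup 2 (Subgroup.zpowers y) :=
      IsPGroup.of_card (n := j) (by rw [Nat.card_zpowers, hyord])
    obtain ⟨c, hc⟩ := exists_conj_mem h.sylowC _ hQ
    have hsS := hc y (Subgroup.mem_zpowers y)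
    obtain ⟨s, hsdef⟩ : ∃ s : centU a m, s = c⁻¹ * y * c := ⟨_, rfl⟩
    rw [← hsdef] at hsS
    have hμs : μ s = μ y := by
      rw [hsdef, map_mul, map_mul, map_inv, mul_comm, mul_inv_cancel_left]
    have hss : ¬ s * s = 1 := fun hss => hμy (hμs ▸ hμHker s hsS hss)
    have hsord : orderOf s = 2 ^ j := by
      rw [hsdef, ← hyord]
      exact orderOf_conj_inv c y
    have hj : 2 ≤ j := by
      by_contra hj
      apply hss
      have h2 : orderOf s ∣ 2 := by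
        rw [hsord]
        have : j ≤ 1 := by omega
        calc 2 ^ j ∣ 2 ^ 1 := pow_dvd_pow 2 this
          _ = 2 := by norm_num
      rw [← pow_two]
      exact orderOf_dvd_iff_pow_eq_one.mp h2
    have h4 : 4 ∣ orderOf (s : G) := by
      rw [Subgroup.orderOf_coe, hsord]
      calc 4 = 2 ^ 2 := by norm_num
        _ ∣ 2 ^ j := pow_dvd_pow 2 hj
    have hus := h.u_mem_zpowers_of_four_dvd ((h.mem_sylowC s).mp hsS) h4
    obtain ⟨k, hk⟩ := Subgroup.mem_zpowers_iff.mp hus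
    have hcu : (c : G) * a ^ (2 ^ (m - 2)) * (c : G)⁻¹ = a ^ (2 ^ (m - 2)) :=
      conj_eq_iff_mem.mpr c.2
    have hyk : (y : G) ^ k = a ^ (2 ^ (m - 2)) := by
      rw [← hcu, ← hk, hsdef]
      simp only [Subgroup.coe_mul, Subgroup.coe_inv]
      have e : (c : G)⁻¹ * y * c = (c : G)⁻¹ * y * (c : G)⁻¹⁻¹ := by rw [inv_inv]
      rw [e, conj_zpow]
      group
    have hmem : (y : G) ^ k ∈ Subgroup.zpowers (x : G) := by
      rw [hydef]
      simp only [Subgroup.coe_pow]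
      exact Subgroup.zpow_mem _ (Subgroup.pow_mem _ (Subgroup.mem_zpowers _) _) _
    rw [hyk] at hmem
    exact hmem
  · -- (μ2)
    intro g hg x hx
    have hcC : b⁻¹ * g ∈ centU a m := (conj_eq_inv_iff_mem hbu).mp hg
    obtain ⟨c, hcdef⟩ : ∃ c : centU a m, c = ⟨b⁻¹ * g, hcC⟩ := ⟨_, rfl⟩
    obtain ⟨y, hydef⟩ : ∃ y : centU a m, y = c * x * c⁻¹ := ⟨_, rfl⟩
    have hyC : b * (y : G) * b⁻¹ ∈ centU a m := conj_mem_cent_of_inv hbu y.2
    have e : (⟨g * (x : G) * g⁻¹, hx⟩ : centU a m) = ⟨b * (y : G) * b⁻¹, hyC⟩ := by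
      apply Subtype.ext
      show g * (x : G) * g⁻¹ = b * (y : G) * b⁻¹
      rw [hydef, hcdef]
      simp only [Subgroup.coe_mul, Subgroup.coe_inv]
      group
    have hμy : μ y = μ x := by
      rw [hydef, map_mul, map_mul, map_inv, mul_comm, inv_mul_cancel_left]
    rw [e, hstep1 y hyC, hμy]
  · -- (μ3)
    intro hu'
    have huS : (⟨a ^ (2 ^ (m - 2)), hu'⟩ : centU a m) ∈ h.sylowC :=
      (h.mem_sylowC _).mpr h.u_mem
    rw [hμH _ huS]
    have e : (⟨⟨a ^ (2 ^ (m - 2)), hu'⟩, huS⟩ : h.sylowC) = g₀ ^ (2 ^ (m - 2)) := by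
      apply Subtype.ext
      apply Subtype.ext
      rw [Subgroup.coe_pow, Subgroup.coe_pow, hg₀def]
    rw [e, map_pow]
    have hz : (ψ g₀) ^ (2 ^ (m - 2)) = -1 := by
      have h1 : ((ψ g₀) ^ (2 ^ (m - 2))) ^ 2 = 1 := by
        rw [← pow_mul, ← pow_succ, show m - 2 + 1 = m - 1 by omega, ← hψord,
          pow_orderOf_eq_one]
      have h2 : (ψ g₀) ^ (2 ^ (m - 2)) ≠ 1 := by
        intro h2
        have h3 := orderOf_dvd_of_pow_eq_one h2
        rw [hψord] at h3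
        have h4 := Nat.le_of_dvd (by positivity) h3
        have h5 : 2 ^ (m - 2) < 2 ^ (m - 1) := Nat.pow_lt_pow_right (by norm_num) (by omega)
        omega
      have h3 : (((ψ g₀) ^ (2 ^ (m - 2)) : ℂˣ) : ℂ) ^ 2 = 1 := by
        rw [← Units.val_pow_eq_pow_val, h1, Units.val_one]
      rcases sq_eq_one_iff.mp h3 with h4 | h4
      · exact absurd (Units.ext (by simpa using h4)) h2
      · exact Units.ext (by simpa using h4)
    rw [hz]
    exact hrodd.neg_one_pow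
  · -- (μ4)
    refine ⟨⟨a, haC⟩, ?_⟩
    have haS : (⟨a, haC⟩ : centU a m) ∈ h.sylowC := (h.mem_sylowC _).mpr (Subgroup.mem_zpowers a)
    rw [hμH _ haS]
    have e : (⟨⟨a, haC⟩, haS⟩ : h.sylowC) = g₀ := by rw [hg₀def]
    rw [e, ← pow_mul]
    intro h1
    have h3 := orderOf_dvd_of_pow_eq_one h1
    rw [hψord] at h3
    have h4 : (4 : ℕ) ∣ 2 ^ (m - 1) := by
      calc 4 = 2 ^ 2 := by norm_num
        _ ∣ 2 ^ (m - 1) := pow_dvd_pow 2 (by omega)
    have h5 : 4 ∣ r * 2 := h4.trans h3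
    obtain ⟨q, hq⟩ := hrodd
    omega

end Mu

end Cfsg.Agent.Helper3.Quat
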