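import Mathlib
import Cfsg.Agent.Helper3.QuatMu
import Cfsg.Agent.Helper16.CharBasic
import Cfsg.Agent.Helper75.FrobeniusKernel
import Cfsg.Agent.Helper80.OneChar

/-!
# The involution lies in the kernel of the exceptional characters (helper3)
-/

set_option autoImplicit false
set_option linter.unusedSectionVars false

namespace Cfsg.Agent.Helper3.Quat

open Cfsg
open scoped ComplexConjugate

universe v

variable {G : Type v} [Group G]

/-- the class multiplication formula, for irreducible characters as functions. -/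
theorem sum_irr_mul_conj [Fintype G] {χ : G → ℂ} (hχ : IsIrrCharacter G χ) (x y : G) :
    ∑ g : G, χ (x * (g * y * g⁻¹)) = (Nat.card G : ℂ) * χ y / χ 1 * χ x := by
  obtain ⟨n, ρ, hirr, rfl⟩ := hχ
  haveI := hirr
  rw [Representation.char_one]
  exact Helper16.sum_char_mul_conj ρ x y

/-- the arithmetic heart of the Brauer–Suzuki argument. -/
theorem eq_of_class_sum {N c d : ℂ} (hN : N ≠ 0) (hd : d ≠ 0) (hd1 : d + 1 ≠ 0)
    (h : N * (c + 1) / (d + 1) * (c + 1) - N * c / d * c = N) : c = d := by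
  have hb : (c + 1) / (d + 1) * (c + 1) - c / d * c - 1 = 0 := by
    have h0 : N * ((c + 1) / (d + 1) * (c + 1) - c / d * c - 1) = 0 := by
      linear_combination h
    exact (mul_eq_zero.mp h0).resolve_left hN
  have e : (c + 1) ^ 2 * d - c ^ 2 * (d + 1) - d * (d + 1) =
      d * (d + 1) * ((c + 1) / (d + 1) * (c + 1) - c / d * c - 1) := by
    field_simp
  rw [hb, mul_zero] at e
  have h2 : (c - d) ^ 2 = 0 := by linear_combination (-1 : ℂ) * e
  exact sub_eq_zero.mp ((pow_eq_zero_iff (two_ne_zero)).mp h2)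

/-- **The kernels of the exceptional characters.** -/
theorem QuatData.exists_kernels [Finite G] {P : Sylow 2 G} {a : G} {m : ℕ}
    (h : QuatData (P : Subgroup G) a m) :
    ∃ M₁ M₂ : Subgroup G, M₁.Normal ∧ M₂.Normal ∧ a ^ (2 ^ (m - 1)) ∈ M₁ ∧
      a ^ (2 ^ (m - 1)) ∈ M₂ ∧ ¬ (a ^ (2 ^ (m - 2)) ∈ M₁ ∧ a ^ (2 ^ (m - 2)) ∈ M₂) ∧
      ¬ commutator G ≤ M₁ := by
  classical
  have := Fintype.ofFinite G
  obtain ⟨b, μ, hμ⟩ := h.exists_muData
  obtain ⟨χ₁, χ₂, h1, h2, -, -, hdeg, hval, hu⟩ := exists_exceptional_chars hμ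
  obtain ⟨d, hdpos, hd⟩ := Helper15.irr_degree_pos h2
  obtain ⟨t, ht⟩ : ∃ t : G, t = a ^ (2 ^ (m - 1)) := ⟨_, rfl⟩
  rw [← ht]
  have hto : orderOf t = 2 := ht ▸ h.orderOf_t
  have hprod : ∀ g : G, ¬ 4 ∣ orderOf (t * (g * t * g⁻¹)) := fun g h4 =>
    h.odd_orderOf_mul_involutions hto (by rw [orderOf_conj', hto])
      (dvd_trans (by norm_num) h4)
  have ht1 : χ₁ t = χ₂ t + 1 := by
    have := hval t (by rw [hto]; norm_num)
    linear_combination this
  have hsum : ∑ g : G, χ₁ (t * (g * t * g⁻¹)) - ∑ g : G, χ₂ (t * (g * t * g⁻¹)) =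
      (Nat.card G : ℂ) := by
    rw [← Finset.sum_sub_distrib]
    simp only [fun g => hval _ (hprod g)]
    rw [Finset.sum_const, Finset.card_univ, nsmul_eq_mul, mul_one, Nat.card_eq_fintype_card]
  rw [sum_irr_mul_conj h1, sum_irr_mul_conj h2, hdeg, ht1, hd] at hsum
  have hN : (Nat.card G : ℂ) ≠ 0 := by
    have : Nat.card G ≠ 0 := Nat.card_pos.ne'
    exact_mod_cast this
  have hd0 : (d : ℂ) ≠ 0 := by exact_mod_cast hdpos.ne'
  have hd1 : (d : ℂ) + 1 ≠ 0 := by exact_mod_cast (Nat.succ_ne_zero d)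
  have hc : χ₂ t = d := eq_of_class_sum hN hd0 hd1 hsum
  have hk2 : χ₂ t = χ₂ 1 := by rw [hc, hd]
  have hk1 : χ₁ t = χ₁ 1 := by rw [ht1, hdeg, hk2]
  obtain ⟨M₁, hM₁n, hM₁⟩ := Helper75.fk_exists_normal_kernel (Helper74.isCharacter_of_isIrr h1)
  obtain ⟨M₂, hM₂n, hM₂⟩ := Helper75.fk_exists_normal_kernel (Helper74.isCharacter_of_isIrr h2)
  refine ⟨M₁, M₂, hM₁n, hM₂n, (hM₁ t).mpr hk1, (hM₂ t).mpr hk2, ?_, ?_⟩
  · rintro ⟨hu1, hu2⟩
    rw [(hM₁ _).mp hu1, (hM₂ _).mp hu2, hdeg] at hu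
    have h04 : (0 : ℂ) = 4 := by linear_combination hu
    norm_num at h04
  · intro hle
    have hdeg1 := Helper80.IsIrrCharacter.charDegree_eq_one_of_commutator_le h1
      (fun g hg => (hM₁ g).mp (hle hg))
    have hcast := Helper80.IsCharacter.charDegree_cast (Helper74.isCharacter_of_isIrr h1)
    rw [hdeg1, hdeg, hd] at hcast
    have h1d : (1 : ℕ) = d + 1 := by exact_mod_cast hcast
    omega

end Cfsg.Agent.Helper3.Quat
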