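import Mathlib
import Cfsg.Prelude.Def_Characters

/-!
# Auxiliary lemmas for Brauer's induction theorem (helper3)

* `norm_trick`: a multiplicative function on a finite abelian group `A`, invariant under a coprime
  group of operators `Q` and trivial on the `Q`-fixed points, is trivial.
* `restrict_inner_one_ne_zero`: if the restriction of a character to `L` contains the principal
  character, so does the restriction to any `K ≤ L`.
* `eq_one_of_inner_one_ne_zero`: a multiplicative function with nonzero average is trivial.
-/

set_option autoImplicit false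

namespace Cfsg.Agent.Helper3

open Cfsg
open scoped ComplexConjugate

section Norm

/-- The norm trick. -/
theorem norm_trick {A Q : Type*} [Group A] [Fintype A] [Group Q] [Fintype Q]
    (hcomm : ∀ a b : A, a * b = b * a) (act : Q → A → A)
    (hact_mul : ∀ x a b, act x (a * b) = act x a * act x b)
    (hact_comp : ∀ x y a, act (x * y) a = act x (act y a))
    (lam : A → ℂ) (hlam1 : lam 1 = 1) (hlam : ∀ a b, lam (a * b) = lam a * lam b)
    (hinv : ∀ x a, lam (act x a) = lam a)
    (hfix : ∀ a, (∀ x, act x a = a) → lam a = 1)
    (hcop : (Fintype.card Q).Coprime (Fintype.card A)) : ∀ a, lam a = 1 := by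
  classical
  letI : CommGroup A := { ‹Group A› with mul_comm := hcomm }
  intro a
  have hact_one : ∀ x, act x 1 = 1 := by
    intro x
    have h := hact_mul x 1 1
    rw [mul_one] at h
    exact (mul_eq_left.mp h.symm)
  let actHom : Q → A →* A := fun x =>
    { toFun := act x, map_one' := hact_one x, map_mul' := hact_mul x }
  let lamHom : A →* ℂ := { toFun := lam, map_one' := hlam1, map_mul' := hlam }
  set N : A := ∏ x : Q, act x a with hN
  have hNfix : ∀ y, act y N = N := by
    intro y
    have h1 : act y N = ∏ x : Q, act y (act x a) := by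
      rw [hN]
      exact map_prod (actHom y) (fun x => act x a) Finset.univ
    rw [h1, hN]
    refine Fintype.prod_equiv (Equiv.mulLeft y) _ _ fun x => ?_
    rw [Equiv.coe_mulLeft, hact_comp]
  have h2 : lam N = 1 := hfix N hNfix
  have h3 : lam N = lam a ^ Fintype.card Q := by
    have h4 : lam N = ∏ x : Q, lam (act x a) := by
      rw [hN]
      exact map_prod lamHom (fun x => act x a) Finset.univ
    rw [h4, Finset.prod_congr rfl fun x _ => hinv x a, Finset.prod_const, Finset.card_univ]
  have h5 : lam a ^ Fintype.card A = 1 := by
    have h6 : lam (a ^ Fintype.card A) = lam a ^ Fintype.card A := map_pow lamHom a _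
    rw [← h6, pow_card_eq_one, hlam1]
  rw [h3] at h2
  have h7 : orderOf (lam a) ∣ Nat.gcd (Fintype.card Q) (Fintype.card A) :=
    Nat.dvd_gcd (orderOf_dvd_of_pow_eq_one h2) (orderOf_dvd_of_pow_eq_one h5)
  rw [Nat.Coprime] at hcop
  rw [hcop, Nat.dvd_one, orderOf_eq_one_iff] at h7
  exact h7

end Norm

section Restrict

variable {G : Type*} [Group G]

/-- If `χ_L` contains `1_L` then `χ_K` contains `1_K` for `K ≤ L`. -/
theorem restrict_inner_one_ne_zero (K L : Subgroup G) [Fintype K] [Fintype L] (hKL : K ≤ L)
    {χ : G → ℂ} (hχ : IsCharacter G χ)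
    (h : classInner (fun l : L => χ l) (fun _ => (1 : ℂ)) ≠ 0) :
    classInner (fun k : K => χ k) (fun _ => (1 : ℂ)) ≠ 0 := by
  classical
  obtain ⟨n, ρ, rfl⟩ := hχ
  have key : ∀ (M : Subgroup G) [Fintype M],
      classInner (fun m : M => ρ.character m) (fun _ => (1 : ℂ)) =
        (Module.finrank ℂ (Representation.invariants (ρ.comp M.subtype)) : ℂ) := by
    intro M _
    have hne : (Nat.card M : ℂ) ≠ 0 := by exact_mod_cast Nat.card_pos.ne'
    haveI : Invertible (Nat.card M : ℂ) := invertibleOfNonzero hne
    rw [← Representation.card_inv_mul_sum_char_eq_finrank (ρ.comp M.subtype)]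
    unfold classInner
    congr 1
    refine Finset.sum_congr rfl fun m _ => ?_
    simp [Representation.character]
  rw [key] at h ⊢
  have hle : Representation.invariants (ρ.comp L.subtype) ≤
      Representation.invariants (ρ.comp K.subtype) := by
    intro v hv k
    exact hv ⟨k, hKL k.2⟩
  have h1 := Submodule.finrank_mono hle
  have h2 : Module.finrank ℂ (Representation.invariants (ρ.comp L.subtype)) ≠ 0 := by
    exact_mod_cast h
  have h3 : Module.finrank ℂ (Representation.invariants (ρ.comp K.subtype)) ≠ 0 := by omega
  exact_mod_cast h3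

/-- A multiplicative function to `ℂ` with nonzero average over a finite group is trivial. -/
theorem eq_one_of_inner_one_ne_zero [Fintype G] (lam : G → ℂ) (hlam1 : lam 1 = 1)
    (hlam : ∀ a b, lam (a * b) = lam a * lam b)
    (h : classInner lam (fun _ => (1 : ℂ)) ≠ 0) : ∀ g, lam g = 1 := by
  let lamHom : G →* ℂ := { toFun := lam, map_one' := hlam1, map_mul' := hlam }
  by_contra hne
  have hne' : lamHom ≠ 1 := by
    intro h1
    apply hne
    intro g
    have := congrArg (fun f : G →* ℂ => f g) h1
    exact this
  have h0 := sum_hom_units_eq_zero lamHom hne'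
  apply h
  unfold classInner
  have : ∑ g : G, lam g * conj ((fun _ => (1 : ℂ)) g) = ∑ g : G, lamHom g := by
    refine Finset.sum_congr rfl fun g _ => ?_
    simp [lamHom]
  rw [this, h0, mul_zero]

end Restrict

end Cfsg.Agent.Helper3
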