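import Mathlib
import Cfsg.Prelude.Def_Characters
import Cfsg.Agent.Helper15.IndChar
import Cfsg.Agent.Helper15.LinChar
import Cfsg.Agent.Helper74.CharBasic
import Cfsg.Agent.Helper80.CharLevel
import Cfsg.Agent.S0147

/-!
# The span of characters induced from `p`-elementary subgroups (helper3)

`brauerSpan p G` is the additive subgroup of `G → ℂ` generated by the functions induced from
characters of `p`-elementary subgroups.  It is stable under multiplication by characters of `G`
and under induction from subgroups.
-/

set_option autoImplicit false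
set_option linter.unusedSectionVars false

namespace Cfsg.Agent.Helper3

open Cfsg Cfsg.Agent.Helper15

universe u

section Elementary

/-- `IsElementary` is invariant under isomorphism. -/
theorem isElementary_of_mulEquiv {E E' : Type u} [Group E] [Group E'] (e : E ≃* E') {p : ℕ}
    (h : IsElementary p E) : IsElementary p E' := by
  obtain ⟨x, hx, hcop, k, hk⟩ := h
  refine ⟨e x, ?_, ?_, k, ?_⟩
  · rw [Subgroup.mem_center_iff] at hx ⊢
    intro y
    obtain ⟨y, rfl⟩ := e.surjective y
    rw [← map_mul, ← map_mul, hx y]
  · rw [MulEquiv.orderOf_eq]; exact hcop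
  · have h1 : Subgroup.zpowers (e x) = (Subgroup.zpowers x).map (e : E →* E') := by
      rw [MonoidHom.map_zpowers]; rfl
    rw [h1, Subgroup.index_map_equiv, hk]

end Elementary

section Ind

variable {G : Type u} [Group G] [Fintype G]

/-- Induction only depends on the subgroup and the function up to the obvious identification. -/
theorem indFun_congr_subgroup {K₁ K₂ : Subgroup G} (h : K₁ = K₂) (θ₁ : K₁ → ℂ) (θ₂ : K₂ → ℂ)
    (hθ : ∀ (x : G) (h1 : x ∈ K₁) (h2 : x ∈ K₂), θ₁ ⟨x, h1⟩ = θ₂ ⟨x, h2⟩) :
    indFun K₁ θ₁ = indFun K₂ θ₂ := by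
  subst h
  have : θ₁ = θ₂ := by
    funext x
    exact hθ x.1 x.2 x.2
  rw [this]

/-- Transport of a function on a subgroup `K` of the subgroup `H` to the image of `K` in `G`. -/
noncomputable def pushFun (H : Subgroup G) (K : Subgroup H) (θ : K → ℂ) :
    ↥(K.map H.subtype) → ℂ :=
  fun x => θ ((K.equivMapOfInjective H.subtype H.subtype_injective).symm x)

theorem pushFun_apply (H : Subgroup G) (K : Subgroup H) (θ : K → ℂ) (x : K) :
    pushFun H K θ ⟨((x : H) : G), Subgroup.mem_map_of_mem H.subtype x.2⟩ = θ x := by
  unfold pushFun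
  congr 1
  rw [MulEquiv.symm_apply_eq]
  apply Subtype.ext
  rfl

/-- Transitivity of induction for a subgroup of a subgroup. -/
theorem indFun_indFun_eq (H : Subgroup G) [Fintype H] (K : Subgroup H) (θ : K → ℂ) :
    indFun H (indFun K θ) = indFun (K.map H.subtype) (pushFun H K θ) := by
  classical
  have hle : K.map H.subtype ≤ H := Subgroup.map_subtype_le K
  rw [← Cfsg.Agent.S0147.result (K.map H.subtype) H hle (pushFun H K θ)]
  congr 1
  have hK : (K.map H.subtype).subgroupOf H = K :=
    Subgroup.comap_map_eq_self_of_injective H.subtype_injective K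
  symm
  apply indFun_congr_subgroup hK
  intro x h1 h2
  exact pushFun_apply H K θ ⟨x, h2⟩

theorem isCharacter_pushFun (H : Subgroup G) (K : Subgroup H) {θ : K → ℂ}
    (hθ : IsCharacter K θ) : IsCharacter ↥(K.map H.subtype) (pushFun H K θ) :=
  Helper74.isCharacter_comp
    ((K.equivMapOfInjective H.subtype H.subtype_injective).symm.toMonoidHom) hθ

end Ind

section Span

variable {G : Type u} [Group G] [Fintype G]

/-- The additive group generated by the functions induced from characters of `p`-elementary
subgroups. -/
def brauerSpan (p : ℕ) (G : Type u) [Group G] [Fintype G] : AddSubgroup (G → ℂ) :=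
  AddSubgroup.closure {f | ∃ (E : Subgroup G) (φ : E → ℂ), IsElementary p E ∧ IsCharacter E φ ∧
    f = indFun E φ}

theorem indFun_mem_brauerSpan {p : ℕ} (E : Subgroup G) (hE : IsElementary p E) {φ : E → ℂ}
    (hφ : IsCharacter E φ) : indFun E φ ∈ brauerSpan p G :=
  AddSubgroup.subset_closure ⟨E, φ, hE, hφ, rfl⟩

/-- `brauerSpan` is stable under multiplication by characters. -/
theorem mul_mem_brauerSpan {p : ℕ} {χ : G → ℂ} (hχ : IsCharacter G χ) {f : G → ℂ}
    (hf : f ∈ brauerSpan p G) : f * χ ∈ brauerSpan p G := by
  unfold brauerSpan at hf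
  induction hf using AddSubgroup.closure_induction with
  | mem f hf =>
    obtain ⟨E, φ, hE, hφ, rfl⟩ := hf
    rw [← indFun_mul_restrict E _ χ (Helper74.isClassFunction_of_isCharacter hχ)]
    exact indFun_mem_brauerSpan E hE
      (Helper74.isCharacter_mul hφ (Helper74.isCharacter_restrict E hχ))
  | zero => rw [zero_mul]; exact zero_mem _
  | add f g _ _ hf hg => rw [add_mul]; exact add_mem hf hg
  | neg f _ hf => rw [neg_mul]; exact neg_mem hf

/-- `brauerSpan` is stable under induction from subgroups. -/
theorem indFun_mem_brauerSpan_of_mem {p : ℕ} (H : Subgroup G) [Fintype H] {f : H → ℂ}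
    (hf : f ∈ brauerSpan p H) : indFun H f ∈ brauerSpan p G := by
  unfold brauerSpan at hf
  induction hf using AddSubgroup.closure_induction with
  | mem f hf =>
    obtain ⟨E, φ, hE, hφ, rfl⟩ := hf
    rw [indFun_indFun_eq]
    refine indFun_mem_brauerSpan _ ?_ (isCharacter_pushFun H E hφ)
    exact isElementary_of_mulEquiv (E.equivMapOfInjective H.subtype H.subtype_injective) hE
  | zero => rw [indFun_zero]; exact zero_mem _
  | add f g _ _ hf hg => rw [indFun_add]; exact add_mem hf hg
  | neg f _ hf => rw [indFun_neg]; exact neg_mem hf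

end Span

end Cfsg.Agent.Helper3
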