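import Mathlib
import Cfsg.Prelude.Def_Characters
import Cfsg.Agent.Helper3.BrauerSpan
import Cfsg.Agent.Helper3.BrauerAux
import Cfsg.Agent.Helper3.ScalarIndex
import Cfsg.Agent.Helper15.CliffordCorr
import Cfsg.Agent.Helper15.Gallagher

/-!
# The quasi-elementary step of Brauer's induction theorem (helper3)
-/

set_option autoImplicit false
set_option linter.unusedSectionVars false

namespace Cfsg.Agent.Helper3

open Cfsg Cfsg.Agent.Helper15

universe u

/-- `H` is `p`-quasi-elementary: it has a cyclic normal subgroup of order prime to `p` and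
`p`-power index. -/
def IsQE (p : ℕ) (H : Type u) [Group H] : Prop :=
  ∃ C : Subgroup H, C.Normal ∧ IsCyclic C ∧ (Nat.card C).Coprime p ∧ ∃ k : ℕ, C.index = p ^ k

theorem isQE_subgroup {p : ℕ} (hp : p.Prime) {H : Type u} [Group H] (h : IsQE p H)
    (T : Subgroup H) : IsQE p T := by
  obtain ⟨C, hCn, hCc, hcop, k, hk⟩ := h
  refine ⟨C.subgroupOf T, inferInstance, ?_, ?_, ?_⟩
  · let f : C.subgroupOf T →* C :=
      { toFun := fun x => ⟨((x : T) : H), x.2⟩
        map_one' := rfl
        map_mul' := fun _ _ => rfl }
    have hf : Function.Injective f := by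
      intro x y hxy
      have := congrArg (fun c : C => (c : H)) hxy
      exact Subtype.ext (Subtype.ext this)
    exact isCyclic_of_injective f hf
  · let f : C.subgroupOf T →* C :=
      { toFun := fun x => ⟨((x : T) : H), x.2⟩
        map_one' := rfl
        map_mul' := fun _ _ => rfl }
    have hf : Function.Injective f := by
      intro x y hxy
      have := congrArg (fun c : C => (c : H)) hxy
      exact Subtype.ext (Subtype.ext this)
    exact Nat.Coprime.coprime_dvd_left (Subgroup.card_dvd_of_injective f hf) hcop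
  · have h1 : (C.subgroupOf T).index ∣ p ^ k := by
      rw [← hk]
      exact Subgroup.relIndex_dvd_index_of_normal C T
    obtain ⟨j, -, hj⟩ := (Nat.dvd_prime_pow hp).mp h1
    exact ⟨j, hj⟩

section Elem

variable {H : Type u} [Group H] [Finite H] {p : ℕ} [hp : Fact p.Prime]

/-- For `C` cyclic normal of order prime to `p` and `P` a Sylow `p`-subgroup, the subgroup
`P · C_C(P)` is `p`-elementary. -/
theorem isElementary_sylow_sup_centralizer (C : Subgroup H) (hcyc : IsCyclic C)
    (hcop : (Nat.card C).Coprime p) (P : Sylow p H) :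
    IsElementary p
      ↥((P : Subgroup H) ⊔ (C ⊓ Subgroup.centralizer ((P : Subgroup H) : Set H))) := by
  classical
  set Z : Subgroup H := C ⊓ Subgroup.centralizer ((P : Subgroup H) : Set H) with hZ
  set E : Subgroup H := (P : Subgroup H) ⊔ Z with hE
  have hZC : Z ≤ C := inf_le_left
  have hZP : Z ≤ Subgroup.centralizer ((P : Subgroup H) : Set H) := inf_le_right
  have hPE : (P : Subgroup H) ≤ E := le_sup_left
  have hZE : Z ≤ E := le_sup_right
  haveI : IsCyclic Z :=
    isCyclic_of_injective (Subgroup.inclusion hZC) (Subgroup.inclusion_injective hZC)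
  obtain ⟨⟨z₀, hz₀Z⟩, hgen⟩ := IsCyclic.exists_generator (α := Z)
  have hzp : ∀ w ∈ Z, w ∈ Subgroup.zpowers z₀ := by
    intro w hw
    obtain ⟨k, hk⟩ := Subgroup.mem_zpowers_iff.mp (hgen ⟨w, hw⟩)
    refine Subgroup.mem_zpowers_iff.mpr ⟨k, ?_⟩
    have := congrArg (fun c : Z => (c : H)) hk
    simpa using this
  have hCcomm : ∀ a ∈ C, ∀ b ∈ C, a * b = b * a := by
    intro a ha b hb
    have := (IsCyclic.commGroup (α := C)).mul_comm ⟨a, ha⟩ ⟨b, hb⟩
    exact congrArg (fun c : C => (c : H)) this
  -- the central element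
  have hcent : ∀ y ∈ E, y * z₀ = z₀ * y := by
    have hle : E ≤ Subgroup.centralizer ({z₀} : Set H) := by
      apply sup_le
      · intro w hw
        rw [Subgroup.mem_centralizer_iff]
        intro h hh
        rw [Set.mem_singleton_iff] at hh
        rw [hh]
        exact ((Subgroup.mem_centralizer_iff.mp (hZP hz₀Z)) w hw).symm
      · intro w hw
        rw [Subgroup.mem_centralizer_iff]
        intro h hh
        rw [Set.mem_singleton_iff] at hh
        rw [hh]
        exact hCcomm z₀ (hZC hz₀Z) w (hZC hw)
    intro y hy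
    have := (Subgroup.mem_centralizer_iff.mp (hle hy)) z₀ rfl
    exact this.symm
  refine ⟨⟨z₀, hZE hz₀Z⟩, ?_, ?_, ?_⟩
  · rw [Subgroup.mem_center_iff]
    intro y
    exact Subtype.ext (hcent y y.2)
  · have h1 : orderOf (⟨z₀, hZE hz₀Z⟩ : E) = orderOf (⟨z₀, hZC hz₀Z⟩ : C) := by
      rw [← Subgroup.orderOf_coe, ← Subgroup.orderOf_coe]
    rw [h1]
    exact Nat.Coprime.coprime_dvd_left (orderOf_dvd_natCard _) hcop
  · -- index computation
    have hzpow : Subgroup.zpowers (⟨z₀, hZE hz₀Z⟩ : E) = Z.subgroupOf E := by
      ext y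
      rw [Subgroup.mem_subgroupOf, Subgroup.mem_zpowers_iff]
      constructor
      · rintro ⟨k, rfl⟩
        have : (((⟨z₀, hZE hz₀Z⟩ : E) ^ k : E) : H) = z₀ ^ k := by simp
        rw [this]
        exact Z.zpow_mem hz₀Z k
      · intro hy
        obtain ⟨k, hk⟩ := Subgroup.mem_zpowers_iff.mp (hzp _ hy)
        refine ⟨k, Subtype.ext ?_⟩
        simpa using hk
    rw [hzpow]
    have hPn : (P : Subgroup H) ≤ Subgroup.normalizer (Z : Set H) := by
      have h1 : (P : Subgroup H) ≤ Subgroup.centralizer (Z : Set H) :=
        Subgroup.le_centralizer_iff.mp hZP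
      exact h1.trans (Subgroup.centralizer_le_normalizer _)
    haveI hZn : (Z.subgroupOf E).Normal := Subgroup.normal_subgroupOf_sup_of_le_normalizer hPn
    have htop : (P : Subgroup H).subgroupOf E ⊔ Z.subgroupOf E = ⊤ :=
      codisjoint_iff.mp (Subgroup.codisjoint_subgroupOf_sup (P : Subgroup H) Z)
    have h1 : (Z.subgroupOf E).index =
        (Z.subgroupOf E).relIndex ((P : Subgroup H).subgroupOf E) := by
      rw [← Subgroup.relIndex_top_right, ← htop, Subgroup.relIndex_sup_right]
    have hdisj : Disjoint (Z.subgroupOf E) ((P : Subgroup H).subgroupOf E) := by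
      rw [disjoint_iff, eq_bot_iff]
      intro y hy
      rw [Subgroup.mem_inf, Subgroup.mem_subgroupOf, Subgroup.mem_subgroupOf] at hy
      have hCP : C ⊓ (P : Subgroup H) = ⊥ := by
        apply Subgroup.inf_eq_bot_of_coprime
        obtain ⟨n, hn⟩ := P.2.exists_card_eq
        rw [hn]
        exact Nat.Coprime.pow_right n hcop
      have : (y : H) ∈ C ⊓ (P : Subgroup H) := ⟨hZC hy.1, hy.2⟩
      rw [hCP, Subgroup.mem_bot] at this
      rw [Subgroup.mem_bot]
      exact Subtype.ext this
    have h2 : (Z.subgroupOf E).relIndex ((P : Subgroup H).subgroupOf E) =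
        Nat.card ((P : Subgroup H).subgroupOf E) := by
      rw [← Subgroup.inf_relIndex_right, disjoint_iff.mp hdisj, Subgroup.relIndex_bot_left]
    have h3 : Nat.card ((P : Subgroup H).subgroupOf E) = Nat.card (P : Subgroup H) :=
      Nat.card_congr (Subgroup.subgroupOfEquivOfLe hPE).toEquiv
    obtain ⟨n, hn⟩ := P.2.exists_card_eq
    exact ⟨n, by rw [h1, h2, h3, hn]⟩

end Elem

end Cfsg.Agent.Helper3

namespace Cfsg.Agent.Helper3

open Cfsg Cfsg.Agent.Helper15
open scoped ComplexConjugate

universe u

section CaseTwo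

variable {H : Type u} [Group H] [Fintype H] {p : ℕ} [hp : Fact p.Prime]

/-- An irreducible character of an abelian (here: cyclic) group is linear. -/
theorem irr_one_eq_one_of_isCyclic {A : Type u} [Group A] (hA : IsCyclic A) {lam : A → ℂ}
    (hlam : IsIrrCharacter A lam) : lam 1 = 1 := by
  obtain ⟨n, ρ, hρ, rfl⟩ := hlam
  have := hρ
  have h1 := Representation.IsIrreducible.finrank_eq_one_of_isMulCommutative ρ
  rw [Representation.char_one, h1]
  simp

/-- The Sylow `p`-subgroup is a complement of the cyclic normal `p'`-subgroup of `p`-power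
index. -/
theorem isComplement_sylow (C : Subgroup H) (hcop : (Nat.card C).Coprime p) {k : ℕ}
    (hidx : C.index = p ^ k) (P : Sylow p H) :
    Subgroup.IsComplement ((P : Subgroup H) : Set H) (C : Set H) := by
  have hcard : Nat.card H = Nat.card C * p ^ k := by
    rw [← hidx, Subgroup.card_mul_index]
  have hpC : ¬ p ∣ Nat.card C :=
    (Nat.Prime.coprime_iff_not_dvd hp.out).mp hcop.symm
  have hfac : (Nat.card H).factorization p = k := by
    rw [hcard, Nat.factorization_mul Nat.card_pos.ne' (pow_ne_zero k hp.out.ne_zero),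
      Nat.Prime.factorization_pow hp.out]
    simp [Nat.factorization_eq_zero_of_not_dvd hpC]
  have hP : Nat.card (P : Subgroup H) = p ^ k := by
    rw [Sylow.card_eq_multiplicity, hfac]
  apply Subgroup.isComplement'_of_coprime
  · rw [hP, hcard, mul_comm]
  · rw [hP]
    exact (Nat.Coprime.pow_right k hcop).symm

theorem sum_eq_card_nsmul_sum_complement {M : Type*} [AddCommMonoid M] (Q C : Subgroup H)
    (hQC : Subgroup.IsComplement (Q : Set H) (C : Set H)) [Fintype Q] (F : H → M)
    (hF : ∀ g, ∀ a ∈ C, F (g * a) = F g) :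
    ∑ g, F g = Nat.card C • ∑ s : Q, F s :=
  sum_eq_card_nsmul_sum_transversal C (Q : Set H) hQC F hF

theorem eq_one_of_invariant_constituent (C : Subgroup H) [hCn : C.Normal] [Fintype C]
    (hcyc : IsCyclic C)
    (hcop : (Nat.card C).Coprime p) {k : ℕ} (hidx : C.index = p ^ k) (P : Sylow p H)
    {ξ : H → ℂ} (hξ : IsIrrCharacter H ξ) {lam : C → ℂ} (hlam : IsIrrCharacter C lam)
    (hcon : classInner (fun c : C => ξ c) lam ≠ 0)
    (hinv : ∀ g : H, conjFun C g lam = lam)
    (Z : Subgroup H) (hZdef : Z = C ⊓ Subgroup.centralizer ((P : Subgroup H) : Set H))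
    [Fintype Z] [Fintype ↥(P : Subgroup H)]
    (hZ1 : classInner (fun z : Z => ξ z) (fun _ => (1 : ℂ)) ≠ 0)
    (hP1 : classInner (fun x : ↥(P : Subgroup H) => ξ x) (fun _ => (1 : ℂ)) ≠ 0) :
    ξ = fun _ => 1 := by
  classical
  have hZC : Z ≤ C := by rw [hZdef]; exact inf_le_left
  have hlamc : IsCharacter C lam := Helper74.isCharacter_of_isIrr hlam
  have hlam1 : lam 1 = 1 := irr_one_eq_one_of_isCyclic hcyc hlam
  have hlammul := linChar_mul hlamc hlam1
  -- step 2: restriction to C is a multiple of lam
  have hres := restrict_eq_smul_of_invariant C hξ hlam hcon hinv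
  -- step 3: lam is trivial on Z
  have hlamZ : ∀ z : Z, lam ⟨(z : H), hZC z.2⟩ = 1 := by
    apply eq_one_of_inner_one_ne_zero (fun z : Z => lam ⟨(z : H), hZC z.2⟩) hlam1
    · intro a b
      exact hlammul ⟨(a : H), hZC a.2⟩ ⟨(b : H), hZC b.2⟩
    · intro h0
      apply hZ1
      have h1 : (fun z : Z => ξ z) =
          classInner (fun c : C => ξ c) lam • (fun z : Z => lam ⟨(z : H), hZC z.2⟩) := by
        funext z
        have := congrFun hres ⟨(z : H), hZC z.2⟩
        simpa using this
      rw [h1, Helper74.classInner_smul_left, h0, mul_zero]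
  -- step 4: the norm trick
  have hlamtriv : ∀ c : C, lam c = 1 := by
    have hCcomm : ∀ a b : C, a * b = b * a := fun a b =>
      (IsCyclic.commGroup (α := C)).mul_comm a b
    refine norm_trick (A := C) (Q := (P : Subgroup H)) hCcomm
      (fun x c => ⟨(x : H) * (c : H) * (x : H)⁻¹, hCn.conj_mem c c.2 x⟩) ?_ ?_ lam hlam1
      hlammul ?_ ?_ ?_
    · intro x a b
      apply Subtype.ext
      simp only [Subgroup.coe_mul]
      group
    · intro x y a
      apply Subtype.ext
      simp only [Subgroup.coe_mul]
      group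
    · intro x a
      have := congrFun (hinv (x : H)) a
      exact this
    · intro a ha
      have haZ : (a : H) ∈ Z := by
        rw [hZdef]
        refine Subgroup.mem_inf.mpr ⟨a.2, ?_⟩
        rw [Subgroup.mem_centralizer_iff]
        intro h hh
        have := congrArg (fun c : C => (c : H)) (ha ⟨h, hh⟩)
        simp only at this
        calc h * (a : H) = (h * (a : H) * h⁻¹) * h := by group
          _ = (a : H) * h := by rw [this]
      exact hlamZ ⟨(a : H), haZ⟩
    · obtain ⟨n, hn⟩ := P.2.exists_card_eq
      rw [← Nat.card_eq_fintype_card, ← Nat.card_eq_fintype_card, hn]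
      exact (Nat.Coprime.pow_right n hcop).symm
  -- step 5: C is in the kernel
  have hlam_eq : lam = fun _ => 1 := funext hlamtriv
  have h0 : classInner (fun n : C => ξ n) (fun _ => (1 : ℂ)) ≠ 0 := by
    rw [← hlam_eq]; exact hcon
  have hleft : ∀ (n : C) (g : H), ξ ((n : H) * g) = ξ g :=
    normal_mul_of_inner_one_ne_zero C hξ h0
  have hright : ∀ g : H, ∀ c ∈ C, ξ (g * c) = ξ g := by
    intro g c hc
    have h1 : g * c = (g * c * g⁻¹) * g := by group
    rw [h1]
    exact hleft ⟨g * c * g⁻¹, hCn.conj_mem c hc g⟩ g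
  -- step 7-9: the inner product with the principal character is nonzero
  have hcompl := isComplement_sylow C hcop hidx P
  have hsum := sum_eq_card_nsmul_sum_complement (P : Subgroup H) C hcompl ξ hright
  have hinner : classInner ξ (fun _ => (1 : ℂ)) ≠ 0 := by
    unfold classInner at hP1 ⊢
    simp only [map_one, mul_one] at hP1 ⊢
    rw [hsum]
    have hne1 : ∑ x : ↥(P : Subgroup H), ξ x ≠ 0 := by
      intro h
      apply hP1
      rw [h, mul_zero]
    have hne2 : (Nat.card H : ℂ)⁻¹ ≠ 0 := by
      apply inv_ne_zero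
      exact_mod_cast Nat.card_pos.ne'
    have hne3 : (Nat.card C : ℂ) ≠ 0 := by exact_mod_cast Nat.card_pos.ne'
    rw [← Nat.cast_smul_eq_nsmul ℂ, smul_eq_mul]
    exact mul_ne_zero hne2 (mul_ne_zero hne3 hne1)
  -- step 10
  by_contra hne
  have hne' : (⟨ξ, hξ⟩ : IrrCharacter H) ≠ ⟨fun _ => 1, isIrrCharacter_one H⟩ := by
    intro h
    exact hne (congrArg Subtype.val h)
  exact hinner (Helper74.irr_inner_ne hne')

end CaseTwo

end Cfsg.Agent.Helper3

namespace Cfsg.Agent.Helper3

open Cfsg Cfsg.Agent.Helper15
open scoped ComplexConjugate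

universe u

section Main

/-- An irreducible character restricted to a subgroup has an irreducible constituent. -/
theorem exists_constituent_restrict {H : Type u} [Group H] [Fintype H] (C : Subgroup H)
    [Fintype C] {ξ : H → ℂ} (hξ : IsIrrCharacter H ξ) :
    ∃ lam : C → ℂ, IsIrrCharacter C lam ∧ classInner (fun c : C => ξ c) lam ≠ 0 := by
  classical
  letI := Helper74.irrFintype C
  have hξc := Helper74.isCharacter_of_isIrr hξ
  have hres : IsCharacter C (fun c : C => ξ c) := Helper74.isCharacter_restrict C hξc
  by_contra hno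
  push Not at hno
  have hdec := Helper74.isCharacter_eq_sum_irr hres
  have hzero : (fun c : C => ξ c) = 0 := by
    rw [hdec]
    apply Finset.sum_eq_zero
    intro μ _
    rw [hno μ.1 μ.2, zero_smul]
  obtain ⟨d, hd, hd1⟩ := irr_degree_pos hξ
  have h1 := congrFun hzero 1
  simp only [Pi.zero_apply] at h1
  have h2 : ξ 1 = 0 := h1
  rw [hd1] at h2
  have : d = 0 := by exact_mod_cast h2
  omega

theorem one_mem_brauerSpan_of_isQE {p : ℕ} [hp : Fact p.Prime] :
    ∀ (n : ℕ) (H : Type u) [Group H] [Fintype H], Fintype.card H = n → IsQE p H →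
      (fun _ : H => (1 : ℂ)) ∈ brauerSpan p H := by
  intro n
  induction n using Nat.strong_induction_on with
  | _ n ih =>
    intro H _ _ hn hqe
    classical
    have hqe' := hqe
    obtain ⟨C, hCn, hcyc, hcop, k, hidx⟩ := hqe
    haveI := hCn
    haveI : Fintype C := Fintype.ofFinite C
    let P : Sylow p H := default
    let Z : Subgroup H := C ⊓ Subgroup.centralizer ((P : Subgroup H) : Set H)
    let E : Subgroup H := (P : Subgroup H) ⊔ Z
    have hE : IsElementary p E := isElementary_sylow_sup_centralizer C hcyc hcop P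
    haveI : Fintype E := Fintype.ofFinite E
    haveI : Fintype Z := Fintype.ofFinite Z
    haveI : Fintype ↥(P : Subgroup H) := Fintype.ofFinite _
    have hPE : (P : Subgroup H) ≤ E := le_sup_left
    have hZE : Z ≤ E := le_sup_right
    set Θ : H → ℂ := indFun E (fun _ => (1 : ℂ)) with hΘ
    have hΘmem : Θ ∈ brauerSpan p H := indFun_mem_brauerSpan E hE Helper74.isCharacter_one
    have hΘc : IsCharacter H Θ := isCharacter_indFun E Helper74.isCharacter_one
    letI := Helper74.irrFintype H
    have hdec := Helper74.isCharacter_eq_sum_irr hΘc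
    -- each constituent is principal or lies in the span
    have key : ∀ ξ : IrrCharacter H, classInner Θ (ξ : H → ℂ) ≠ 0 →
        (ξ : H → ℂ) = (fun _ => 1) ∨ (ξ : H → ℂ) ∈ brauerSpan p H := by
      intro ξ hξ0
      have hξirr : IsIrrCharacter H (ξ : H → ℂ) := ξ.2
      have hξc : IsCharacter H (ξ : H → ℂ) := Helper74.isCharacter_of_isIrr hξirr
      have hE1 : classInner (fun e : E => (ξ : H → ℂ) e) (fun _ => (1 : ℂ)) ≠ 0 := by
        rw [hΘ, frobenius_reciprocity E _ _ (Helper74.isClassFunction_of_isCharacter hξc)] at hξ0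
        intro h
        apply hξ0
        rw [← Helper74.classInner_conj_symm, h, map_zero]
      obtain ⟨lam, hlam, hcon⟩ := exists_constituent_restrict C hξirr
      by_cases hT : inertia C lam = ⊤
      · left
        have hinv : ∀ g : H, conjFun C g lam = lam := by
          intro g
          have : g ∈ inertia C lam := by rw [hT]; trivial
          exact (mem_inertia C lam g).mp this
        exact eq_one_of_invariant_constituent C hcyc hcop hidx P hξirr hlam hcon hinv Z rfl
          (restrict_inner_one_ne_zero Z E hZE hξc hE1)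
          (restrict_inner_one_ne_zero (P : Subgroup H) E hPE hξc hE1)
      · right
        set T : Subgroup H := inertia C lam with hTdef
        haveI : Fintype T := Fintype.ofFinite T
        have hCT : C ≤ T :=
          le_inertia C (Helper74.isClassFunction_of_isCharacter (Helper74.isCharacter_of_isIrr hlam))
        obtain ⟨ψ, hψirr, hψind, -⟩ :=
          clifford_correspondence_exists C hlam T rfl hCT hξirr hcon
        have hlt : Fintype.card T < n := by
          rw [← hn]
          by_contra hge
          push Not at hge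
          apply hT
          apply Subgroup.eq_top_of_le_card
          rw [Nat.card_eq_fintype_card, Nat.card_eq_fintype_card]
          exact hge
        have h1T := ih (Fintype.card T) hlt T rfl (isQE_subgroup hp.out hqe' T)
        have hψc : IsCharacter T ψ := Helper74.isCharacter_of_isIrr hψirr
        have h2 := mul_mem_brauerSpan hψc h1T
        have h3 : (fun _ : T => (1 : ℂ)) * ψ = ψ := by
          funext t
          simp
        rw [h3] at h2
        have h4 := indFun_mem_brauerSpan_of_mem T h2
        rw [hψind] at h4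
        exact h4
    -- assemble
    let one : IrrCharacter H := ⟨fun _ => 1, isIrrCharacter_one H⟩
    have hone : classInner Θ (one : H → ℂ) = 1 := by
      rw [hΘ, frobenius_reciprocity E _ _
        (Helper74.isClassFunction_of_isCharacter Helper74.isCharacter_one)]
      exact Helper74.irr_inner_self (⟨fun _ => 1, isIrrCharacter_one E⟩ : IrrCharacter E)
    have hsplit : (fun _ : H => (1 : ℂ)) = Θ -
        ∑ ξ ∈ (Finset.univ : Finset (IrrCharacter H)).erase one,
          classInner Θ (ξ : H → ℂ) • (ξ : H → ℂ) := by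
      rw [eq_sub_iff_add_eq]
      conv_rhs => rw [hdec]
      rw [← Finset.add_sum_erase _ _ (Finset.mem_univ one), hone, one_smul]
    rw [hsplit]
    apply sub_mem hΘmem
    apply sum_mem
    intro ξ hξ
    by_cases h0 : classInner Θ (ξ : H → ℂ) = 0
    · rw [h0, zero_smul]; exact zero_mem _
    · rcases key ξ h0 with h1 | h1
      · exfalso
        have : ξ = one := Subtype.ext h1
        rw [this] at hξ
        exact (Finset.notMem_erase one _) hξ
      · obtain ⟨m, hm⟩ := Helper74.isCharacter_inner_irr_nat hΘc ξ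
        rw [hm, Nat.cast_smul_eq_nsmul]
        exact nsmul_mem h1 m

end Main

end Cfsg.Agent.Helper3
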