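import Mathlib
import Cfsg.Prelude.Def_Characters
import Cfsg.Agent.Helper3.QEStep
import Cfsg.Agent.S0872

/-!
# The local form of Brauer's induction theorem (helper3)

For every prime `p` some integer `m` prime to `p` has `m • 1_G ∈ brauerSpan p G`.
-/

set_option autoImplicit false
set_option linter.unusedSectionVars false

namespace Cfsg.Agent.Helper3

open Cfsg Cfsg.Agent.Helper15

universe u

variable {G : Type u} [Group G] [Fintype G]

/-- The statement shape of quasi-elementary subgroups gives `IsQE`. -/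
theorem isQE_of_shape {p : ℕ} (H : Subgroup G)
    (h : ∃ C : Subgroup G, C ≤ H ∧ H ≤ Subgroup.normalizer (C : Set G) ∧ IsCyclic C ∧
      Nat.Coprime (Nat.card C) p ∧ ∃ k : ℕ, C.relIndex H = p ^ k) : IsQE p H := by
  obtain ⟨C, hCH, hHN, hcyc, hcop, k, hk⟩ := h
  refine ⟨C.subgroupOf H, (Subgroup.normal_subgroupOf_iff_le_normalizer hCH).mpr hHN, ?_, ?_,
    k, hk⟩
  · exact isCyclic_of_surjective (Subgroup.subgroupOfEquivOfLe hCH).symm.toMonoidHom
      (Subgroup.subgroupOfEquivOfLe hCH).symm.surjective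
  · rw [Nat.card_congr (Subgroup.subgroupOfEquivOfLe hCH).toEquiv]
    exact hcop

/-- Local Brauer: some `m` prime to `p` has `m • 1_G` in the span of characters induced from
`p`-elementary subgroups. -/
theorem exists_const_mem_brauerSpan (p : ℕ) (hp : p.Prime) :
    ∃ m : ℤ, ¬ (p : ℤ) ∣ m ∧ (fun _ : G => (m : ℂ)) ∈ brauerSpan p G := by
  classical
  haveI : Fact p.Prime := ⟨hp⟩
  obtain ⟨m, a, hm, ha, hsum⟩ := Cfsg.Agent.S0872.result (G := G) p hp
  refine ⟨m, hm, ?_⟩
  rw [hsum]
  apply sum_mem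
  intro H _
  by_cases h0 : a H = 0
  · rw [h0]; simp
  · haveI : Fintype H := Fintype.ofFinite H
    have hqe : IsQE p H := isQE_of_shape H (ha H h0)
    have h1 := one_mem_brauerSpan_of_isQE (p := p) (Fintype.card H) H rfl hqe
    have h2 := indFun_mem_brauerSpan_of_mem H h1
    rw [Int.cast_smul_eq_zsmul]
    exact zsmul_mem h2 _

/-- Negating the integer coefficients negates the sum. -/
theorem brauer_list_sum_neg_aux (l : List ((E : Subgroup G) × ((E → ℂ) × ℤ))) :
    (l.map ((fun t : (E : Subgroup G) × ((E → ℂ) × ℤ) =>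
        (t.2.2 : ℂ) • indFun t.1 t.2.1) ∘
        fun t => ⟨t.1, t.2.1, -t.2.2⟩)).sum =
      -(l.map fun t : (E : Subgroup G) × ((E → ℂ) × ℤ) =>
        (t.2.2 : ℂ) • indFun t.1 t.2.1).sum := by
  induction l with
  | nil => simp
  | cons a l ih =>
    rw [List.map_cons, List.sum_cons, ih, List.map_cons, List.sum_cons, neg_add]
    congr 1
    simp

/-- Unfolding membership in `brauerSpan` to an explicit list. -/
theorem exists_list_of_mem_brauerSpan {p : ℕ} {f : G → ℂ} (hf : f ∈ brauerSpan p G) :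
    ∃ l : List ((E : Subgroup G) × ((E → ℂ) × ℤ)),
      (∀ t ∈ l, IsElementary p t.1 ∧ IsCharacter t.1 t.2.1) ∧
      f = (l.map fun t => (t.2.2 : ℂ) • indFun t.1 t.2.1).sum := by
  unfold brauerSpan at hf
  induction hf using AddSubgroup.closure_induction with
  | mem f hf =>
    obtain ⟨E, φ, hE, hφ, rfl⟩ := hf
    refine ⟨[⟨E, φ, 1⟩], ?_, ?_⟩
    · intro t ht
      rw [List.mem_singleton] at ht
      rw [ht]; exact ⟨hE, hφ⟩
    · simp
  | zero => exact ⟨[], by simp, by simp⟩
  | add f g _ _ hf hg =>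
    obtain ⟨l₁, h₁, rfl⟩ := hf
    obtain ⟨l₂, h₂, rfl⟩ := hg
    refine ⟨l₁ ++ l₂, ?_, ?_⟩
    · intro t ht
      rcases List.mem_append.mp ht with h | h
      · exact h₁ t h
      · exact h₂ t h
    · rw [List.map_append, List.sum_append]
  | neg f _ hf =>
    obtain ⟨l, h, rfl⟩ := hf
    refine ⟨l.map (fun t => ⟨t.1, t.2.1, -t.2.2⟩), ?_, ?_⟩
    · intro t ht
      obtain ⟨s, hs, rfl⟩ := List.mem_map.mp ht
      exact h s hs
    · rw [List.map_map]
      exact (brauer_list_sum_neg_aux l).symm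

end Cfsg.Agent.Helper3
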