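import Mathlib
import Cfsg.Prelude.Def_Characters
import Cfsg.Agent.Helper3.BrauerLocal
import Cfsg.Agent.S0176

/-!
# Brauer's induction theorem and Brauer's characterization of characters (helper3)
-/

set_option autoImplicit false
set_option linter.unusedSectionVars false

namespace Cfsg.Agent.Helper3

open Cfsg Cfsg.Agent.Helper15

universe u

section Elementary

/-- An elementary group is nilpotent. -/
theorem isNilpotent_of_isElementary {E : Type u} [Group E] [Finite E] {p : ℕ} (hp : p.Prime)
    (h : IsElementary p E) : Group.IsNilpotent E := by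
  obtain ⟨x, hx, -, k, hk⟩ := h
  haveI : Fact p.Prime := ⟨hp⟩
  have hle : Subgroup.zpowers x ≤ Subgroup.center E := Subgroup.zpowers_le.mpr hx
  haveI hn : (Subgroup.zpowers x).Normal := by
    constructor
    intro n hn g
    have := Subgroup.mem_center_iff.mp (hle hn) g
    have h2 : g * n * g⁻¹ = n := by rw [this, mul_inv_cancel_right]
    rw [h2]; exact hn
  have hP : IsPGroup p (E ⧸ Subgroup.zpowers x) := IsPGroup.of_card (n := k) (by
    rw [← hk]; rfl)
  haveI : Group.IsNilpotent (E ⧸ Subgroup.zpowers x) := hP.isNilpotent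
  apply Subgroup.isNilpotent_of_ker_le_center (QuotientGroup.mk' (Subgroup.zpowers x))
  rw [QuotientGroup.ker_mk']
  exact hle

/-- Subgroups of elementary groups are elementary. -/
theorem isElementary_subgroup {E : Type u} [Group E] {p : ℕ} (hp : p.Prime)
    (h : IsElementary p E) (K : Subgroup E) : IsElementary p K := by
  obtain ⟨x, hx, hcop, k, hk⟩ := h
  have hle : Subgroup.zpowers x ≤ Subgroup.center E := Subgroup.zpowers_le.mpr hx
  haveI hn : (Subgroup.zpowers x).Normal := by
    constructor
    intro n hn g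
    have := Subgroup.mem_center_iff.mp (hle hn) g
    have h2 : g * n * g⁻¹ = n := by rw [this, mul_inv_cancel_right]
    rw [h2]; exact hn
  -- the cyclic group `⟨x⟩ ∩ K`
  let f : (Subgroup.zpowers x).subgroupOf K →* Subgroup.zpowers x :=
    { toFun := fun y => ⟨((y : K) : E), y.2⟩
      map_one' := rfl
      map_mul' := fun _ _ => rfl }
  have hf : Function.Injective f := by
    intro a b hab
    have := congrArg (fun c : Subgroup.zpowers x => (c : E)) hab
    exact Subtype.ext (Subtype.ext this)
  haveI : IsCyclic ((Subgroup.zpowers x).subgroupOf K) := isCyclic_of_injective f hf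
  obtain ⟨⟨y, hy⟩, hgen⟩ := IsCyclic.exists_generator (α := (Subgroup.zpowers x).subgroupOf K)
  have hzp : Subgroup.zpowers y = (Subgroup.zpowers x).subgroupOf K := by
    ext w
    constructor
    · intro hw
      obtain ⟨j, rfl⟩ := Subgroup.mem_zpowers_iff.mp hw
      exact Subgroup.zpow_mem _ hy j
    · intro hw
      obtain ⟨j, hj⟩ := Subgroup.mem_zpowers_iff.mp (hgen ⟨w, hw⟩)
      refine Subgroup.mem_zpowers_iff.mpr ⟨j, ?_⟩
      have := congrArg (fun c : (Subgroup.zpowers x).subgroupOf K => (c : K)) hj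
      simpa using this
  refine ⟨y, ?_, ?_, ?_⟩
  · rw [Subgroup.mem_center_iff]
    intro w
    apply Subtype.ext
    have h1 : ((y : K) : E) ∈ Subgroup.center E := hle hy
    exact Subgroup.mem_center_iff.mp h1 (w : E)
  · have h1 : orderOf y = orderOf ((y : K) : E) := (Subgroup.orderOf_coe y).symm
    rw [h1]
    have h2 : orderOf ((y : K) : E) ∣ orderOf x := by
      have hy' : ((y : K) : E) ∈ Subgroup.zpowers x := hy
      exact orderOf_dvd_of_mem_zpowers hy'
    exact Nat.Coprime.coprime_dvd_left h2 hcop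
  · rw [hzp]
    have h1 : ((Subgroup.zpowers x).subgroupOf K).index ∣ p ^ k := by
      rw [← hk]
      exact Subgroup.relIndex_dvd_index_of_normal (Subgroup.zpowers x) K
    obtain ⟨j, -, hj⟩ := (Nat.dvd_prime_pow hp).mp h1
    exact ⟨j, hj⟩

end Elementary

section Global

variable {G : Type u} [Group G] [Fintype G]

/-- The additive group generated by the functions induced from characters of elementary
subgroups (for all primes). -/
def brauerSpanAll (G : Type u) [Group G] [Fintype G] : AddSubgroup (G → ℂ) :=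
  AddSubgroup.closure {f | ∃ (p : ℕ) (E : Subgroup G) (φ : E → ℂ), p.Prime ∧
    IsElementary p E ∧ IsCharacter E φ ∧ f = indFun E φ}

theorem brauerSpan_le_brauerSpanAll {p : ℕ} (hp : p.Prime) :
    brauerSpan p G ≤ brauerSpanAll G := by
  apply AddSubgroup.closure_mono
  rintro f ⟨E, φ, hE, hφ, rfl⟩
  exact ⟨p, E, φ, hp, hE, hφ, rfl⟩

/-- **Brauer**: the principal character lies in the span of characters induced from elementary
subgroups. -/
theorem one_mem_brauerSpanAll : (fun _ : G => (1 : ℂ)) ∈ brauerSpanAll G := by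
  classical
  let ι : ℤ →+ (G → ℂ) :=
    { toFun := fun m => fun _ => (m : ℂ)
      map_zero' := by funext g; simp
      map_add' := fun a b => by funext g; simp }
  let I : AddSubgroup ℤ := (brauerSpanAll G).comap ι
  have hmem : ∀ p : ℕ, p.Prime → ∃ m : ℤ, ¬ (p : ℤ) ∣ m ∧ m ∈ I := by
    intro p hp
    obtain ⟨m, hm, hmem⟩ := exists_const_mem_brauerSpan (G := G) p hp
    exact ⟨m, hm, brauerSpan_le_brauerSpanAll hp hmem⟩
  obtain ⟨d, hd⟩ := Int.subgroup_cyclic I
  have hdvd : ∀ m ∈ I, d ∣ m := by
    intro m hm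
    rw [hd] at hm
    obtain ⟨j, rfl⟩ := AddSubgroup.mem_closure_singleton.mp hm
    exact ⟨j, by rw [smul_eq_mul, mul_comm]⟩
  have hd1 : d.natAbs = 1 := by
    rw [Nat.eq_one_iff_not_exists_prime_dvd]
    intro p hp hpd
    obtain ⟨m, hm, hmI⟩ := hmem p hp
    apply hm
    have h1 : (p : ℤ) ∣ d := Int.natCast_dvd.mpr hpd
    exact h1.trans (hdvd m hmI)
  have hdI : d ∈ I := by
    rw [hd]; exact AddSubgroup.subset_closure rfl
  have h1I : (1 : ℤ) ∈ I := by
    rcases Int.natAbs_eq d with h | h
    · rw [hd1] at h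
      rw [h] at hdI; exact hdI
    · rw [hd1] at h
      have := I.neg_mem hdI
      rw [h] at this
      simpa using this
  have : ι 1 ∈ brauerSpanAll G := h1I
  simpa [ι] using this

/-- `brauerSpanAll` is stable under multiplication by characters. -/
theorem mul_mem_brauerSpanAll {χ : G → ℂ} (hχ : IsCharacter G χ) {f : G → ℂ}
    (hf : f ∈ brauerSpanAll G) : f * χ ∈ brauerSpanAll G := by
  unfold brauerSpanAll at hf
  induction hf using AddSubgroup.closure_induction with
  | mem f hf =>
    obtain ⟨p, E, φ, hp, hE, hφ, rfl⟩ := hf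
    exact brauerSpan_le_brauerSpanAll hp
      (mul_mem_brauerSpan hχ (indFun_mem_brauerSpan E hE hφ))
  | zero => rw [zero_mul]; exact zero_mem _
  | add f g _ _ hf hg => rw [add_mul]; exact add_mem hf hg
  | neg f _ hf => rw [neg_mul]; exact neg_mem hf

/-- Every character lies in `brauerSpanAll`. -/
theorem character_mem_brauerSpanAll {χ : G → ℂ} (hχ : IsCharacter G χ) :
    χ ∈ brauerSpanAll G := by
  have h := mul_mem_brauerSpanAll hχ (one_mem_brauerSpanAll (G := G))
  have h1 : (fun _ : G => (1 : ℂ)) * χ = χ := by funext g; simp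
  rwa [h1] at h

end Global

end Cfsg.Agent.Helper3

namespace Cfsg.Agent.Helper3

open Cfsg Cfsg.Agent.Helper15

universe u

section Characterization

variable {G : Type u} [Group G] [Fintype G]

theorem isGeneralizedCharacter_zero : IsGeneralizedCharacter G (0 : G → ℂ) :=
  ⟨0, 0, Helper74.isCharacter_zero, Helper74.isCharacter_zero, by simp⟩

theorem isGeneralizedCharacter_add {f g : G → ℂ} (hf : IsGeneralizedCharacter G f)
    (hg : IsGeneralizedCharacter G g) : IsGeneralizedCharacter G (f + g) := by
  obtain ⟨a, b, ha, hb, rfl⟩ := hf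
  obtain ⟨c, d, hc, hd, rfl⟩ := hg
  exact ⟨a + c, b + d, Helper74.isCharacter_add ha hc, Helper74.isCharacter_add hb hd, by ring⟩

theorem isGeneralizedCharacter_neg {f : G → ℂ} (hf : IsGeneralizedCharacter G f) :
    IsGeneralizedCharacter G (-f) := by
  obtain ⟨a, b, ha, hb, rfl⟩ := hf
  exact ⟨b, a, hb, ha, by ring⟩

/-- Brauer's characterization, key step: multiplying an element of `brauerSpanAll` by a class
function which restricts to generalized characters of all elementary subgroups gives a
generalized character. -/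
theorem isGeneralizedCharacter_mul_of_mem {θ : G → ℂ} (hθ : IsClassFunction G θ)
    (hE : ∀ (E : Subgroup G) (p : ℕ), p.Prime → IsElementary p E →
      IsGeneralizedCharacter E (fun e : E => θ e))
    {f : G → ℂ} (hf : f ∈ brauerSpanAll G) : IsGeneralizedCharacter G (f * θ) := by
  unfold brauerSpanAll at hf
  induction hf using AddSubgroup.closure_induction with
  | mem f hf =>
    obtain ⟨p, E, φ, hp, hE', hφ, rfl⟩ := hf
    obtain ⟨α, β, hα, hβ, hθE⟩ := hE E p hp hE'
    rw [← indFun_mul_restrict E φ θ hθ, hθE, mul_sub, indFun_sub]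
    exact ⟨_, _, isCharacter_indFun E (Helper74.isCharacter_mul hφ hα),
      isCharacter_indFun E (Helper74.isCharacter_mul hφ hβ), rfl⟩
  | zero => rw [zero_mul]; exact isGeneralizedCharacter_zero
  | add f g _ _ hf hg => rw [add_mul]; exact isGeneralizedCharacter_add hf hg
  | neg f _ hf => rw [neg_mul]; exact isGeneralizedCharacter_neg hf

/-- **Brauer's characterization of characters.** -/
theorem brauer_characterization {θ : G → ℂ} (hθ : IsClassFunction G θ)
    (hE : ∀ (E : Subgroup G) (p : ℕ), p.Prime → IsElementary p E →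
      IsGeneralizedCharacter E (fun e : E => θ e)) : IsGeneralizedCharacter G θ := by
  have h := isGeneralizedCharacter_mul_of_mem hθ hE (one_mem_brauerSpanAll (G := G))
  have h1 : (fun _ : G => (1 : ℂ)) * θ = θ := by funext g; simp
  rwa [h1] at h

end Characterization

section Linear

variable {G : Type u} [Group G] [Fintype G]

/-- The additive group generated by the functions induced from linear characters of elementary
subgroups. -/
def brauerLinSpan (G : Type u) [Group G] [Fintype G] : AddSubgroup (G → ℂ) :=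
  AddSubgroup.closure {f | ∃ (E : Subgroup G) (lam : E →* ℂˣ),
    (∃ p : ℕ, p.Prime ∧ IsElementary p E) ∧ f = indFun E (fun e => ((lam e : ℂˣ) : ℂ))}

/-- Inducing an irreducible character of an elementary subgroup lands in `brauerLinSpan`. -/
theorem indFun_irr_mem_brauerLinSpan {p : ℕ} (hp : p.Prime) (E : Subgroup G) [Fintype E]
    (hE : IsElementary p E) {μ : E → ℂ} (hμ : IsIrrCharacter E μ) :
    indFun E μ ∈ brauerLinSpan G := by
  haveI : Group.IsNilpotent E := isNilpotent_of_isElementary hp hE
  obtain ⟨K, lam, rfl⟩ := Cfsg.Agent.S0176.result μ hμ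
  rw [indFun_indFun_eq]
  apply AddSubgroup.subset_closure
  refine ⟨K.map E.subtype,
    lam.comp (K.equivMapOfInjective E.subtype E.subtype_injective).symm.toMonoidHom,
    ⟨p, hp, ?_⟩, rfl⟩
  exact isElementary_of_mulEquiv (K.equivMapOfInjective E.subtype E.subtype_injective)
    (isElementary_subgroup hp hE K)

theorem brauerSpanAll_le_brauerLinSpan : brauerSpanAll G ≤ brauerLinSpan G := by
  classical
  unfold brauerSpanAll
  rw [AddSubgroup.closure_le]
  rintro f ⟨p, E, φ, hp, hE, hφ, rfl⟩
  haveI : Fintype E := Fintype.ofFinite E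
  letI := Helper74.irrFintype E
  rw [Helper74.isCharacter_eq_sum_irr hφ, indFun_finset_sum]
  apply sum_mem
  intro μ _
  obtain ⟨m, hm⟩ := Helper74.isCharacter_inner_irr_nat hφ μ
  rw [hm, indFun_smul, Nat.cast_smul_eq_nsmul]
  exact nsmul_mem (indFun_irr_mem_brauerLinSpan hp E hE μ.2) m

/-- Negating the integer coefficients negates the sum. -/
theorem brauerLin_list_sum_neg_aux (l : List ((E : Subgroup G) × ((E →* ℂˣ) × ℤ))) :
    (l.map ((fun t : (E : Subgroup G) × ((E →* ℂˣ) × ℤ) =>
        (t.2.2 : ℂ) • indFun t.1 (fun e => ((t.2.1 e : ℂˣ) : ℂ))) ∘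
        fun t => ⟨t.1, t.2.1, -t.2.2⟩)).sum =
      -(l.map fun t : (E : Subgroup G) × ((E →* ℂˣ) × ℤ) =>
        (t.2.2 : ℂ) • indFun t.1 (fun e => ((t.2.1 e : ℂˣ) : ℂ))).sum := by
  induction l with
  | nil => simp
  | cons a l ih =>
    rw [List.map_cons, List.sum_cons, ih, List.map_cons, List.sum_cons, neg_add]
    congr 1
    simp

/-- Unfolding membership in `brauerLinSpan` to an explicit list. -/
theorem exists_list_of_mem_brauerLinSpan {f : G → ℂ} (hf : f ∈ brauerLinSpan G) :
    ∃ l : List ((E : Subgroup G) × ((E →* ℂˣ) × ℤ)),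
      (∀ t ∈ l, ∃ p : ℕ, p.Prime ∧ IsElementary p t.1) ∧
      f = (l.map fun t => (t.2.2 : ℂ) • indFun t.1 (fun e => ((t.2.1 e : ℂˣ) : ℂ))).sum := by
  unfold brauerLinSpan at hf
  induction hf using AddSubgroup.closure_induction with
  | mem f hf =>
    obtain ⟨E, lam, hE, rfl⟩ := hf
    refine ⟨[⟨E, lam, 1⟩], ?_, ?_⟩
    · intro t ht
      rw [List.mem_singleton] at ht
      rw [ht]; exact hE
    · simp
  | zero => exact ⟨[], by simp, by simp⟩
  | add f g _ _ hf hg =>
    obtain ⟨l₁, h₁, rfl⟩ := hf
    obtain ⟨l₂, h₂, rfl⟩ := hg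
    refine ⟨l₁ ++ l₂, ?_, ?_⟩
    · intro t ht
      rcases List.mem_append.mp ht with h | h
      · exact h₁ t h
      · exact h₂ t h
    · rw [List.map_append, List.sum_append]
  | neg f _ hf =>
    obtain ⟨l, h, rfl⟩ := hf
    refine ⟨l.map (fun t => ⟨t.1, t.2.1, -t.2.2⟩), ?_, ?_⟩
    · intro t ht
      obtain ⟨s, hs, rfl⟩ := List.mem_map.mp ht
      exact h s hs
    · rw [List.map_map]
      exact (brauerLin_list_sum_neg_aux l).symm

/-- **Brauer's induction theorem.** -/
theorem brauer_induction {χ : G → ℂ} (hχ : IsCharacter G χ) :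
    ∃ l : List ((E : Subgroup G) × ((E →* ℂˣ) × ℤ)),
      (∀ t ∈ l, ∃ p : ℕ, p.Prime ∧ IsElementary p t.1) ∧
      χ = (l.map fun t => (t.2.2 : ℂ) • indFun t.1 (fun e => ((t.2.1 e : ℂˣ) : ℂ))).sum :=
  exists_list_of_mem_brauerLinSpan
    (brauerSpanAll_le_brauerLinSpan (character_mem_brauerSpanAll hχ))

end Linear

end Cfsg.Agent.Helper3
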