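import Mathlib
import Cfsg.Agent.Helper3.QuatKer

/-!
# The subgroup generated by the involutions, quaternion Sylow `2`-subgroups (helper3)
-/

set_option autoImplicit false
set_option linter.unusedSectionVars false

namespace Cfsg.Agent.Helper3.Quat

universe v

variable {G : Type v} [Group G]

/-- the subgroup generated by the involutions. -/
abbrev invol (G : Type v) [Group G] : Subgroup G := Subgroup.closure {g : G | orderOf g = 2}

theorem normal_closure_of_conj_invariant (s : Set G) (hs : ∀ g x, x ∈ s → g * x * g⁻¹ ∈ s) :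
    (Subgroup.closure s).Normal := by
  constructor
  intro x hx g
  have h1 : (Subgroup.closure s).map (MulAut.conj g).toMonoidHom ≤ Subgroup.closure s := by
    rw [MonoidHom.map_closure, Subgroup.closure_le]
    rintro _ ⟨y, hy, rfl⟩
    exact Subgroup.subset_closure (by simpa [MulAut.conj_apply] using hs g y hy)
  exact h1 ⟨x, hx, by simp [MulAut.conj_apply]⟩

theorem invol_normal : (invol G).Normal :=
  normal_closure_of_conj_invariant _ (fun g x hx => by
    show orderOf (g * x * g⁻¹) = 2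
    rw [orderOf_conj']
    exact hx)

section Main

variable [Finite G] {P : Sylow 2 G} {a : G} {m : ℕ}

/-- a normal `2`-subgroup lies in every Sylow `2`-subgroup. -/
theorem le_sylow_of_normal_isPGroup (P : Sylow 2 G) (T : Subgroup G) (hTn : T.Normal)
    (hT : IsPGroup 2 T) : T ≤ P := by
  obtain ⟨g, hg⟩ := exists_conj_mem P T hT
  intro x hx
  have h1 : g * x * g⁻¹ ∈ T := hTn.conj_mem x hx g
  have h2 := hg _ h1
  have e : g⁻¹ * (g * x * g⁻¹) * g = x := by group
  rw [e] at h2
  exact h2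

theorem QuatData.u_not_mem_invol (h : QuatData (P : Subgroup G) a m) :
    a ^ (2 ^ (m - 2)) ∉ invol G := by
  obtain ⟨M₁, M₂, hn1, hn2, ht1, ht2, hu, -⟩ := h.exists_kernels
  intro huT
  have hle : ∀ M : Subgroup G, M.Normal → a ^ (2 ^ (m - 1)) ∈ M → invol G ≤ M := by
    intro M hM htM
    rw [Subgroup.closure_le]
    intro x hx
    obtain ⟨g, hg⟩ := h.involution_conj hx
    have e : x = g * a ^ (2 ^ (m - 1)) * g⁻¹ := by
      rw [← hg]
      group
    rw [e]
    exact hM.conj_mem _ htM g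
  exact hu ⟨hle M₁ hn1 ht1 huT, hle M₂ hn2 ht2 huT⟩

theorem QuatData.mem_H_of_mem_invol (h : QuatData (P : Subgroup G) a m) {x : G}
    (hxP : x ∈ (P : Subgroup G)) (hxT : x ∈ invol G) : x ∈ Subgroup.zpowers a := by
  by_contra hxH
  have hinv := h.hinv x hxP hxH
  have hT := invol_normal (G := G)
  have h1 : a * x⁻¹ * a⁻¹ ∈ invol G := hT.conj_mem _ ((invol G).inv_mem hxT) a
  have h2 : x * (a * x⁻¹ * a⁻¹) ∈ invol G := (invol G).mul_mem hxT h1
  have h3 : x * (a * x⁻¹ * a⁻¹) = (a ^ 2)⁻¹ := by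
    calc x * (a * x⁻¹ * a⁻¹) = (x * a * x⁻¹) * a⁻¹ := by group
      _ = a⁻¹ * a⁻¹ := by rw [hinv]
      _ = (a ^ 2)⁻¹ := by group
  rw [h3] at h2
  have h4 : a ^ 2 ∈ invol G := by simpa using (invol G).inv_mem h2
  apply h.u_not_mem_invol
  have e : a ^ (2 ^ (m - 2)) = (a ^ 2) ^ (2 ^ (m - 3)) := by
    rw [← pow_mul, ← pow_succ']
    congr 2
    have := h.hm
    omega
  rw [e]
  exact (invol G).pow_mem h4 _

/-- **Sylow `2`-subgroups of the subgroup generated by the involutions are cyclic.** -/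
theorem QuatData.isCyclic_sylow_invol (h : QuatData (P : Subgroup G) a m)
    (Q : Sylow 2 ↥(invol G)) : IsCyclic Q := by
  have hQ' : IsPGroup 2 ((Q : Subgroup (invol G)).map (invol G).subtype) := Q.isPGroup'.map _
  obtain ⟨g, hg⟩ := exists_conj_mem P _ hQ'
  have hT := invol_normal (G := G)
  have key : ∀ q : Q, g⁻¹ * ((q : invol G) : G) * g ∈ Subgroup.zpowers a := by
    intro q
    apply h.mem_H_of_mem_invol
    · exact hg _ ⟨q.1, q.2, rfl⟩
    · have := hT.conj_mem _ q.1.2 g⁻¹
      simpa using this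
  let f : Q →* Subgroup.zpowers a :=
    MonoidHom.mk' (fun q => ⟨g⁻¹ * ((q : invol G) : G) * g, key q⟩) (by
      intro q₁ q₂
      apply Subtype.ext
      simp only [Subgroup.coe_mul]
      group)
  have hf : Function.Injective f := by
    intro q₁ q₂ hq
    have h1 := congrArg Subtype.val hq
    simp only [f, MonoidHom.mk'_apply] at h1
    have h2 := mul_left_cancel (mul_right_cancel h1)
    exact Subtype.ext (Subtype.ext h2)
  exact isCyclic_of_injective f hf

/-- if `O(G) = 1`, the involutions generate a `2`-group. -/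
theorem QuatData.isPGroup_invol (h : QuatData (P : Subgroup G) a m)
    (hO : ∀ N : Subgroup G, N.Normal → Odd (Nat.card N) → N = ⊥) : IsPGroup 2 (invol G) := by
  obtain ⟨Q⟩ : Nonempty (Sylow 2 (invol G)) := inferInstance
  have hcyc : IsCyclic Q := h.isCyclic_sylow_invol Q
  have htT : a ^ (2 ^ (m - 1)) ∈ invol G := Subgroup.subset_closure h.orderOf_t
  have hmin : (Nat.card (invol G)).minFac = 2 := by
    rw [Nat.minFac_eq_two_iff]
    have h1 : orderOf (⟨_, htT⟩ : invol G) ∣ Nat.card (invol G) := orderOf_dvd_natCard _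
    rwa [Subgroup.orderOf_mk, h.orderOf_t] at h1
  have hle := IsCyclic.normalizer_le_centralizer hmin hcyc
  obtain ⟨K, hK⟩ : ∃ K : Subgroup (invol G), K = (MonoidHom.transferSylow Q hle).ker :=
    ⟨_, rfl⟩
  have hKodd : Odd (Nat.card K) := by
    rw [← Nat.not_even_iff_odd, even_iff_two_dvd, hK]
    exact MonoidHom.not_dvd_card_ker_transferSylow Q hle
  have hcompl : Subgroup.IsComplement' K Q := by
    rw [hK]
    exact MonoidHom.ker_transferSylow_isComplement' Q hle
  have hT := invol_normal (G := G)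
  have hKn : (K.map (invol G).subtype).Normal := by
    constructor
    rintro _ ⟨k, hk, rfl⟩ g
    have hmem : g * (k : G) * g⁻¹ ∈ invol G := hT.conj_mem _ k.2 g
    refine ⟨⟨_, hmem⟩, ?_, rfl⟩
    have hkodd : Odd (orderOf k) := by
      have h1 : orderOf (⟨k, hk⟩ : K) ∣ Nat.card K := orderOf_dvd_natCard _
      rw [Subgroup.orderOf_mk] at h1
      exact hKodd.of_dvd_nat h1
    have ho : orderOf (⟨g * (k : G) * g⁻¹, hmem⟩ : invol G) = orderOf k := by
      rw [Subgroup.orderOf_mk, orderOf_conj', Subgroup.orderOf_coe]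
    show (⟨g * (k : G) * g⁻¹, hmem⟩ : invol G) ∈ K
    rw [hK, MonoidHom.mem_ker]
    obtain ⟨z, hz⟩ : ∃ z : Q, z = MonoidHom.transferSylow Q hle ⟨g * (k : G) * g⁻¹, hmem⟩ :=
      ⟨_, rfl⟩
    rw [← hz]
    have h1 : z ^ (orderOf k) = 1 := by
      rw [hz, ← map_pow, ← ho, pow_orderOf_eq_one, map_one]
    obtain ⟨j, hj⟩ := Q.isPGroup' z
    exact eq_one_of_pow_coprime h1 hj
      (Nat.Coprime.pow_right j (Nat.coprime_two_right.mpr hkodd))
  have hbot := hO _ hKn (by rw [Subgroup.card_subtype]; exact hKodd)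
  have hKbot : K = ⊥ :=
    (Subgroup.map_eq_bot_iff_of_injective K (Subgroup.subtype_injective _)).mp hbot
  have hcard := hcompl.card_mul_card
  rw [hKbot, Subgroup.card_bot, one_mul] at hcard
  obtain ⟨j, hj⟩ := IsPGroup.iff_card.mp Q.isPGroup'
  exact IsPGroup.of_card (n := j) (by rw [← hcard]; exact hj)

/-- **The centre has order two.** -/
theorem QuatData.card_center (h : QuatData (P : Subgroup G) a m)
    (hO : ∀ N : Subgroup G, N.Normal → Odd (Nat.card N) → N = ⊥) :
    Nat.card (Subgroup.center G) = 2 := by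
  have hTp := h.isPGroup_invol hO
  have hTP : invol G ≤ P := le_sylow_of_normal_isPGroup P _ invol_normal hTp
  have huniq : ∀ x : G, orderOf x = 2 → x = a ^ (2 ^ (m - 1)) := fun x hx =>
    h.unique_involution (hTP (Subgroup.subset_closure hx)) hx
  have htc : a ^ (2 ^ (m - 1)) ∈ Subgroup.center G := by
    rw [Subgroup.mem_center_iff]
    intro g
    have h1 := huniq (g * a ^ (2 ^ (m - 1)) * g⁻¹) (by rw [orderOf_conj', h.orderOf_t])
    exact mul_inv_eq_iff_eq_mul.mp h1
  have hcn : ∀ z : G, z ∈ Subgroup.center G → (Subgroup.zpowers z).Normal := by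
    intro z hz
    have hzc : ∀ g, g * z = z * g := Subgroup.mem_center_iff.mp hz
    constructor
    intro x hx g
    obtain ⟨k, rfl⟩ := Subgroup.mem_zpowers_iff.mp hx
    have hc : Commute g z := hzc g
    have e : g * z ^ k * g⁻¹ = z ^ k := mul_inv_eq_iff_eq_mul.mpr (hc.zpow_right k).eq
    rw [e]
    exact Subgroup.zpow_mem _ (Subgroup.mem_zpowers _) k
  have hle : Subgroup.center G ≤ Subgroup.zpowers (a ^ (2 ^ (m - 1))) := by
    intro z hz
    have hzc : ∀ g, g * z = z * g := Subgroup.mem_center_iff.mp hz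
    obtain ⟨j, r', hr'odd, hN⟩ := Nat.exists_eq_two_pow_mul_odd (orderOf_pos z).ne'
    have hw : z ^ (2 ^ j) = 1 := by
      have hwc : z ^ (2 ^ j) ∈ Subgroup.center G := Subgroup.pow_mem _ hz _
      have hWodd : Odd (Nat.card (Subgroup.zpowers (z ^ (2 ^ j)))) := by
        rw [Nat.card_zpowers, orderOf_pow_of_dvd (by positivity) (hN ▸ dvd_mul_right _ _), hN,
          Nat.mul_div_cancel_left _ (by positivity)]
        exact hr'odd
      have h1 := hO _ (hcn _ hwc) hWodd
      rw [Subgroup.zpowers_eq_bot] at h1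
      exact h1
    have hz2 : IsPGroup 2 (Subgroup.zpowers z) := by
      rintro ⟨y, hy⟩
      obtain ⟨k, rfl⟩ := Subgroup.mem_zpowers_iff.mp hy
      refine ⟨j, Subtype.ext ?_⟩
      simp only [Subgroup.coe_pow, Subgroup.coe_one]
      rw [← zpow_natCast, ← zpow_mul, mul_comm, zpow_mul, zpow_natCast, hw, one_zpow]
    have hzP : z ∈ (P : Subgroup G) :=
      le_sylow_of_normal_isPGroup P _ (hcn z hz) hz2 (Subgroup.mem_zpowers z)
    have hzH : z ∈ Subgroup.zpowers a := h.mem_H_of_commute_u hzP (hzc _).symm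
    obtain ⟨b, hbP, hbH⟩ := h.hex
    have h1 := h.inv_H hbP hbH hzH
    have h2 : b * z * b⁻¹ = z := by rw [hzc b, mul_inv_cancel_right]
    rw [h2] at h1
    have hzz : z * z = 1 := by
      nth_rewrite 2 [h1]
      exact mul_inv_cancel z
    rcases h.H_sq_eq_one hzH hzz with rfl | rfl
    · exact one_mem _
    · exact Subgroup.mem_zpowers _
  have heq : Subgroup.center G = Subgroup.zpowers (a ^ (2 ^ (m - 1))) :=
    le_antisymm hle (Subgroup.zpowers_le.mpr htc)
  rw [heq, Nat.card_zpowers, h.orderOf_t]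

end Main

end Cfsg.Agent.Helper3.Quat
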