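import Mathlib
import Cfsg.Agent.Helper3.QuatSylow

/-!
# `QuatData` for subgroups isomorphic to a generalized quaternion group (helper3)
-/

set_option autoImplicit false
set_option linter.unusedSectionVars false

namespace Cfsg.Agent.Helper3.Quat

open QuaternionGroup

theorem mem_zpowers_a_one_iff {N : ℕ} [NeZero N] (z : QuaternionGroup N) :
    z ∈ Subgroup.zpowers (a 1 : QuaternionGroup N) ↔ ∃ i, z = a i := by
  constructor
  · intro hz
    rw [← (isOfFinOrder_of_finite (a 1 : QuaternionGroup N)).mem_powers_iff_mem_zpowers,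
      Submonoid.mem_powers_iff] at hz
    obtain ⟨k, rfl⟩ := hz
    exact ⟨k, a_one_pow k⟩
  · rintro ⟨i, rfl⟩
    refine Subgroup.mem_zpowers_iff.mpr ⟨(i.val : ℤ), ?_⟩
    rw [zpow_natCast, a_one_pow, ZMod.natCast_zmod_val]

theorem quatData_top (n : ℕ) :
    QuatData (⊤ : Subgroup (QuaternionGroup (2 ^ (n + 2)))) (a 1) (n + 3) where
  ha := Subgroup.mem_top _
  hm := by omega
  hord := by rw [orderOf_a_one, ← pow_succ']
  hinv := by
    intro x _ hx
    rcases x with i | i
    · exact absurd ((mem_zpowers_a_one_iff _).mpr ⟨i, rfl⟩) hx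
    · show xa i * a 1 * xa (((2 ^ (n + 2) : ℕ) : ZMod (2 * 2 ^ (n + 2))) + i) = a (-1)
      rw [xa_mul_a, xa_mul_xa]
      congr 1
      have key : ((2 ^ (n + 2) : ℕ) : ZMod (2 * 2 ^ (n + 2))) +
          ((2 ^ (n + 2) : ℕ) : ZMod (2 * 2 ^ (n + 2))) = 0 := by
        rw [← Nat.cast_add, ← two_mul]
        exact ZMod.natCast_self _
      linear_combination key
  hsq := by
    intro x _ hx
    rcases x with i | i
    · exact absurd ((mem_zpowers_a_one_iff _).mpr ⟨i, rfl⟩) hx
    · rw [xa_mul_xa, a_one_pow]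
      congr 1
      have : n + 3 - 1 = n + 2 := by omega
      rw [this]
      ring
  hidx := by
    intro x _ y _ hx hy
    rcases x with i | i
    · exact absurd ((mem_zpowers_a_one_iff _).mpr ⟨i, rfl⟩) hx
    · rcases y with j | j
      · exact absurd ((mem_zpowers_a_one_iff _).mpr ⟨j, rfl⟩) hy
      · rw [mem_zpowers_a_one_iff]
        refine ⟨j - i, ?_⟩
        show xa (((2 ^ (n + 2) : ℕ) : ZMod (2 * 2 ^ (n + 2))) + i) * xa j = a (j - i)
        rw [xa_mul_xa]
        congr 1
        ring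
  hex := by
    refine ⟨xa 0, Subgroup.mem_top _, fun h => ?_⟩
    obtain ⟨i, hi⟩ := (mem_zpowers_a_one_iff _).mp h
    cases hi

/-- transport of `QuatData` along an injective homomorphism. -/
theorem QuatData.map {Q G : Type*} [Group Q] [Group G] (f : Q →* G) (hf : Function.Injective f)
    {a₀ : Q} {m : ℕ} (h : QuatData (⊤ : Subgroup Q) a₀ m) :
    QuatData f.range (f a₀) m := by
  have hz : ∀ q : Q, f q ∈ Subgroup.zpowers (f a₀) → q ∈ Subgroup.zpowers a₀ := by
    intro q hq
    obtain ⟨k, hk⟩ := Subgroup.mem_zpowers_iff.mp hq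
    rw [← map_zpow] at hk
    exact Subgroup.mem_zpowers_iff.mpr ⟨k, hf hk⟩
  have hz' : ∀ q : Q, q ∈ Subgroup.zpowers a₀ → f q ∈ Subgroup.zpowers (f a₀) := by
    intro q hq
    obtain ⟨k, rfl⟩ := Subgroup.mem_zpowers_iff.mp hq
    rw [map_zpow]
    exact Subgroup.zpow_mem _ (Subgroup.mem_zpowers _) k
  refine ⟨⟨a₀, rfl⟩, h.hm, ?_, ?_, ?_, ?_, ?_⟩
  · rw [orderOf_injective f hf, h.hord]
  · rintro _ ⟨q, rfl⟩ hq
    have := h.hinv q (Subgroup.mem_top _) (fun hq' => hq (hz' q hq'))
    rw [← map_inv, ← map_inv, ← map_mul, ← map_mul, this]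
  · rintro _ ⟨q, rfl⟩ hq
    have := h.hsq q (Subgroup.mem_top _) (fun hq' => hq (hz' q hq'))
    rw [← map_mul, ← map_pow, this]
  · rintro _ ⟨q, rfl⟩ _ ⟨q', rfl⟩ hq hq'
    have := h.hidx q (Subgroup.mem_top _) q' (Subgroup.mem_top _) (fun hq'' => hq (hz' q hq''))
      (fun hq'' => hq' (hz' q' hq''))
    rw [← map_inv, ← map_mul]
    exact hz' _ this
  · obtain ⟨b, -, hb⟩ := h.hex
    exact ⟨f b, ⟨b, rfl⟩, fun hb' => hb (hz b hb')⟩

/-- a subgroup isomorphic to a generalized quaternion group of order at least 16. -/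
theorem exists_quatData {G : Type*} [Group G] (P : Subgroup G) (n : ℕ)
    (e : ↥P ≃* QuaternionGroup (2 ^ (n + 2))) : ∃ (a : G) (m : ℕ), QuatData P a m := by
  have h := (quatData_top n).map (P.subtype.comp e.symm.toMonoidHom)
    (P.subtype_injective.comp e.symm.injective)
  have hr : (P.subtype.comp e.symm.toMonoidHom).range = P := by
    rw [MonoidHom.range_comp]
    have : e.symm.toMonoidHom.range = ⊤ := MonoidHom.range_eq_top.mpr e.symm.surjective
    rw [this, ← MonoidHom.range_eq_map, Subgroup.range_subtype]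
  rw [hr] at h
  exact ⟨_, _, h⟩

end Cfsg.Agent.Helper3.Quat
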