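import Mathlib
import Cfsg.Agent.Helper3.Subrep

/-!
# Representations with equal characters are equivalent (helper3)
-/

set_option autoImplicit false

namespace Cfsg.Agent.Helper3

open Module Representation

section Glue

variable {k G V W : Type*} [Field k] [Monoid G] [AddCommGroup V] [Module k V]
  [AddCommGroup W] [Module k W]
  {ρ : Representation k G V} {σ : Representation k G W}

theorem isCompl_toSubmodule (A B : Subrepresentation ρ) (h : IsCompl A B) :
    IsCompl A.toSubmodule B.toSubmodule := by
  constructor
  · rw [disjoint_iff]
    exact congrArg Subrepresentation.toSubmodule h.inf_eq_bot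
  · rw [codisjoint_iff]
    exact congrArg Subrepresentation.toSubmodule h.sup_eq_top

/-- Glue equivalences on complementary subrepresentations. -/
theorem equiv_of_isCompl (A A' : Subrepresentation ρ) (hA : IsCompl A A')
    (B B' : Subrepresentation σ) (hB : IsCompl B B')
    (e : A.toRepresentation.Equiv B.toRepresentation)
    (e' : A'.toRepresentation.Equiv B'.toRepresentation) : Nonempty (ρ.Equiv σ) := by
  have hA' := isCompl_toSubmodule A A' hA
  have hB' := isCompl_toSubmodule B B' hB
  let E : V ≃ₗ[k] W :=
    (Submodule.prodEquivOfIsCompl A.toSubmodule A'.toSubmodule hA').symm ≪≫ₗ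
      (e.toLinearEquiv.prodCongr e'.toLinearEquiv) ≪≫ₗ
      Submodule.prodEquivOfIsCompl B.toSubmodule B'.toSubmodule hB'
  have hE : ∀ (a : A.toSubmodule) (a' : A'.toSubmodule),
      E ((a : V) + (a' : V)) = ((e a : B.toSubmodule) : W) + ((e' a' : B'.toSubmodule) : W) := by
    intro a a'
    have h1 : (Submodule.prodEquivOfIsCompl A.toSubmodule A'.toSubmodule hA').symm
        ((a : V) + (a' : V)) = (a, a') := by
      rw [LinearEquiv.symm_apply_eq, Submodule.coe_prodEquivOfIsCompl']
    show Submodule.prodEquivOfIsCompl B.toSubmodule B'.toSubmodule hB'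
      ((e.toLinearEquiv.prodCongr e'.toLinearEquiv)
        ((Submodule.prodEquivOfIsCompl A.toSubmodule A'.toSubmodule hA').symm
          ((a : V) + (a' : V)))) = _
    rw [h1, Submodule.coe_prodEquivOfIsCompl']
    rfl
  refine ⟨Representation.Equiv.mk E ?_⟩
  intro g
  ext v
  obtain ⟨⟨a, a'⟩, rfl⟩ :=
    (Submodule.prodEquivOfIsCompl A.toSubmodule A'.toSubmodule hA').surjective v
  rw [Submodule.coe_prodEquivOfIsCompl']
  simp only [LinearMap.coe_comp, LinearEquiv.coe_coe, Function.comp_apply]
  have h2 : ρ g ((a : V) + (a' : V)) =
      ((A.toRepresentation g a : A.toSubmodule) : V) +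
        ((A'.toRepresentation g a' : A'.toSubmodule) : V) := by
    rw [map_add]; rfl
  rw [h2, hE, hE, map_add]
  have h3 := e.toIntertwiningMap.isIntertwining A.toRepresentation B.toRepresentation g a
  have h4 := e'.toIntertwiningMap.isIntertwining A'.toRepresentation B'.toRepresentation g a'
  have h3' : (e (A.toRepresentation g a) : B.toSubmodule) = B.toRepresentation g (e a) := h3
  have h4' : (e' (A'.toRepresentation g a') : B'.toSubmodule) = B'.toRepresentation g (e' a') := h4
  rw [h3', h4']
  rfl

/-- An injective intertwining map induces an equivalence onto its range. -/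
noncomputable def equivRangeOfInjective (f : IntertwiningMap ρ σ) (hf : Function.Injective f) :
    ρ.Equiv f.range.toRepresentation :=
  Representation.Equiv.mk (LinearEquiv.ofInjective f.toLinearMap hf) (by
    intro g
    ext v
    simp only [LinearMap.coe_comp, LinearEquiv.coe_coe, Function.comp_apply]
    show f.toLinearMap (ρ g v) = σ g (f.toLinearMap v)
    exact f.isIntertwining ρ σ g v)

end Glue

end Cfsg.Agent.Helper3

namespace Cfsg.Agent.Helper3

open Module Representation

section Main

universe u v w

variable {G : Type w} [Group G] [Fintype G]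

theorem subrep_nontrivial_of_ne_bot {k : Type*} [Field k] {V : Type*} [AddCommGroup V]
    [Module k V] {ρ : Representation k G V} (A : Subrepresentation ρ) (hA : A ≠ ⊥) :
    Nontrivial A.toSubmodule := by
  by_contra hnt
  rw [not_nontrivial_iff_subsingleton] at hnt
  apply hA
  apply SetLike.ext
  intro w
  constructor
  · intro hw
    have : (⟨w, hw⟩ : A.toSubmodule) = 0 := Subsingleton.elim _ _
    have h3 : w = 0 := congrArg Subtype.val this
    rw [h3]; exact (⊥ : Subrepresentation ρ).toSubmodule.zero_mem
  · intro hw
    have h3 : w = 0 := (Submodule.mem_bot k).mp hw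
    rw [h3]; exact A.toSubmodule.zero_mem

theorem equiv_of_character_eq_aux :
    ∀ (n : ℕ) {V : Type u} {W : Type v} [AddCommGroup V] [Module ℂ V] [FiniteDimensional ℂ V]
      [AddCommGroup W] [Module ℂ W] [FiniteDimensional ℂ W]
      (ρ : Representation ℂ G V) (σ : Representation ℂ G W),
      finrank ℂ V = n → ρ.character = σ.character → Nonempty (ρ.Equiv σ) := by
  intro n
  induction n using Nat.strong_induction_on with
  | _ n ih =>
    intro V W _ _ _ _ _ _ ρ σ hn hχ
    have hne : NeZero (Nat.card G : ℂ) := ⟨by exact_mod_cast Nat.card_pos.ne'⟩
    have hinv : Invertible (Nat.card G : ℂ) := invertibleOfNonzero hne.out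
    have hdim : finrank ℂ V = finrank ℂ W := by
      have h1 := congrFun hχ 1
      rw [Representation.char_one, Representation.char_one] at h1
      exact_mod_cast h1
    by_cases hV : Subsingleton V
    · have hW : Subsingleton W := by
        have h0 : finrank ℂ V = 0 := finrank_zero_of_subsingleton
        rw [hdim] at h0
        exact Module.finrank_zero_iff.mp h0
      exact ⟨Representation.Equiv.mk (LinearEquiv.ofSubsingleton V W)
        (by intro g; ext v; exact Subsingleton.elim _ _)⟩
    · rw [not_subsingleton_iff_nontrivial] at hV
      have htop : (⊤ : Subrepresentation ρ) ≠ ⊥ := by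
        intro h
        obtain ⟨v, hv⟩ := exists_ne (0 : V)
        have h1 : v ∈ (⊤ : Subrepresentation ρ) := Submodule.mem_top
        rw [h] at h1
        exact hv ((Submodule.mem_bot ℂ).mp h1)
      obtain ⟨A, -, hAne, hAirr⟩ := exists_irreducible_le (⊤ : Subrepresentation ρ) htop
      obtain ⟨A', hA'⟩ := exists_isCompl A
      have hχρ := character_eq_add_of_isCompl A A' hA'
      have hAnt := subrep_nontrivial_of_ne_bot A hAne
      -- a nonzero intertwiner from A to σ
      have hfr : finrank ℂ (IntertwiningMap A.toRepresentation σ) =
          finrank ℂ (IntertwiningMap A.toRepresentation ρ) := by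
        have h1 := card_inv_mul_sum_char_mul_char_eq_finrank A.toRepresentation σ
        have h2 := card_inv_mul_sum_char_mul_char_eq_finrank A.toRepresentation ρ
        rw [← hχ, h2] at h1
        exact_mod_cast h1.symm
      let ι : IntertwiningMap A.toRepresentation ρ :=
        ⟨A.toSubmodule.subtype, fun g => by ext v; rfl⟩
      have hι : ι ≠ 0 := by
        intro h
        obtain ⟨a, ha⟩ := exists_ne (0 : A.toSubmodule)
        apply ha
        have : ι a = 0 := by rw [h]; rfl
        exact Subtype.ext this
      have hpos : 0 < finrank ℂ (IntertwiningMap A.toRepresentation σ) := by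
        rw [hfr]
        exact Module.finrank_pos_iff_exists_ne_zero.mpr ⟨ι, hι⟩
      obtain ⟨f, hf⟩ := Module.finrank_pos_iff_exists_ne_zero.mp hpos
      have hfinj : Function.Injective f :=
        (IsIrreducible.injective_or_eq_zero f).resolve_right hf
      set B : Subrepresentation σ := f.range with hB
      let e : A.toRepresentation.Equiv B.toRepresentation := equivRangeOfInjective f hfinj
      obtain ⟨B', hB'⟩ := exists_isCompl B
      have hχσ := character_eq_add_of_isCompl B B' hB'
      have hχAB := Representation.char_iso e
      have hχ' : A'.toRepresentation.character = B'.toRepresentation.character := by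
        have : A.toRepresentation.character + A'.toRepresentation.character =
            B.toRepresentation.character + B'.toRepresentation.character := by
          rw [← hχρ, ← hχσ, hχ]
        rw [hχAB] at this
        exact add_left_cancel this
      have hlt : finrank ℂ A'.toSubmodule < n := by
        have h1 := Submodule.finrank_add_eq_of_isCompl (isCompl_toSubmodule A A' hA')
        have h2 : 0 < finrank ℂ A.toSubmodule := Module.finrank_pos
        omega
      obtain ⟨e'⟩ := ih _ hlt A'.toRepresentation B'.toRepresentation rfl hχ'
      exact equiv_of_isCompl A A' hA' B B' hB' e e'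

/-- Complex representations of a finite group with equal characters are equivalent. -/
theorem equiv_of_character_eq {V : Type u} {W : Type v} [AddCommGroup V] [Module ℂ V]
    [FiniteDimensional ℂ V] [AddCommGroup W] [Module ℂ W] [FiniteDimensional ℂ W]
    (ρ : Representation ℂ G V) (σ : Representation ℂ G W) (h : ρ.character = σ.character) :
    Nonempty (ρ.Equiv σ) :=
  equiv_of_character_eq_aux _ ρ σ rfl h

end Main

end Cfsg.Agent.Helper3
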