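import Mathlib

/-!
# S3805 (helper3): definitions for the `S₃ × S₃` normalizer configuration

`NData T x y a b` : the normalizer of `T = ⟨x⟩ × ⟨y⟩` (elementary abelian of order 9) is
`T ⋊ ⟨a, b⟩`, where `a` inverts `x` and centralizes `y`, `b` centralizes `x` and inverts `y`.

`Loc x y` : the purely local data handed to character theory (centralizer orders, fusion,
class multiplication counts).
-/

set_option autoImplicit false

namespace Cfsg.Agent.Helper3.S3S3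

/-- The normalizer of `T` is `S₃ × S₃`, in coordinates. -/
structure NData {G : Type*} [Group G] (T : Subgroup G) (x y a b : G) : Prop where
  x3 : x ^ 3 = 1
  y3 : y ^ 3 = 1
  x1 : x ≠ 1
  y1 : y ≠ 1
  comm : x * y = y * x
  commT : ∀ s ∈ T, ∀ t ∈ T, s * t = t * s
  xT : x ∈ T
  yT : y ∈ T
  indep : ∀ i j : ℕ, x ^ i = y ^ j → x ^ i = 1
  memT : ∀ t ∈ T, ∃ i j : ℕ, t = x ^ i * y ^ j
  aN : a ∈ Subgroup.normalizer (T : Set G)
  bN : b ∈ Subgroup.normalizer (T : Set G)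
  ax : a * x * a⁻¹ = x⁻¹
  ay : a * y * a⁻¹ = y
  bx : b * x * b⁻¹ = x
  by_ : b * y * b⁻¹ = y⁻¹
  memN : ∀ n ∈ Subgroup.normalizer (T : Set G),
    ∃ t ∈ T, n = t ∨ n = t * a ∨ n = t * b ∨ n = t * (a * b)

namespace NData
variable {G : Type*} [Group G] {T : Subgroup G} {x y a b : G}

theorem xinvT (h : NData T x y a b) : x⁻¹ ∈ T := T.inv_mem h.xT
theorem yinvT (h : NData T x y a b) : y⁻¹ ∈ T := T.inv_mem h.yT

theorem conj_T (h : NData T x y a b) {t s : G} (ht : t ∈ T) (hs : s ∈ T) : t * s * t⁻¹ = s := by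
  rw [h.commT t ht s hs, mul_inv_cancel_right]

/-- the action of `N_G(T)` on `x` and `y`: each is fixed or inverted. -/
theorem conj_in_N (h : NData T x y a b) {n : G} (hn : n ∈ Subgroup.normalizer (T : Set G)) :
    (n * x * n⁻¹ = x ∧ n * y * n⁻¹ = y) ∨ (n * x * n⁻¹ = x⁻¹ ∧ n * y * n⁻¹ = y) ∨
    (n * x * n⁻¹ = x ∧ n * y * n⁻¹ = y⁻¹) ∨ (n * x * n⁻¹ = x⁻¹ ∧ n * y * n⁻¹ = y⁻¹) := by
  obtain ⟨t, ht, rfl | rfl | rfl | rfl⟩ := h.memN n hn
  · exact Or.inl ⟨h.conj_T ht h.xT, h.conj_T ht h.yT⟩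
  · refine Or.inr (Or.inl ⟨?_, ?_⟩)
    · have : t * a * x * (t * a)⁻¹ = t * (a * x * a⁻¹) * t⁻¹ := by group
      rw [this, h.ax, h.conj_T ht h.xinvT]
    · have : t * a * y * (t * a)⁻¹ = t * (a * y * a⁻¹) * t⁻¹ := by group
      rw [this, h.ay, h.conj_T ht h.yT]
  · refine Or.inr (Or.inr (Or.inl ⟨?_, ?_⟩))
    · have : t * b * x * (t * b)⁻¹ = t * (b * x * b⁻¹) * t⁻¹ := by group
      rw [this, h.bx, h.conj_T ht h.xT]
    · have : t * b * y * (t * b)⁻¹ = t * (b * y * b⁻¹) * t⁻¹ := by group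
      rw [this, h.by_, h.conj_T ht h.yinvT]
  · refine Or.inr (Or.inr (Or.inr ⟨?_, ?_⟩))
    · have : t * (a * b) * x * (t * (a * b))⁻¹ = t * (a * (b * x * b⁻¹) * a⁻¹) * t⁻¹ := by group
      rw [this, h.bx, h.ax, h.conj_T ht h.xinvT]
    · have : t * (a * b) * y * (t * (a * b))⁻¹ = t * (a * (b * y * b⁻¹) * a⁻¹) * t⁻¹ := by group
      have hay' : a * y⁻¹ * a⁻¹ = y⁻¹ := by
        have := congrArg (·⁻¹) h.ay
        simpa [mul_assoc] using this
      rw [this, h.by_, hay', h.conj_T ht h.yinvT]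

end NData

/-- A sum of a function vanishing off three distinct points. -/
theorem sum_eq_three {ι M : Type*} [Fintype ι] [DecidableEq ι] [AddCommMonoid M] (F : ι → M)
    (i j k : ι) (hij : i ≠ j) (hik : i ≠ k) (hjk : j ≠ k)
    (h0 : ∀ l, l ≠ i → l ≠ j → l ≠ k → F l = 0) : ∑ l, F l = F i + F j + F k := by
  rw [← Finset.sum_subset (Finset.subset_univ ({i, j, k} : Finset ι))]
  · rw [Finset.sum_insert (by simp [hij, hik]), Finset.sum_insert (by simp [hjk]),
      Finset.sum_singleton, add_assoc]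
  · intro l _ hl
    simp only [Finset.mem_insert, Finset.mem_singleton, not_or] at hl
    exact h0 l hl.1 hl.2.1 hl.2.2

/-- The number of pairs `(g, h)` with `g p g⁻¹ * h q h⁻¹ = r`. -/
def pairCount {G : Type*} [Group G] [Fintype G] [DecidableEq G] (p q r : G) : ℕ :=
  (Finset.univ.filter (fun gh : G × G => gh.1 * p * gh.1⁻¹ * (gh.2 * q * gh.2⁻¹) = r)).card

/-- The local data handed to character theory. -/
structure Loc {G : Type*} [Group G] [Fintype G] [DecidableEq G] (x y : G) : Prop where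
  x3 : x ^ 3 = 1
  y3 : y ^ 3 = 1
  comm : x * y = y * x
  x1 : x ≠ 1
  y1 : y ≠ 1
  z1 : x * y ≠ 1
  xi : IsConj x x⁻¹
  yi : IsConj y y⁻¹
  zi : IsConj (x * y) (x * y)⁻¹
  nxy : ¬ IsConj x y
  nxz : ¬ IsConj x (x * y)
  nyz : ¬ IsConj y (x * y)
  cx : Nat.card (Subgroup.centralizer ({x} : Set G)) = 18
  cy : Nat.card (Subgroup.centralizer ({y} : Set G)) = 18
  cz : Nat.card (Subgroup.centralizer ({x * y} : Set G)) = 9
  e1 : pairCount x y (x * y) = 324
  e2 : pairCount x y x = 0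
  e3 : pairCount x y y = 0
  e5 : pairCount x (x * y) (x * y) = 162
  e6 : pairCount x (x * y) x = 0
  e7 : pairCount y (x * y) (x * y) = 162
  e8 : pairCount y (x * y) y = 0

end Cfsg.Agent.Helper3.S3S3
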