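import Mathlib
import Cfsg.Agent.Helper13.QFEDefs

/-!
# Piece (M1) of S5977/S5978 (owner helper13): existence of an `L`-model

`(ι → F, Q, θ)` with `θ² = δ` self-adjoint is identified with `(L^d, φ ∘ QL, s)`.
-/

set_option autoImplicit false

namespace Cfsg.Agent.Helper3.QFEM1

open Module Matrix QuadraticMap Cfsg.Agent.Helper13.QFE

/-- trace duality: an `F`-quadratic form for which `K` acts by self-adjoint maps is `φ ∘ QK`. -/
theorem exists_quadForm {F K V : Type*} [Field F] [Field K] [Algebra F K] [FiniteDimensional F K]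
    [AddCommGroup V] [Module F V] [Module K V] [IsScalarTower F K V]
    (h2 : (2 : F) ≠ 0) (Q : QuadraticForm F V)
    (hsa : ∀ (a : K) (u v : V), polar Q (a • u) v = polar Q u (a • v))
    (φ : K →ₗ[F] F) (hφ : φ ≠ 0) :
    ∃ QK : QuadraticForm K V, ∀ v, Q v = φ (QK v) := by
  classical
  set f : V →ₗ[F] V →ₗ[F] F := polarBilin Q with hf
  have hfapp : ∀ u v, f u v = polar Q u v := fun u v => rfl
  have hsa' : ∀ (a : K) (u v : V), f (a • u) v = f u (a • v) := hsa
  have hφnd : ∀ a : K, (∀ a' : K, φ (a * a') = 0) → a = 0 := by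
    intro a ha
    by_contra ha0
    apply hφ
    ext c
    have h1 := ha (a⁻¹ * c)
    rw [← mul_assoc, mul_inv_cancel₀ ha0, one_mul] at h1
    simpa using h1
  have hφinj : ∀ x y : K, (∀ a, φ (a * x) = φ (a * y)) → x = y := by
    intro x y h
    have h1 := hφnd (x - y) (fun a' => by rw [mul_comm, mul_sub, map_sub, h a', sub_self])
    exact sub_eq_zero.1 h1
  let Φ : K →ₗ[F] Module.Dual F K :=
    LinearMap.mk₂ F (fun b a => φ (a * b))
      (by intro b b' a; simp only [mul_add, map_add])
      (by intro c b a; simp only [mul_smul_comm, map_smul])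
      (by intro b a a'; simp only [add_mul, map_add])
      (by intro c b a; simp only [smul_mul_assoc, map_smul])
  have hΦapp : ∀ b a, Φ b a = φ (a * b) := fun b a => rfl
  have hΦinj : Function.Injective Φ := by
    intro x y hxy
    apply hφinj
    intro a
    rw [← hΦapp, ← hΦapp, hxy]
  have hΦsurj : Function.Surjective Φ :=
    (LinearMap.injective_iff_surjective_of_finrank_eq_finrank
      (Subspace.dual_finrank_eq (K := F) (V := K)).symm).1 hΦinj
  let ℓ : V → V → Module.Dual F K := fun u v =>
    { toFun := fun a => f (a • u) v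
      map_add' := by intro a a'; simp only [add_smul, map_add, LinearMap.add_apply]
      map_smul' := by
        intro c a
        simp only [smul_assoc, map_smul, LinearMap.smul_apply, RingHom.id_apply] }
  have hℓapp : ∀ u v a, ℓ u v a = f (a • u) v := fun u v a => rfl
  let Bf : V → V → K := fun u v => Classical.choose (hΦsurj (ℓ u v))
  have hB : ∀ u v a, φ (a * Bf u v) = f (a • u) v := by
    intro u v a
    have h1 := Classical.choose_spec (hΦsurj (ℓ u v))
    rw [← hΦapp, ← hℓapp]
    exact congrArg (fun g => g a) h1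
  let B : LinearMap.BilinForm K V :=
    LinearMap.mk₂ K Bf
      (by
        intro u u' v
        apply hφinj; intro a
        rw [hB, mul_add, map_add, hB, hB, smul_add, map_add, LinearMap.add_apply])
      (by
        intro c u v
        apply hφinj; intro a
        rw [hB, smul_eq_mul, ← mul_assoc, hB, mul_smul])
      (by
        intro u v v'
        apply hφinj; intro a
        rw [hB, map_add, mul_add, map_add, hB, hB])
      (by
        intro c u v
        apply hφinj; intro a
        rw [hB, smul_eq_mul, ← mul_assoc, hB, ← hsa', mul_comm a c, mul_smul])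
  have hBapp : ∀ u v, B u v = Bf u v := fun u v => rfl
  refine ⟨(algebraMap F K (2⁻¹)) • LinearMap.BilinMap.toQuadraticMap B, ?_⟩
  intro v
  rw [QuadraticMap.smul_apply, LinearMap.BilinMap.toQuadraticMap_apply, smul_eq_mul, hBapp, hB,
    algebraMap_smul, map_smul, LinearMap.smul_apply, hfapp, polar_self, smul_eq_mul,
    nsmul_eq_mul, Nat.cast_ofNat, inv_mul_cancel_left₀ h2]

/-- the abstract model: an `L`-basis transports `QK` to `L^d`. -/
theorem exists_model_core {F L V : Type*} [Field F] [Field L] [Algebra F L]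
    [FiniteDimensional F L] [AddCommGroup V] [Module F V] [Module L V] [IsScalarTower F L V]
    [FiniteDimensional F V] (h2 : (2 : F) ≠ 0) (Q : QuadraticForm F V)
    (hsa : ∀ (a : L) (u v : V), polar Q (a • u) v = polar Q u (a • v))
    (φ : L →ₗ[F] F) (hφ : φ ≠ 0) (d : ℕ) (hd : finrank F V = finrank F L * d) :
    ∃ (QL : QuadraticForm L (Fin d → L)) (e : (Fin d → L) ≃ₗ[L] V), ∀ c, Q (e c) = φ (QL c) := by
  classical
  obtain ⟨QK, hQK⟩ := exists_quadForm h2 Q hsa φ hφ
  haveI : FiniteDimensional L V := Module.Finite.of_restrictScalars_finite F L V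
  have hfr : finrank L V = d := by
    have h1 := Module.finrank_mul_finrank F L V
    rw [hd] at h1
    have hpos : 0 < finrank F L := Module.finrank_pos
    exact Nat.eq_of_mul_eq_mul_left hpos h1
  let b : Basis (Fin d) L V := Module.finBasisOfFinrankEq L V hfr
  refine ⟨QK.comp (b.equivFun.symm : (Fin d → L) →ₗ[L] V), b.equivFun.symm, ?_⟩
  intro c
  rw [hQK, QuadraticMap.comp_apply]
  rfl

/-- `{1, s}` is an `F`-basis of `L`. -/
theorem exists_basis_one_s {F L : Type*} [Field F] [Field L] [Algebra F L] {δ : F} {s : L}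
    (hδ : ¬ IsSquare δ) (hL : QExt F L δ s) :
    ∃ b : Basis (Fin 2) F L, b 0 = 1 ∧ b 1 = s := by
  classical
  have hli : LinearIndependent F ![(1 : L), s] := by
    rw [LinearIndependent.pair_iff]
    intro x y hxy
    have hy : y = 0 := by
      by_contra hy
      apply hδ
      have hs : s = algebraMap F L (-(x / y)) := by
        have h1 : y • s = -(x • (1 : L)) := by
          rw [eq_neg_iff_add_eq_zero, add_comm]; exact hxy
        have h2 : s = y⁻¹ • (y • s) := by rw [smul_smul, inv_mul_cancel₀ hy, one_smul]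
        rw [h2, h1, Algebra.algebraMap_eq_smul_one, smul_neg, smul_smul, neg_smul, div_eq_inv_mul,
          mul_comm]
      have h3 := hL.sq
      rw [hs, ← map_mul] at h3
      have h4 := (algebraMap F L).injective h3
      exact ⟨-(x / y), h4.symm⟩
    subst hy
    rw [zero_smul, add_zero] at hxy
    refine ⟨?_, rfl⟩
    rw [← Algebra.algebraMap_eq_smul_one] at hxy
    exact (map_eq_zero (algebraMap F L)).1 hxy
  have hcard : Fintype.card (Fin 2) = finrank F L := by rw [hL.fr]; rfl
  refine ⟨basisOfLinearIndependentOfCardEqFinrank hli hcard, ?_, ?_⟩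
  · rw [coe_basisOfLinearIndependentOfCardEqFinrank]; rfl
  · rw [coe_basisOfLinearIndependentOfCardEqFinrank]; rfl

/-- the `F`-algebra map `L → Matrix` with `s ↦ θ`. -/
theorem exists_algHom {F L : Type*} [Field F] [Field L] [Algebra F L] {ι : Type} [Fintype ι]
    [DecidableEq ι] {δ : F} {s : L} (hδ : ¬ IsSquare δ) (hL : QExt F L δ s) (θ : Matrix ι ι F)
    (hθ : θ * θ = δ • (1 : Matrix ι ι F)) :
    ∃ ρ : L →ₐ[F] Matrix ι ι F, ρ s = θ ∧
      ∀ a : L, ∃ x y : F, ρ a = x • (1 : Matrix ι ι F) + y • θ := by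
  classical
  obtain ⟨b, hb0, hb1⟩ := exists_basis_one_s hδ hL
  set f : L →ₗ[F] Matrix ι ι F := b.constr F ![(1 : Matrix ι ι F), θ] with hf
  have hf0 : f 1 = 1 := by rw [← hb0, hf, Basis.constr_basis]; rfl
  have hf1 : f s = θ := by rw [← hb1, hf, Basis.constr_basis]; rfl
  have hrep : ∀ a : L, f a = b.repr a 0 • (1 : Matrix ι ι F) + b.repr a 1 • θ := by
    intro a
    rw [hf, Basis.constr_apply_fintype, Fin.sum_univ_two]
    rfl
  have hss : f (s * s) = θ * θ := by
    rw [hL.sq, hθ, Algebra.algebraMap_eq_smul_one, map_smul, hf0]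
  have key : (LinearMap.mul F L).compr₂ f =
      ((LinearMap.mul F (Matrix ι ι F)).comp f).compl₂ f := by
    apply b.ext; intro i; apply b.ext; intro j
    simp only [LinearMap.compr₂_apply, LinearMap.mul_apply', LinearMap.compl₂_apply,
      LinearMap.comp_apply]
    fin_cases i <;> fin_cases j
    · simp only [Fin.zero_eta, hb0, mul_one, hf0]
    · simp only [Fin.zero_eta, Fin.mk_one, hb0, hb1, one_mul, hf0, hf1]
    · simp only [Fin.zero_eta, Fin.mk_one, hb0, hb1, mul_one, hf0, hf1]
    · simp only [Fin.mk_one, hb1, hss, hf1]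
  have hmul : ∀ x y, f (x * y) = f x * f y := by
    intro x y
    have := congrArg (fun g => g x y) key
    simpa only [LinearMap.compr₂_apply, LinearMap.mul_apply', LinearMap.compl₂_apply,
      LinearMap.comp_apply] using this
  refine ⟨AlgHom.ofLinearMap f hf0 hmul, ?_, ?_⟩
  · simpa using hf1
  · intro a
    exact ⟨b.repr a 0, b.repr a 1, by simpa using hrep a⟩

universe u

/-- (M1) existence of a model -/
theorem exists_model {F : Type u} [Field F] {ι : Type} [Fintype ι] [DecidableEq ι]
    (h2 : (2 : F) ≠ 0) (Q : QuadraticForm F (ι → F))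
    (hQ : (polarBilin Q).Nondegenerate) {θ : Matrix ι ι F} {δ : F} (hθ : TData Q θ δ)
    {L : Type*} [Field L] [Algebra F L] {s : L} (hL : QExt F L δ s) (φ : L →ₗ[F] F) (hφ : φ ≠ 0)
    {d : ℕ} (hι : Fintype.card ι = 2 * d) : Nonempty (LModel Q θ L s φ d) := by
  classical
  obtain ⟨ρ, hρs, hρ⟩ := exists_algHom hθ.nsq hL θ hθ.sq
  haveI : FiniteDimensional F L := Module.finite_of_finrank_pos (by rw [hL.fr]; norm_num)
  let ρ' : L →ₐ[F] Module.End F (ι → F) := (Matrix.toLinAlgEquiv' : Matrix ι ι F ≃ₐ[F] _).toAlgHom.comp ρ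
  letI : Module L (ι → F) := Module.compHom (ι → F) (ρ' : L →+* Module.End F (ι → F))
  have hsmul : ∀ (a : L) (v : ι → F), a • v = ρ a *ᵥ v := fun a v => rfl
  haveI : IsScalarTower F L (ι → F) := ⟨by
    intro x a v
    rw [hsmul, hsmul, map_smul, Matrix.smul_mulVec]⟩
  have hsa : ∀ (a : L) (u v : ι → F), polar Q (a • u) v = polar Q u (a • v) := by
    intro a u v
    obtain ⟨x, y, hxy⟩ := hρ a
    rw [hsmul, hsmul, hxy, Matrix.add_mulVec, Matrix.add_mulVec, Matrix.smul_mulVec,
      Matrix.smul_mulVec, Matrix.smul_mulVec, Matrix.smul_mulVec, Matrix.one_mulVec,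
      Matrix.one_mulVec, polar_add_left, polar_add_right, polar_smul_left, polar_smul_left,
      polar_smul_right, polar_smul_right, hθ.sa u v]
  have hd : finrank F (ι → F) = finrank F L * d := by
    rw [Module.finrank_fintype_fun_eq_card, hι, hL.fr]
  obtain ⟨QL, e, he⟩ := exists_model_core h2 Q hsa φ hφ d hd
  refine ⟨⟨QL, e.restrictScalars F, ?_, ?_⟩⟩
  · intro c
    rw [LinearEquiv.restrictScalars_apply, map_smul, hsmul, hρs]
    rfl
  · intro c
    rw [LinearEquiv.restrictScalars_apply]
    exact he c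

end Cfsg.Agent.Helper3.QFEM1
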