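-- (GB2) for helper15's S4018: an involution of N_G(P) outside C_G(P) inverting C_G(P).
import Mathlib
import Cfsg.Agent.Helper15.TIInvDefs

set_option autoImplicit false

namespace Cfsg.Agent.Helper3.TIInvGB2

open Cfsg Cfsg.Agent.Helper15.TIInv

universe u

/-- a `p`-element normalizing a Sylow `p`-subgroup lies in it. -/
theorem mem_sylow_of_pElt_norm {G : Type*} [Group G] (p : ℕ) [Fact p.Prime] (P : Sylow p G)
    {s : G} (hs : s ∈ Subgroup.normalizer ((P : Subgroup G) : Set G)) (hsp : ∃ k : ℕ, s ^ p ^ k = 1) :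
    s ∈ (P : Subgroup G) := by
  have hpg : IsPGroup p (Subgroup.zpowers s) := by
    obtain ⟨k, hk⟩ := hsp
    rintro ⟨y, hy⟩
    obtain ⟨n, rfl⟩ := Subgroup.mem_zpowers_iff.mp hy
    refine ⟨k, Subtype.ext ?_⟩
    simp only [Subgroup.coe_pow, Subgroup.coe_one]
    rw [← zpow_natCast, ← zpow_mul, mul_comm, zpow_mul, zpow_natCast, hk, one_zpow]
  have hle : Subgroup.zpowers s ≤ Subgroup.normalizer ((P : Subgroup G) : Set G) := by
    rw [Subgroup.zpowers_le]; exact hs
  have h1 := (Subgroup.sylow_mem_fixedPoints_iff (Subgroup.zpowers s) (P := P)).mpr hle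
  have h2 := (hpg.sylow_mem_fixedPoints_iff (Q := P)).mp h1
  exact h2 (Subgroup.mem_zpowers s)

variable {G : Type u} [Group G] [Finite G] (P : Sylow 3 G)

local notation "CP" => Subgroup.centralizer ((P : Subgroup G) : Set G)
local notation "NP" => Subgroup.normalizer ((P : Subgroup G) : Set G)

theorem hyp_invert (h : Hyp P) (z : G) (hzC : z ∈ CP) (hz2 : orderOf z = 2)
    (hCcomm : ∀ x ∈ CP, ∀ y ∈ CP, x * y = y * x)
    (hzu : ∀ x ∈ CP, x * x = 1 → x = 1 ∨ x = z)
    (hcz : Subgroup.centralizer ({z} : Set G) = NP)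
    (hti : ∀ g : G, ∀ x ∈ CP, x ≠ 1 → g * x * g⁻¹ ∈ CP → g ∈ NP)
    (hinv : ∀ u v : G, orderOf u = 2 → orderOf v = 2 → IsConj u v)
    (hexp : ∀ x : G, x ^ 4 = 1 → x ^ 2 = 1) :
    ∃ t ∈ NP, orderOf t = 2 ∧ t ∉ CP ∧ ∀ x ∈ CP, t * x * t⁻¹ = x⁻¹ := by
  classical
  -- m = |P| = 3^a
  obtain ⟨a, ha⟩ := (IsPGroup.iff_card (p := 3) (G := (P : Subgroup G))).mp P.2
  set m := Nat.card (P : Subgroup G) with hm
  have hmodd : Odd m := by rw [ha]; exact Odd.pow (by decide)
  have hmpos : 0 < m := Nat.card_pos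
  have hCN : CP ≤ NP := Subgroup.centralizer_le_normalizer _
  have hPC : (P : Subgroup G) ≤ CP := by
    intro x hx
    rw [Subgroup.mem_centralizer_iff]
    intro y hy
    exact h.hab y hy x hx
  -- 3-elements of NP lie in P
  have h3 : ∀ y ∈ NP, y ^ m = 1 → y ∈ (P : Subgroup G) := by
    intro y hy hym
    exact mem_sylow_of_pElt_norm 3 P hy ⟨a, by rw [← ha]; exact hym⟩
  -- pick g ∈ NP \ CP
  have hex : ∃ g ∈ NP, g ∉ CP := by
    by_contra hcon
    have hle : NP ≤ CP := fun g hg => by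
      by_contra hg'
      exact hcon ⟨g, hg, hg'⟩
    have heq : NP = CP := le_antisymm hle hCN
    have h1 := h.hN
    have h2 := h.hC
    rw [heq] at h1
    omega
  obtain ⟨g, hgN, hgC⟩ := hex
  -- g^2 ∈ CP
  have hnormal : ∀ n ∈ NP, ∀ c ∈ CP, n * c * n⁻¹ ∈ CP := by
    intro n hn c hc
    rw [Subgroup.mem_centralizer_iff] at hc ⊢
    intro y hy
    have hy' : n⁻¹ * y * n ∈ (P : Subgroup G) := by
      have := (Subgroup.mem_normalizer_iff''.mp hn (y)).mp hy
      simpa using this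
    have := hc _ hy'
    calc y * (n * c * n⁻¹) = n * ((n⁻¹ * y * n) * c) * n⁻¹ := by group
      _ = n * (c * (n⁻¹ * y * n)) * n⁻¹ := by rw [this]
      _ = n * c * n⁻¹ * y := by group
  have hidx : (Subgroup.subgroupOf CP NP).index = 2 := by
    have h1 := Subgroup.card_mul_index (Subgroup.subgroupOf CP NP)
    rw [Nat.card_congr (Subgroup.subgroupOfEquivOfLe hCN).toEquiv, h.hN, h.hC] at h1
    have : (2 * m) * (Subgroup.subgroupOf CP NP).index = (2 * m) * 2 := by rw [h1]; ring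
    exact Nat.eq_of_mul_eq_mul_left (by omega) this
  have hsq : ∀ g ∈ NP, g * g ∈ CP := by
    intro g hg
    have := Subgroup.mul_self_mem_of_index_two hidx (⟨g, hg⟩ : NP)
    simpa [Subgroup.mem_subgroupOf] using this
  obtain ⟨k, hk⟩ := hmodd
  have hodd_notin : ∀ g ∈ NP, g ∉ CP → g ^ m ∉ CP := by
    intro g hg hgC hgm
    apply hgC
    have e : g = ((g * g) ^ k)⁻¹ * g ^ m := by
      rw [hk, ← pow_two, ← pow_mul, pow_succ, inv_mul_cancel_left]
    rw [e]
    exact Subgroup.mul_mem _ (Subgroup.inv_mem _ (Subgroup.pow_mem _ (hsq g hg) k)) hgm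
  have hpowN : ∀ g ∈ NP, g ^ (4 * m) = 1 := by
    intro g hg
    have := pow_card_eq_one' (G := NP) (x := ⟨g, hg⟩)
    rw [h.hN] at this
    have := congrArg Subtype.val this
    simpa using this
  have hpowC : ∀ c ∈ CP, c ^ (2 * m) = 1 := by
    intro c hc
    have := pow_card_eq_one' (G := CP) (x := ⟨c, hc⟩)
    rw [h.hC] at this
    have := congrArg Subtype.val this
    simpa using this
  have hpowP : ∀ x ∈ (P : Subgroup G), x ^ m = 1 := by
    intro x hx
    have h1 : (⟨x, hx⟩ : (P : Subgroup G)) ^ m = 1 := pow_card_eq_one'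
    have h2 := congrArg Subtype.val h1
    rw [Subgroup.coe_pow] at h2
    exact h2
  set t := g ^ m with ht
  have htN : t ∈ NP := Subgroup.pow_mem _ hgN m
  have htC : t ∉ CP := hodd_notin g hgN hgC
  have ht4 : t ^ 4 = 1 := by rw [ht, ← pow_mul, mul_comm]; exact hpowN g hgN
  have ht2 : t ^ 2 = 1 := hexp t ht4
  have ht1 : t ≠ 1 := by
    intro h1; apply htC; rw [h1]; exact Subgroup.one_mem _
  have hto : orderOf t = 2 := orderOf_eq_prime ht2 ht1
  have htt : t * t = 1 := by rw [← pow_two]; exact ht2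
  have htinv : t⁻¹ = t := inv_eq_of_mul_eq_one_right htt
  have htz : t * z = z * t := by
    have : t ∈ Subgroup.centralizer ({z} : Set G) := by rw [hcz]; exact htN
    rw [Subgroup.mem_centralizer_iff] at this
    exact (this z rfl).symm
  obtain ⟨σ, hσ⟩ := isConj_iff.mp (hinv z t hz2 hto)
  have hσN : σ ∉ NP := by
    intro hσN
    rw [← hcz, Subgroup.mem_centralizer_iff] at hσN
    have e := hσN z rfl
    apply htC
    rw [← hσ, ← e, mul_inv_cancel_right]
    exact hzC
  -- t inverts P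
  have hinvP : ∀ x ∈ (P : Subgroup G), t * x * t⁻¹ = x⁻¹ := by
    intro x hx
    have hx' : t * x * t⁻¹ ∈ (P : Subgroup G) := (Subgroup.mem_normalizer_iff.mp htN x).mp hx
    set y := x * (t * x * t⁻¹) with hy
    have hyP : y ∈ (P : Subgroup G) := Subgroup.mul_mem _ hx hx'
    by_cases hy1 : y = 1
    · exact (eq_inv_of_mul_eq_one_right hy1)
    exfalso
    have hty : t * y = y * t := by
      have e1 : t * y * t⁻¹ = (t * x * t⁻¹) * x := by
        rw [hy, htinv]
        calc t * (x * (t * x * t)) * t = t * x * t * x * (t * t) := by group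
          _ = t * x * t * x := by rw [htt, mul_one]
      have e2 : (t * x * t⁻¹) * x = y := by
        rw [hy]; exact h.hab _ hx' _ hx
      rw [e2] at e1
      calc t * y = t * y * t⁻¹ * t := by group
        _ = y * t := by rw [e1]
    set y' := σ⁻¹ * y * σ with hy'
    have hy'z : y' ∈ NP := by
      rw [← hcz, Subgroup.mem_centralizer_iff]
      intro w hw
      rw [Set.mem_singleton_iff] at hw
      subst hw
      have hz : w = σ⁻¹ * t * σ := by rw [← hσ]; group
      rw [hy', hz]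
      calc σ⁻¹ * t * σ * (σ⁻¹ * y * σ) = σ⁻¹ * (t * y) * σ := by group
        _ = σ⁻¹ * (y * t) * σ := by rw [hty]
        _ = σ⁻¹ * y * σ * (σ⁻¹ * t * σ) := by group
    have hy'm : y' ^ m = 1 := by
      have : y' = σ⁻¹ * y * σ⁻¹⁻¹ := by rw [inv_inv]
      rw [this, conj_pow, hpowP y hyP]; group
    have hy'P : y' ∈ (P : Subgroup G) := h3 y' hy'z hy'm
    have hy'1 : y' ≠ 1 := by
      intro e
      apply hy1
      have : y = σ * y' * σ⁻¹ := by rw [hy']; group
      rw [this, e]; group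
    have hback : σ * y' * σ⁻¹ ∈ CP := by
      have : σ * y' * σ⁻¹ = y := by rw [hy']; group
      rw [this]; exact hPC hyP
    exact hσN (hti σ y' (hPC hy'P) hy'1 hback)
  refine ⟨t, htN, hto, htC, ?_⟩
  intro c hc
  set a' := c * c with ha'
  have ha'C : a' ∈ CP := Subgroup.mul_mem _ hc hc
  have ha'P : a' ∈ (P : Subgroup G) := by
    apply h3 a' (hCN ha'C)
    rw [ha', ← pow_two, ← pow_mul]; exact hpowC c hc
  set b := c ^ m with hb
  have hbC : b ∈ CP := Subgroup.pow_mem _ hc m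
  have hbb : b * b = 1 := by
    rw [hb, ← pow_two, ← pow_mul, mul_comm]; exact hpowC c hc
  have htb : t * b * t⁻¹ = b := by
    rcases hzu b hbC hbb with e | e
    · rw [e]; group
    · rw [e, htz, mul_inv_cancel_right]
  have hbinv : b⁻¹ = b := inv_eq_of_mul_eq_one_right hbb
  have e : c = (a' ^ k)⁻¹ * b := by
    rw [hb, ha', hk, ← pow_two, ← pow_mul, pow_succ, inv_mul_cancel_left]
  have hakC : a' ^ k ∈ CP := Subgroup.pow_mem _ ha'C k
  have e1 : t * c * t⁻¹ = a' ^ k * b := by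
    have : t * c * t⁻¹ = (t * (a' ^ k)⁻¹ * t⁻¹) * (t * b * t⁻¹) := by rw [e]; group
    rw [this, htb, ← conj_inv, ← conj_pow, hinvP a' ha'P, inv_pow, inv_inv]
  have e2 : c⁻¹ = a' ^ k * b := by
    have : c⁻¹ = b⁻¹ * a' ^ k := by
      conv_lhs => rw [e]
      rw [mul_inv_rev, inv_inv]
    rw [this, hbinv]
    exact hCcomm b hbC _ hakC
  rw [e1, e2]

end Cfsg.Agent.Helper3.TIInvGB2
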