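import Mathlib
import Cfsg.Agent.Helper3.S3S3Defs

/-!
# S3805 (helper3): the arithmetic core in the coordinates `A, B, C`

`core_ABC_of` takes the three generic pieces (K1/K2 = `shape_AB`, K3 = `local_arith`) as
hypotheses; the glue file instantiates them.
-/

set_option autoImplicit false
open Finset

namespace Cfsg.Agent.Helper3.S3S3

section core
variable {ι : Type*} [Fintype ι] [DecidableEq ι]

/-- statement of (K2) -/
def ShapeABStmt (ι : Type*) [Fintype ι] [DecidableEq ι] : Prop :=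
  ∀ (d : ι → ℕ) (A B : ι → ℤ), (∀ i, 0 < d i) →
    ∑ i, A i ^ 2 = 3 → ∑ i, B i ^ 2 = 3 → ∑ i, A i * B i = 1 →
    ∑ i, (d i : ℤ) * A i = 0 → ∑ i, (d i : ℤ) * B i = 0 →
    ∃ θ α₁ α₂ β₁ β₂ : ι, [θ, α₁, α₂, β₁, β₂].Nodup ∧
      A θ = B θ ∧ (A θ = 1 ∨ A θ = -1) ∧
      (A α₁ = 1 ∨ A α₁ = -1) ∧ (A α₂ = 1 ∨ A α₂ = -1) ∧
      (B β₁ = 1 ∨ B β₁ = -1) ∧ (B β₂ = 1 ∨ B β₂ = -1) ∧
      (∀ l, l ≠ θ → l ≠ α₁ → l ≠ α₂ → A l = 0) ∧
      (∀ l, l ≠ θ → l ≠ β₁ → l ≠ β₂ → B l = 0)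

/-- statement of (K3) -/
def LocalArithStmt : Prop :=
  ∀ (e₀ a₁ a₂ c₀ c₁ c₂ : ℤ) (D d₁ d₂ g : ℕ),
    (e₀ = 1 ∨ e₀ = -1) → (a₁ = 1 ∨ a₁ = -1) → (a₂ = 1 ∨ a₂ = -1) →
    0 < D → 0 < d₁ → 0 < d₂ → 0 < g →
    c₀ ^ 2 + c₁ ^ 2 + c₂ ^ 2 ≤ 4 →
    e₀ * c₀ + a₁ * c₁ + a₂ * c₂ = -1 →
    e₀ * D + a₁ * d₁ + a₂ * d₂ = 0 →
    ((e₀ - c₀) ^ 2 * e₀ : ℚ) / D + ((a₁ + c₁) ^ 2 * a₁ : ℚ) / d₁
      + ((a₂ + c₂) ^ 2 * a₂ : ℚ) / d₂ = 0 →
    ((e₀ - c₀) ^ 2 * e₀ : ℚ) / D + ((-a₁ - c₁) * (2 * a₁ - c₁) * a₁ : ℚ) / d₁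
      + ((-a₂ - c₂) * (2 * a₂ - c₂) * a₂ : ℚ) / d₂ = -108 / g →
    ((e₀ - c₀) * (-2 * e₀ - c₀) * e₀ : ℚ) / D + ((a₁ + c₁) ^ 2 * a₁ : ℚ) / d₁
      + ((a₂ + c₂) ^ 2 * a₂ : ℚ) / d₂ = 54 / g →
    g = 9 * D ∧ 2 * d₁ = D ∧ 2 * d₂ = D

theorem sum_four_le {f : ι → ℤ} (hf : ∀ i, 0 ≤ f i) (i j k l : ι)
    (hij : i ≠ j) (hik : i ≠ k) (hil : i ≠ l) (hjk : j ≠ k) (hjl : j ≠ l) (hkl : k ≠ l) :
    f i + f j + f k + f l ≤ ∑ m, f m := by
  have h := Finset.sum_le_sum_of_subset_of_nonneg (Finset.subset_univ ({i, j, k, l} : Finset ι))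
    (fun m _ _ => hf m)
  rw [Finset.sum_insert (by simp [hij, hik, hil]), Finset.sum_insert (by simp [hjk, hjl]),
    Finset.sum_insert (by simp [hkl]), Finset.sum_singleton] at h
  linarith

theorem sum_six_le {f : ι → ℕ} (l : List ι) (hl : l.Nodup) :
    (l.map f).sum ≤ ∑ m, f m := by
  rw [← List.sum_toFinset f hl]
  exact Finset.sum_le_sum_of_subset_of_nonneg (Finset.subset_univ _) (fun m _ _ => Nat.zero_le _)

end core

end Cfsg.Agent.Helper3.S3S3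

namespace Cfsg.Agent.Helper3.S3S3

section core2
variable {ι : Type*} [Fintype ι] [DecidableEq ι]

/-- (K4) the arithmetic core in the coordinates `A, B, C`, modulo (K2) and (K3). -/
theorem core_ABC_of (hK2 : ShapeABStmt ι) (hK3 : LocalArithStmt)
    (o : ι) (d : ι → ℕ) (A B C : ι → ℤ) (g : ℕ)
    (hd : ∀ i, 0 < d i) (hAo : A o = 0) (hBo : B o = 0) (hCo : C o = -1)
    (hAA : ∑ i, A i ^ 2 = 3) (hBB : ∑ i, B i ^ 2 = 3) (hAB : ∑ i, A i * B i = 1)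
    (hCC : ∑ i, C i ^ 2 = 5) (hAC : ∑ i, A i * C i = -1) (hBC : ∑ i, B i * C i = -1)
    (hdA : ∑ i, (d i : ℤ) * A i = 0) (hdB : ∑ i, (d i : ℤ) * B i = 0)
    (hdd : ∑ i, d i ^ 2 = g) (h36 : 36 ≤ g)
    (hE1 : ∑ i, ((2 * B i - A i - C i) * (2 * A i - B i - C i) * (-(A i + B i + C i)) : ℚ) / d i
      = 324 / g)
    (hE2 : ∑ i, ((2 * B i - A i - C i) ^ 2 * (2 * A i - B i - C i) : ℚ) / d i = 0)
    (hE3 : ∑ i, ((2 * B i - A i - C i) * (2 * A i - B i - C i) ^ 2 : ℚ) / d i = 0)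
    (hE5 : ∑ i, ((2 * B i - A i - C i) * (-(A i + B i + C i)) ^ 2 : ℚ) / d i = 162 / g)
    (hE6 : ∑ i, ((2 * B i - A i - C i) ^ 2 * (-(A i + B i + C i)) : ℚ) / d i = 0)
    (hE7 : ∑ i, ((2 * A i - B i - C i) * (-(A i + B i + C i)) ^ 2 : ℚ) / d i = 162 / g)
    (hE8 : ∑ i, ((2 * A i - B i - C i) ^ 2 * (-(A i + B i + C i)) : ℚ) / d i = 0) :
    g = 36 := by
  have hg : 0 < g := by omega
  obtain ⟨θ, α₁, α₂, β₁, β₂, hnd, hθ, hθs, hα₁, hα₂, hβ₁, hβ₂, hA0, hB0⟩ :=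
    hK2 d A B hd hAA hBB hAB hdA hdB
  simp only [List.nodup_cons, List.mem_cons, List.not_mem_nil, or_false, not_or,
    List.nodup_nil, and_true, not_false_eq_true] at hnd
  obtain ⟨⟨h1, h2, h3, h4⟩, ⟨h5, h6, h7⟩, ⟨h8, h9⟩, h10⟩ := hnd
  have Bα₁ : B α₁ = 0 := hB0 α₁ (Ne.symm h1) h6 h7
  have Bα₂ : B α₂ = 0 := hB0 α₂ (Ne.symm h2) h8 h9
  have Aβ₁ : A β₁ = 0 := hA0 β₁ (Ne.symm h3) (Ne.symm h6) (Ne.symm h8)
  have Aβ₂ : A β₂ = 0 := hA0 β₂ (Ne.symm h4) (Ne.symm h7) (Ne.symm h9)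
  have oθ : o ≠ θ := by
    rintro rfl; rcases hθs with h | h <;> rw [hAo] at h <;> omega
  have oα₁ : o ≠ α₁ := by
    rintro rfl; rcases hα₁ with h | h <;> rw [hAo] at h <;> omega
  have oα₂ : o ≠ α₂ := by
    rintro rfl; rcases hα₂ with h | h <;> rw [hAo] at h <;> omega
  have oβ₁ : o ≠ β₁ := by
    rintro rfl; rcases hβ₁ with h | h <;> rw [hBo] at h <;> omega
  have oβ₂ : o ≠ β₂ := by
    rintro rfl; rcases hβ₂ with h | h <;> rw [hBo] at h <;> omega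
  -- the six supported equations
  have hS1 : ∑ i, ((2 * B i - A i - C i) ^ 2 * A i : ℚ) / d i = 0 := by
    have : ∑ i, ((2 * B i - A i - C i) ^ 2 * A i : ℚ) / d i =
        (-1 / 3) * (∑ i, ((2 * B i - A i - C i) ^ 2 * (-(A i + B i + C i)) : ℚ) / d i
          - ∑ i, ((2 * B i - A i - C i) ^ 2 * (2 * A i - B i - C i) : ℚ) / d i) := by
      rw [← Finset.sum_sub_distrib, Finset.mul_sum]
      exact Finset.sum_congr rfl (fun i _ => by ring)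
    rw [this, hE6, hE2]; ring
  have hS2 : ∑ i, ((2 * B i - A i - C i) * (2 * A i - B i - C i) * A i : ℚ) / d i
      = -108 / g := by
    have : ∑ i, ((2 * B i - A i - C i) * (2 * A i - B i - C i) * A i : ℚ) / d i =
        (-1 / 3) * (∑ i, ((2 * B i - A i - C i) * (2 * A i - B i - C i)
            * (-(A i + B i + C i)) : ℚ) / d i
          - ∑ i, ((2 * B i - A i - C i) * (2 * A i - B i - C i) ^ 2 : ℚ) / d i) := by
      rw [← Finset.sum_sub_distrib, Finset.mul_sum]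
      exact Finset.sum_congr rfl (fun i _ => by ring)
    rw [this, hE1, hE3]; ring
  have hS3 : ∑ i, ((2 * B i - A i - C i) * (-(A i + B i + C i)) * A i : ℚ) / d i
      = 54 / g := by
    have : ∑ i, ((2 * B i - A i - C i) * (-(A i + B i + C i)) * A i : ℚ) / d i =
        (-1 / 3) * (∑ i, ((2 * B i - A i - C i) * (-(A i + B i + C i)) ^ 2 : ℚ) / d i
          - ∑ i, ((2 * B i - A i - C i) * (2 * A i - B i - C i)
            * (-(A i + B i + C i)) : ℚ) / d i) := by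
      rw [← Finset.sum_sub_distrib, Finset.mul_sum]
      exact Finset.sum_congr rfl (fun i _ => by ring)
    rw [this, hE5, hE1]; ring
  have hT1 : ∑ i, ((2 * A i - B i - C i) ^ 2 * B i : ℚ) / d i = 0 := by
    have : ∑ i, ((2 * A i - B i - C i) ^ 2 * B i : ℚ) / d i =
        (-1 / 3) * (∑ i, ((2 * A i - B i - C i) ^ 2 * (-(A i + B i + C i)) : ℚ) / d i
          - ∑ i, ((2 * B i - A i - C i) * (2 * A i - B i - C i) ^ 2 : ℚ) / d i) := by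
      rw [← Finset.sum_sub_distrib, Finset.mul_sum]
      exact Finset.sum_congr rfl (fun i _ => by ring)
    rw [this, hE8, hE3]; ring
  have hT2 : ∑ i, ((2 * A i - B i - C i) * (2 * B i - A i - C i) * B i : ℚ) / d i
      = -108 / g := by
    have : ∑ i, ((2 * A i - B i - C i) * (2 * B i - A i - C i) * B i : ℚ) / d i =
        (-1 / 3) * (∑ i, ((2 * B i - A i - C i) * (2 * A i - B i - C i)
            * (-(A i + B i + C i)) : ℚ) / d i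
          - ∑ i, ((2 * B i - A i - C i) ^ 2 * (2 * A i - B i - C i) : ℚ) / d i) := by
      rw [← Finset.sum_sub_distrib, Finset.mul_sum]
      exact Finset.sum_congr rfl (fun i _ => by ring)
    rw [this, hE1, hE2]; ring
  have hT3 : ∑ i, ((2 * A i - B i - C i) * (-(A i + B i + C i)) * B i : ℚ) / d i
      = 54 / g := by
    have : ∑ i, ((2 * A i - B i - C i) * (-(A i + B i + C i)) * B i : ℚ) / d i =
        (-1 / 3) * (∑ i, ((2 * A i - B i - C i) * (-(A i + B i + C i)) ^ 2 : ℚ) / d i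
          - ∑ i, ((2 * B i - A i - C i) * (2 * A i - B i - C i)
            * (-(A i + B i + C i)) : ℚ) / d i) := by
      rw [← Finset.sum_sub_distrib, Finset.mul_sum]
      exact Finset.sum_congr rfl (fun i _ => by ring)
    rw [this, hE7, hE1]; ring
  -- localisation
  have locA : ∀ F : ι → ℚ, (∀ l, A l = 0 → F l = 0) → ∑ l, F l = F θ + F α₁ + F α₂ :=
    fun F hF => sum_eq_three F θ α₁ α₂ h1 h2 h5 (fun l a b c => hF l (hA0 l a b c))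
  have locB : ∀ F : ι → ℚ, (∀ l, B l = 0 → F l = 0) → ∑ l, F l = F θ + F β₁ + F β₂ :=
    fun F hF => sum_eq_three F θ β₁ β₂ h3 h4 h10 (fun l a b c => hF l (hB0 l a b c))
  have locAz : ∀ F : ι → ℤ, (∀ l, A l = 0 → F l = 0) → ∑ l, F l = F θ + F α₁ + F α₂ :=
    fun F hF => sum_eq_three F θ α₁ α₂ h1 h2 h5 (fun l a b c => hF l (hA0 l a b c))
  have locBz : ∀ F : ι → ℤ, (∀ l, B l = 0 → F l = 0) → ∑ l, F l = F θ + F β₁ + F β₂ :=
    fun F hF => sum_eq_three F θ β₁ β₂ h3 h4 h10 (fun l a b c => hF l (hB0 l a b c))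
  rw [locA _ (fun l hl => by simp [hl])] at hS1 hS2 hS3
  rw [locB _ (fun l hl => by simp [hl])] at hT1 hT2 hT3
  rw [locAz _ (fun l hl => by simp [hl])] at hAC hdA
  rw [locBz _ (fun l hl => by simp [hl])] at hBC hdB
  rw [← hθ, Bα₁, Bα₂] at hS1 hS2 hS3
  rw [← hθ, Aβ₁, Aβ₂] at hT1 hT2 hT3
  rw [← hθ] at hBC hdB
  -- bounds on `C`
  have hCsq : ∀ i, 0 ≤ C i ^ 2 := fun i => sq_nonneg _
  have hC4A : C θ ^ 2 + C α₁ ^ 2 + C α₂ ^ 2 ≤ 4 := by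
    have := sum_four_le hCsq o θ α₁ α₂ oθ oα₁ oα₂ h1 h2 h5
    rw [hCC, hCo] at this; linarith
  have hC4B : C θ ^ 2 + C β₁ ^ 2 + C β₂ ^ 2 ≤ 4 := by
    have := sum_four_le hCsq o θ β₁ β₂ oθ oβ₁ oβ₂ h3 h4 h10
    rw [hCC, hCo] at this; linarith
  obtain ⟨gA, dα₁, dα₂⟩ := hK3 (A θ) (A α₁) (A α₂) (C θ) (C α₁) (C α₂) (d θ) (d α₁) (d α₂) g
    hθs hα₁ hα₂ (hd θ) (hd α₁) (hd α₂) hg hC4A hAC (by linarith)
    (by rw [← hS1]; push_cast; ring) (by rw [← hS2]; push_cast; ring)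
    (by rw [← hS3]; push_cast; ring)
  obtain ⟨-, dβ₁, dβ₂⟩ := hK3 (A θ) (B β₁) (B β₂) (C θ) (C β₁) (C β₂) (d θ) (d β₁) (d β₂) g
    hθs hβ₁ hβ₂ (hd θ) (hd β₁) (hd β₂) hg hC4B hBC (by linarith)
    (by rw [← hT1]; push_cast; ring) (by rw [← hT2]; push_cast; ring)
    (by rw [← hT3]; push_cast; ring)
  -- the final inequality
  have hsix := sum_six_le (f := fun i => d i ^ 2) [o, θ, α₁, α₂, β₁, β₂] (by
    simp only [List.nodup_cons, List.mem_cons, List.not_mem_nil, or_false, not_or,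
      List.nodup_nil, and_true, not_false_eq_true]
    exact ⟨⟨oθ, oα₁, oα₂, oβ₁, oβ₂⟩, ⟨h1, h2, h3, h4⟩, ⟨h5, h6, h7⟩, ⟨h8, h9⟩, h10⟩)
  rw [hdd] at hsix
  simp only [List.map_cons, List.map_nil, List.sum_cons, List.sum_nil, add_zero] at hsix
  have ho1 : 1 ≤ d o := hd o
  have ho2 : 1 ≤ d o ^ 2 := Nat.one_le_pow _ _ ho1
  set k := d α₁ with hk
  have e2 : d α₂ = k := by omega
  have e3 : d β₁ = k := by omega
  have e4 : d β₂ = k := by omega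
  have e5 : d θ = 2 * k := by omega
  rw [e2, e3, e4, e5] at hsix
  have hk2 : k ≤ 2 := by
    by_contra hcon
    push_neg at hcon
    have : 3 * k ≤ k ^ 2 := by nlinarith
    nlinarith
  omega

end core2

end Cfsg.Agent.Helper3.S3S3
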