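import Mathlib
import Cfsg.Statements.S3805
import Cfsg.Agent.Helper3.S3S3Defs
import Cfsg.Agent.Helper3.S3S3Core
import Cfsg.Agent.Helper79.ClassMult
import Cfsg.Agent.Helper79.Linear
import Cfsg.Agent.Helper60.S3S3K2
import Cfsg.Agent.Helper69.S3S3K0
import Cfsg.Agent.Helper79.S3S3CH1
import Cfsg.Agent.Helper91.S3S3CH2a
import Cfsg.Agent.Helper91.S3S3CH2b
import Cfsg.Agent.Helper68.S3S3G1a
import Cfsg.Agent.Helper55.S3S3G1b
import Cfsg.Agent.Helper89.S3S3G2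
import Cfsg.Agent.Helper65.S3S3G3bFinal
import Cfsg.Agent.Helper62.S3S3G5a
import Cfsg.Agent.Helper61.S3S3G5c
import Cfsg.Agent.Helper67.S3S3G5e
import Cfsg.Agent.Helper87.S3S3K3

/-!
# S3805 (helper3): assembly

Pieces: (G1a) helper68, (G1b) helper55, (G2) helper89, (G3a) helper60, (G3b) helper65,
(G5a) helper62, (G5c) helper61, (G5d) helper48, (G5e) helper67, (K1) helper38, (K2) helper60,
(K3) helper87, (K0) helper69, (CH1) helper79, (CH2a), (CH2b) helper91; (G4), (K4), glue helper3.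
-/

set_option autoImplicit false
open Cfsg Finset
open scoped ComplexConjugate

namespace Cfsg.Agent.Helper3.S3S3

universe u

section grp
variable {G : Type u} [Group G]

/-- (G4) pairs of conjugates of non-conjugate `x₁, x₂ ∈ T` with product in `T \ 1` come from `N`. -/
theorem local_pair [Finite G] (T : Sylow 3 G)
    (hcomm : ∀ s ∈ (T : Subgroup G), ∀ t ∈ (T : Subgroup G), s * t = t * s)
    (hexp : ∀ t ∈ (T : Subgroup G), t ^ 3 = 1)
    (hloc : ∀ t ∈ (T : Subgroup G), t ≠ 1 →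
      Subgroup.centralizer ({t} : Set G) ≤ Subgroup.normalizer ((T : Subgroup G) : Set G))
    (x₁ x₂ x₃ : G) (h1 : x₁ ∈ (T : Subgroup G)) (h2 : x₂ ∈ (T : Subgroup G))
    (h3 : x₃ ∈ (T : Subgroup G)) (h11 : x₁ ≠ 1) (h21 : x₂ ≠ 1) (h31 : x₃ ≠ 1)
    (hnc : ¬ IsConj x₁ x₂) (g h : G) (hgh : g * x₁ * g⁻¹ * (h * x₂ * h⁻¹) = x₃) :
    g ∈ Subgroup.normalizer ((T : Subgroup G) : Set G) ∧
      h ∈ Subgroup.normalizer ((T : Subgroup G) : Set G) := by
  have hTI := Cfsg.Agent.Helper89.S3S3.mem_normalizer_of_conj_mem T hcomm hloc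
  have hu3 : (g * x₁ * g⁻¹) ^ 3 = 1 := by rw [conj_pow, hexp x₁ h1]; group
  have hv3 : (h * x₂ * h⁻¹) ^ 3 = 1 := by rw [conj_pow, hexp x₂ h2]; group
  have hu1 : g * x₁ * g⁻¹ ≠ 1 := by
    intro hc; apply h11
    have : x₁ = g⁻¹ * (g * x₁ * g⁻¹) * g := by group
    rw [this, hc]; group
  have hv1 : h * x₂ * h⁻¹ ≠ 1 := by
    intro hc; apply h21
    have : x₂ = h⁻¹ * (h * x₂ * h⁻¹) * h := by group
    rw [this, hc]; group
  have huv3 : (g * x₁ * g⁻¹ * (h * x₂ * h⁻¹)) ^ 3 = 1 := by rw [hgh]; exact hexp x₃ h3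
  have hncuv : ¬ IsConj (g * x₁ * g⁻¹) (h * x₂ * h⁻¹) := by
    intro hc
    apply hnc
    have e1 : IsConj x₁ (g * x₁ * g⁻¹) := isConj_iff.mpr ⟨g, rfl⟩
    have e2 : IsConj x₂ (h * x₂ * h⁻¹) := isConj_iff.mpr ⟨h, rfl⟩
    exact (e1.trans hc).trans e2.symm
  obtain ⟨k, hku, hkv⟩ := Cfsg.Agent.Helper65.S3S3.lc T hcomm hloc _ _ hu3 hv3 hu1 hv1 huv3 hncuv
  have hk3 : k * x₃ * k⁻¹ ∈ (T : Subgroup G) := by
    have : k * x₃ * k⁻¹ = k * (g * x₁ * g⁻¹) * k⁻¹ * (k * (h * x₂ * h⁻¹) * k⁻¹) := by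
      rw [← hgh]; group
    rw [this]; exact (T : Subgroup G).mul_mem hku hkv
  have hkN := hTI k x₃ h3 h31 hk3
  have hkinvN : k⁻¹ ∈ Subgroup.normalizer ((T : Subgroup G) : Set G) := Subgroup.inv_mem _ hkN
  constructor
  · have hkg : k * g ∈ Subgroup.normalizer ((T : Subgroup G) : Set G) := by
      apply hTI (k * g) x₁ h1 h11
      have : k * g * x₁ * (k * g)⁻¹ = k * (g * x₁ * g⁻¹) * k⁻¹ := by group
      rw [this]; exact hku
    have : g = k⁻¹ * (k * g) := by group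
    rw [this]; exact Subgroup.mul_mem _ hkinvN hkg
  · have hkh : k * h ∈ Subgroup.normalizer ((T : Subgroup G) : Set G) := by
      apply hTI (k * h) x₂ h2 h21
      have : k * h * x₂ * (k * h)⁻¹ = k * (h * x₂ * h⁻¹) * k⁻¹ := by group
      rw [this]; exact hkv
    have : h = k⁻¹ * (k * h) := by group
    rw [this]; exact Subgroup.mul_mem _ hkinvN hkh

end grp

section chr
variable {G : Type u} [Group G] [Fintype G]

/-- (CH2) the character-theoretic core. -/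
theorem card_eq_36_of_loc (hK3 : LocalArithStmt) [DecidableEq G] (x y : G) (h : Loc x y)
    (h36 : 36 ≤ Nat.card G) : Nat.card G = 36 := by
  classical
  have : Finite (IrrCharacter G) := Cfsg.Agent.Helper79.irr_finite
  let _ : Fintype (IrrCharacter G) := Fintype.ofFinite _
  have hx := fun χ : IrrCharacter G => Cfsg.Agent.Helper79.S3S3.irr_order_three_value χ x h.x3 h.xi
  have hy := fun χ : IrrCharacter G => Cfsg.Agent.Helper79.S3S3.irr_order_three_value χ y h.y3 h.yi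
  have hz3 : (x * y) ^ 3 = 1 := by
    rw [(show Commute x y from h.comm).mul_pow, h.x3, h.y3, one_mul]
  have hz := fun χ : IrrCharacter G =>
    Cfsg.Agent.Helper79.S3S3.irr_order_three_value χ (x * y) hz3 h.zi
  choose mx hmx using hx
  choose my hmy using hy
  choose mz hmz using hz
  set d : IrrCharacter G → ℕ := fun χ => charDegree (χ : G → ℂ) with hddef
  have hd1 : ∀ χ : IrrCharacter G, (χ : G → ℂ) 1 = (d χ : ℂ) :=
    fun χ => Cfsg.Agent.Helper79.irr_one χ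
  let X : IrrCharacter G → ℤ := fun χ => (d χ : ℤ) - 3 * (mx χ : ℤ)
  let Y : IrrCharacter G → ℤ := fun χ => (d χ : ℤ) - 3 * (my χ : ℤ)
  let Z : IrrCharacter G → ℤ := fun χ => (d χ : ℤ) - 3 * (mz χ : ℤ)
  have hX : ∀ χ : IrrCharacter G, (χ : G → ℂ) x = (X χ : ℂ) := by
    intro χ; rw [hmx χ, hd1 χ]; simp only [X]; push_cast; ring
  have hY : ∀ χ : IrrCharacter G, (χ : G → ℂ) y = (Y χ : ℂ) := by
    intro χ; rw [hmy χ, hd1 χ]; simp only [Y]; push_cast; ring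
  have hZ : ∀ χ : IrrCharacter G, (χ : G → ℂ) (x * y) = (Z χ : ℂ) := by
    intro χ; rw [hmz χ, hd1 χ]; simp only [Z]; push_cast; ring
  obtain ⟨g1, g2, g3, g4, g5, g6, g7, g8, g9⟩ :=
    Cfsg.Agent.Helper91.S3S3.gram_of_loc x y h X Y Z hX hY hZ
  obtain ⟨s1, s2, s3, s5, s6, s7, s8⟩ :=
    Cfsg.Agent.Helper91.S3S3.struct_of_loc x y h X Y Z hX hY hZ
  have one_val : ∀ g : G,
      ((Cfsg.Agent.Helper79.principalIrr G : IrrCharacter G) : G → ℂ) g = 1 := fun g => rfl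
  have hXo : X (Cfsg.Agent.Helper79.principalIrr G) = 1 := by
    have := hX (Cfsg.Agent.Helper79.principalIrr G); rw [one_val] at this; exact_mod_cast this.symm
  have hYo : Y (Cfsg.Agent.Helper79.principalIrr G) = 1 := by
    have := hY (Cfsg.Agent.Helper79.principalIrr G); rw [one_val] at this; exact_mod_cast this.symm
  have hZo : Z (Cfsg.Agent.Helper79.principalIrr G) = 1 := by
    have := hZ (Cfsg.Agent.Helper79.principalIrr G); rw [one_val] at this; exact_mod_cast this.symm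
  have hABC : Cfsg.Agent.Helper69.S3S3K0.CoreABC (IrrCharacter G) := by
    intro o d A B C g
    exact core_ABC_of (fun d A B => Cfsg.Agent.Helper60.S3S3.shape_AB d A B) hK3 o d A B C g
  exact Cfsg.Agent.Helper69.S3S3K0.core_XYZ' hABC (Cfsg.Agent.Helper79.principalIrr G) d X Y Z
    (Nat.card G)
    (fun χ => Cfsg.Agent.Helper79.irr_charDegree_pos χ) hXo hYo hZo
    (fun χ => ⟨mx χ, by simp only [X]; ring⟩) (fun χ => ⟨my χ, by simp only [Y]; ring⟩)
    (fun χ => ⟨mz χ, by simp only [Z]; ring⟩)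
    g1 g2 g3 g4 g5 g6 g7 g8 g9 Cfsg.Agent.Helper79.sum_charDegree_sq h36 s1 s2 s3 s5 s6 s7 s8

end chr

/-! ## Assembly -/

theorem main_of (hK3 : LocalArithStmt) {G : Type u} [Group G] [Finite G]
    (T : Sylow 3 G) (hT : Cfsg.IsElementaryAbelian 3 (T : Subgroup G)) (hcard : Nat.card T = 9)
    (hC : Subgroup.centralizer ((T : Subgroup G) : Set G) = T)
    [hn : ((T : Subgroup G).subgroupOf (Subgroup.normalizer ((T : Subgroup G) : Set G))).Normal]
    (hK : IsKleinFour (↥(Subgroup.normalizer ((T : Subgroup G) : Set G)) ⧸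
      (T : Subgroup G).subgroupOf (Subgroup.normalizer ((T : Subgroup G) : Set G))))
    (hloc : ∀ t ∈ (T : Subgroup G), t ≠ 1 →
      Subgroup.centralizer ({t} : Set G) ≤ Subgroup.normalizer ((T : Subgroup G) : Set G)) :
    Subgroup.normalizer ((T : Subgroup G) : Set G) = ⊤ := by
  classical
  let _ : Fintype G := Fintype.ofFinite G
  obtain ⟨hTc, hexp⟩ := hT
  have hcomm : ∀ s ∈ (T : Subgroup G), ∀ t ∈ (T : Subgroup G), s * t = t * s := by
    intro s hs t ht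
    have := hTc.is_comm.comm ⟨s, hs⟩ ⟨t, ht⟩
    exact congrArg Subtype.val this
  obtain ⟨a₀, b₀, ha, hb, haT, hbT, habT, ha2, hb2, hcm, hN, hcN4⟩ :=
    Cfsg.Agent.Helper68.S3S3.exists_klein_reps (T : Subgroup G) hK
  have hcN : Nat.card (Subgroup.normalizer ((T : Subgroup G) : Set G)) = 36 := by
    rw [hcN4, hcard]
  obtain ⟨x, y, a, b, hd⟩ := Cfsg.Agent.Helper55.S3S3G1b.exists_ndata_of_reps (T : Subgroup G)
    hcomm hexp hcard hC a₀ b₀ ha hb haT hbT habT ha2 hb2 hcm hN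
  have hTI := Cfsg.Agent.Helper89.S3S3.mem_normalizer_of_conj_mem T hcomm hloc
  obtain ⟨hcx, hcy, hcz⟩ :=
    Cfsg.Agent.Helper62.S3S3G5a.card_centralizers (T : Subgroup G) x y a b hd hcard hcN hloc
  obtain ⟨hz1, hxi, hyi, hzi, hnxy, hnxz, hnyz⟩ :=
    Cfsg.Agent.Helper61.S3S3.fusion_facts (T : Subgroup G) x y a b hd hTI
  obtain ⟨e1, e2, e3, e5, e6, e7, e8⟩ := Cfsg.Agent.Helper67.S3S3.pair_counts (T : Subgroup G)
    x y a b hd
    (fun x₁ x₂ x₃ h1 h2 h3 h11 h21 h31 hnc g h hgh =>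
      local_pair T hcomm hexp hloc x₁ x₂ x₃ h1 h2 h3 h11 h21 h31 hnc g h hgh)
    hnxy hnxz hnyz hcx hcy hcz
  have hL : Loc x y :=
    { x3 := hd.x3, y3 := hd.y3, comm := hd.comm, x1 := hd.x1, y1 := hd.y1, z1 := hz1
      xi := hxi, yi := hyi, zi := hzi, nxy := hnxy, nxz := hnxz, nyz := hnyz
      cx := hcx, cy := hcy, cz := hcz
      e1 := e1, e2 := e2, e3 := e3, e5 := e5, e6 := e6, e7 := e7, e8 := e8 }
  have h36 : 36 ≤ Nat.card G := by
    rw [← hcN]
    exact Nat.le_of_dvd Nat.card_pos (Subgroup.card_subgroup_dvd_card _)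
  have hG := card_eq_36_of_loc hK3 x y hL h36
  apply Subgroup.eq_top_of_card_eq
  rw [hcN, hG]

/-- (K3) instantiated. -/
theorem localArithStmt : LocalArithStmt :=
  fun e₀ a₁ a₂ c₀ c₁ c₂ D d₁ d₂ g he h1 h2 hD hd1 hd2 hg hC4 hAC hdA hq1 hq2 hq3 =>
    Cfsg.Agent.Helper87.S3S3.local_arith e₀ a₁ a₂ c₀ c₁ c₂ D d₁ d₂ g he h1 h2 hD hd1 hd2 hg
      hC4 hAC hdA hq1 hq2 hq3

end Cfsg.Agent.Helper3.S3S3
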