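import Mathlib
import Cfsg.Agent.Helper48.CoprimeGen
import Cfsg.Agent.Helper75.ShultNilA

/-!
# Ward's theorem, piece (W6): the final assembly / orbit lemma

`fin_assembly` is the abstract orbit argument closing the tower lemma of helper21's proof of
Ward's theorem (S3796).
-/

set_option autoImplicit false

namespace Cfsg.Agent.Helper3.WardFin

open Subgroup
open Cfsg.Agent
open scoped commutatorElement

variable {H : Type*} [Group H]

/-! ### conjugate subgroups -/

theorem mem_cj {g x : H} {X : Subgroup H} :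
    x ∈ X.map (MulAut.conj g).toMonoidHom ↔ g⁻¹ * x * g ∈ X := by
  rw [Subgroup.mem_map_equiv, MulAut.conj_symm_apply]

theorem mem_cent_cj {g c : H} {X : Subgroup H} :
    c ∈ centralizer ((X.map (MulAut.conj g).toMonoidHom : Subgroup H) : Set H) ↔
      g⁻¹ * c * g ∈ centralizer (X : Set H) := by
  simp only [mem_centralizer_iff, SetLike.mem_coe]
  constructor
  · intro h w hw
    have h1 : g * w * g⁻¹ ∈ X.map (MulAut.conj g).toMonoidHom := by
      rw [mem_cj]; simpa [mul_assoc] using hw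
    have h2 := h _ h1
    calc w * (g⁻¹ * c * g) = g⁻¹ * (g * w * g⁻¹ * c) * g := by group
      _ = g⁻¹ * (c * (g * w * g⁻¹)) * g := by rw [h2]
      _ = g⁻¹ * c * g * w := by group
  · intro h w hw
    rw [mem_cj] at hw
    have h2 := h _ hw
    calc w * c = g * (g⁻¹ * w * g * (g⁻¹ * c * g)) * g⁻¹ := by group
      _ = g * (g⁻¹ * c * g * (g⁻¹ * w * g)) * g⁻¹ := by rw [h2]
      _ = c * w := by group

theorem mem_norm_cj {g n : H} {X : Subgroup H} :
    n ∈ normalizer ((X.map (MulAut.conj g).toMonoidHom : Subgroup H) : Set H) ↔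
      g⁻¹ * n * g ∈ normalizer (X : Set H) := by
  rw [← Subgroup.map_equiv_normalizer_eq, Subgroup.mem_map_equiv, MulAut.conj_symm_apply]

theorem cj_eq_self {g : H} {X : Subgroup H} (hg : g ∈ normalizer (X : Set H)) :
    X.map (MulAut.conj g).toMonoidHom = X := by
  ext x
  rw [mem_cj]
  have := (mem_normalizer_iff''.mp hg x)
  exact this.symm

theorem conj_mem_cent_of_mem_norm {X : Subgroup H} {n c : H} (hn : n ∈ normalizer (X : Set H))
    (hc : c ∈ centralizer (X : Set H)) : n * c * n⁻¹ ∈ centralizer (X : Set H) := by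
  rw [mem_centralizer_iff] at hc ⊢
  intro w hw
  have hw' : n⁻¹ * w * n ∈ X := (mem_normalizer_iff''.mp hn w).mp hw
  have h2 := hc _ hw'
  calc w * (n * c * n⁻¹) = n * (n⁻¹ * w * n * c) * n⁻¹ := by group
    _ = n * (c * (n⁻¹ * w * n)) * n⁻¹ := by rw [h2]
    _ = n * c * n⁻¹ * w := by group

theorem conj_mem_cent_iff_of_mem_norm {X : Subgroup H} {n c : H} (hn : n ∈ normalizer (X : Set H)) :
    c ∈ centralizer (X : Set H) ↔ n * c * n⁻¹ ∈ centralizer (X : Set H) := by
  constructor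
  · exact conj_mem_cent_of_mem_norm hn
  · intro h
    have := conj_mem_cent_of_mem_norm (inv_mem hn) h
    have e : n⁻¹ * (n * c * n⁻¹) * n⁻¹⁻¹ = c := by group
    rwa [e] at this

theorem cent_singleton_le_of_mem_zpowers {x y : H} (h : y ∈ zpowers x) :
    centralizer ({x} : Set H) ≤ centralizer {y} := by
  intro c hc
  rw [mem_centralizer_singleton_iff] at hc ⊢
  obtain ⟨k, rfl⟩ := mem_zpowers_iff.mp h
  exact (Commute.zpow_right (show Commute c x from hc) k).eq

/-! ### elementary abelian groups of order `p ^ 2` -/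

section EA2

variable [Finite H] {p : ℕ} [Fact p.Prime] {A : Subgroup H}

theorem orderOf_eq_of_mem (hA : Helper48.IsEA2 p A) {x : H} (hx : x ∈ A) (hx1 : x ≠ 1) :
    orderOf x = p := by
  have hp : p.Prime := Fact.out
  have := orderOf_dvd_of_pow_eq_one (hA.2.1 x hx)
  rcases (Nat.dvd_prime hp).mp this with h | h
  · exact absurd (orderOf_eq_one_iff.mp h) hx1
  · exact h

theorem zpowers_symm (hA : Helper48.IsEA2 p A) {x y : H} (hx : x ∈ A) (hy1 : y ≠ 1)
    (hyx : y ∈ zpowers x) : x ∈ zpowers y := by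
  have hx1 : x ≠ 1 := by
    rintro rfl
    rw [zpowers_one_eq_bot, mem_bot] at hyx
    exact hy1 hyx
  have hle : zpowers y ≤ zpowers x := by rwa [zpowers_le]
  have hyA : y ∈ A := (zpowers_le.mpr hx) hyx
  have hcard : Nat.card (zpowers x) ≤ Nat.card (zpowers y) := by
    rw [Nat.card_zpowers, Nat.card_zpowers, orderOf_eq_of_mem hA hx hx1, orderOf_eq_of_mem hA hyA hy1]
  have := Subgroup.eq_of_le_of_card_ge hle hcard
  rw [this]
  exact mem_zpowers x

theorem le_sup_zpowers (hA : Helper48.IsEA2 p A) {x x' : H} (hx : x ∈ A) (hx' : x' ∈ A)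
    (hx1 : x ≠ 1) (hn : x' ∉ zpowers x) : A ≤ zpowers x ⊔ zpowers x' := by
  have hp : p.Prime := Fact.out
  set B : Subgroup H := zpowers x ⊔ zpowers x' with hB
  have hBA : B ≤ A := sup_le (zpowers_le.mpr hx) (zpowers_le.mpr hx')
  have hxB : zpowers x ≤ B := le_sup_left
  have h1 : Nat.card B ∣ p ^ 2 := by
    rw [← hA.2.2]; exact Subgroup.card_dvd_of_le hBA
  have h2 : p ∣ Nat.card B := by
    have := Subgroup.card_dvd_of_le hxB
    rwa [Nat.card_zpowers, orderOf_eq_of_mem hA hx hx1] at this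
  obtain ⟨k, hk, hkB⟩ := (Nat.dvd_prime_pow hp).mp h1
  have hk1 : k ≠ 1 := by
    rintro rfl
    rw [pow_one] at hkB
    have hcard : Nat.card B ≤ Nat.card (zpowers x) := by
      rw [Nat.card_zpowers, orderOf_eq_of_mem hA hx hx1, hkB]
    have := Subgroup.eq_of_le_of_card_ge hxB hcard
    apply hn
    rw [this]
    exact (le_sup_right : zpowers x' ≤ B) (mem_zpowers x')
  have hk0 : k ≠ 0 := by
    rintro rfl
    rw [pow_zero] at hkB
    rw [hkB] at h2
    exact hp.one_lt.ne' (Nat.dvd_one.mp h2)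
  have hk2 : k = 2 := by omega
  have hcard : Nat.card A ≤ Nat.card B := by rw [hA.2.2, hkB, hk2]
  exact (Subgroup.eq_of_le_of_card_ge hBA hcard).ge

end EA2

/-! ### auxiliary subgroups -/

/-- elements of `S` fixed modulo `N` by every element of `B` -/
def fixMod (S N : Subgroup H) (hSN : S ≤ normalizer (N : Set H)) (B : Set H) : Subgroup H where
  carrier := {s | s ∈ S ∧ ∀ b ∈ B, b * s * b⁻¹ * s⁻¹ ∈ N}
  one_mem' := ⟨S.one_mem, fun b _ => by simp⟩
  mul_mem' := by
    rintro s t ⟨hs, hs'⟩ ⟨ht, ht'⟩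
    refine ⟨S.mul_mem hs ht, fun b hb => ?_⟩
    have h1 := hs' b hb
    have h2 : s * (b * t * b⁻¹ * t⁻¹) * s⁻¹ ∈ N := (mem_normalizer_iff.mp (hSN hs) _).mp (ht' b hb)
    have e : b * (s * t) * b⁻¹ * (s * t)⁻¹ = (b * s * b⁻¹ * s⁻¹) * (s * (b * t * b⁻¹ * t⁻¹) * s⁻¹) := by
      group
    rw [e]
    exact N.mul_mem h1 h2
  inv_mem' := by
    rintro s ⟨hs, hs'⟩
    refine ⟨S.inv_mem hs, fun b hb => ?_⟩
    have h1 := N.inv_mem (hs' b hb)
    have h2 : s⁻¹ * (b * s * b⁻¹ * s⁻¹)⁻¹ * s⁻¹⁻¹ ∈ N :=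
      (mem_normalizer_iff.mp (hSN (S.inv_mem hs)) _).mp h1
    have e : b * s⁻¹ * b⁻¹ * s⁻¹⁻¹ = s⁻¹ * (b * s * b⁻¹ * s⁻¹)⁻¹ * s⁻¹⁻¹ := by group
    rw [e]
    exact h2

theorem mem_fixMod {S N : Subgroup H} {hSN : S ≤ normalizer (N : Set H)} {B : Set H} {s : H} :
    s ∈ fixMod S N hSN B ↔ s ∈ S ∧ ∀ b ∈ B, b * s * b⁻¹ * s⁻¹ ∈ N := Iff.rfl

/-- elements normalizing `S` and `N` and acting trivially on `S` modulo `N` -/
def actKer (S N : Subgroup H) : Subgroup H where
  carrier := {h | h ∈ normalizer (S : Set H) ∧ h ∈ normalizer (N : Set H) ∧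
    ∀ s ∈ S, h * s * h⁻¹ * s⁻¹ ∈ N}
  one_mem' := ⟨one_mem _, one_mem _, fun s _ => by simp⟩
  mul_mem' := by
    rintro h k ⟨hS, hN, hh⟩ ⟨kS, kN, hk⟩
    refine ⟨mul_mem hS kS, mul_mem hN kN, fun s hs => ?_⟩
    have h1 : h * (k * s * k⁻¹ * s⁻¹) * h⁻¹ ∈ N := (mem_normalizer_iff.mp hN _).mp (hk s hs)
    have h2 := hh s hs
    have e : h * k * s * (h * k)⁻¹ * s⁻¹ = (h * (k * s * k⁻¹ * s⁻¹) * h⁻¹) * (h * s * h⁻¹ * s⁻¹) := by
      group
    rw [e]
    exact N.mul_mem h1 h2
  inv_mem' := by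
    rintro h ⟨hS, hN, hh⟩
    refine ⟨inv_mem hS, inv_mem hN, fun s hs => ?_⟩
    have hs' : h⁻¹ * s * h ∈ S := (mem_normalizer_iff''.mp hS s).mp hs
    have h1 := N.inv_mem (hh _ hs')
    have e : h⁻¹ * s * h⁻¹⁻¹ * s⁻¹ = (h * (h⁻¹ * s * h) * h⁻¹ * (h⁻¹ * s * h)⁻¹)⁻¹ := by group
    rw [e]
    exact h1

theorem mem_actKer {S N : Subgroup H} {h : H} :
    h ∈ actKer S N ↔ h ∈ normalizer (S : Set H) ∧ h ∈ normalizer (N : Set H) ∧
      ∀ s ∈ S, h * s * h⁻¹ * s⁻¹ ∈ N := Iff.rfl

theorem conj_mem_actKer {S N : Subgroup H} {g k : H} (hgS : g ∈ normalizer (S : Set H))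
    (hgN : g ∈ normalizer (N : Set H)) (hk : k ∈ actKer S N) : g * k * g⁻¹ ∈ actKer S N := by
  obtain ⟨kS, kN, hk'⟩ := hk
  refine ⟨mul_mem (mul_mem hgS kS) (inv_mem hgS), mul_mem (mul_mem hgN kN) (inv_mem hgN),
    fun s hs => ?_⟩
  have hs' : g⁻¹ * s * g ∈ S := (mem_normalizer_iff''.mp hgS s).mp hs
  have h1 := hk' _ hs'
  have h2 : g * (k * (g⁻¹ * s * g) * k⁻¹ * (g⁻¹ * s * g)⁻¹) * g⁻¹ ∈ N :=
    (mem_normalizer_iff.mp hgN _).mp h1
  have e : g * k * g⁻¹ * s * (g * k * g⁻¹)⁻¹ * s⁻¹ =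
      g * (k * (g⁻¹ * s * g) * k⁻¹ * (g⁻¹ * s * g)⁻¹) * g⁻¹ := by group
  rw [e]
  exact h2

/-- elements `b` of `A` such that some `b * r`, `r ∈ R`, lies in `M` -/
def liftSub (A R M : Subgroup H) (hAR : A ≤ normalizer (R : Set H)) : Subgroup H where
  carrier := {b | b ∈ A ∧ ∃ r ∈ R, b * r ∈ M}
  one_mem' := ⟨A.one_mem, 1, R.one_mem, by simp⟩
  mul_mem' := by
    rintro b c ⟨hb, r, hr, hbr⟩ ⟨hc, t, ht, hct⟩
    refine ⟨A.mul_mem hb hc, c⁻¹ * r * c * t, ?_, ?_⟩
    · have : c⁻¹ * r * c ∈ R := (mem_normalizer_iff''.mp (hAR hc) r).mp hr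
      exact R.mul_mem this ht
    · have e : b * c * (c⁻¹ * r * c * t) = (b * r) * (c * t) := by group
      rw [e]
      exact M.mul_mem hbr hct
  inv_mem' := by
    rintro b ⟨hb, r, hr, hbr⟩
    refine ⟨A.inv_mem hb, b * r⁻¹ * b⁻¹, ?_, ?_⟩
    · exact (mem_normalizer_iff.mp (hAR hb) _).mp (R.inv_mem hr)
    · have e : b⁻¹ * (b * r⁻¹ * b⁻¹) = (b * r)⁻¹ := by group
      rw [e]
      exact M.inv_mem hbr

theorem mem_liftSub {A R M : Subgroup H} {hAR : A ≤ normalizer (R : Set H)} {b : H} :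
    b ∈ liftSub A R M hAR ↔ b ∈ A ∧ ∃ r ∈ R, b * r ∈ M := Iff.rfl

/-! ### small steps -/

theorem mem_of_mul_mem [Finite H] {M : Subgroup H} {a r : H} {p : ℕ} (hcomm : a * r = r * a)
    (ha : orderOf a = p) (hr : (orderOf r).Coprime p) (h : a * r ∈ M) : a ∈ M := by
  have h1 : (a * r) ^ orderOf r = a ^ orderOf r := by
    rw [(show Commute a r from hcomm).mul_pow, pow_orderOf_eq_one, mul_one]
  have h2 : a ^ orderOf r ∈ M := by rw [← h1]; exact M.pow_mem h _
  obtain ⟨m, hm⟩ := exists_pow_eq_self_of_coprime (show (orderOf r).Coprime (orderOf a) by rw [ha]; exact hr)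
  rw [← hm]
  exact M.pow_mem h2 _

section main

variable [Finite H] {p : ℕ} [Fact p.Prime] {A S : Subgroup H}

/-- normal form of the key hypothesis -/
theorem normal_form (hA : Helper48.IsEA2 p A) (hAS : A ≤ normalizer (S : Set H))
    (hpS : ¬ p ∣ Nat.card S) {W : Subgroup H} (hSnc : ¬ S ≤ centralizer (W : Set H))
    (hkey : ∃ x0 ∈ A, x0 ≠ 1 ∧ x0 ∈ normalizer (W : Set H) ∧
      ∀ x ∈ A, x ∉ zpowers x0 → S ⊓ centralizer {x} ≤ centralizer (W : Set H)) :
    ∃ y ∈ A, y ≠ 1 ∧ y ∈ normalizer (W : Set H) ∧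
      ¬ (S ⊓ centralizer {y} ≤ centralizer (W : Set H)) ∧
      ∀ x ∈ A, x ∉ zpowers y → S ⊓ centralizer {x} ≤ centralizer (W : Set H) := by
  obtain ⟨x0, hx0A, hx01, hx0N, hx0⟩ := hkey
  have hgen := Helper48.le_cgen S A hpS hAS hA
  have hex : ∃ y ∈ A, y ≠ 1 ∧ ¬ (S ⊓ centralizer {y} ≤ centralizer (W : Set H)) := by
    by_contra hcon
    push_neg at hcon
    apply hSnc
    refine hgen.trans ?_
    unfold Helper48.cgen
    apply iSup_le
    rintro ⟨y, hyA, hy1⟩
    exact hcon y hyA hy1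
  obtain ⟨y, hyA, hy1, hyP⟩ := hex
  have hyx0 : y ∈ zpowers x0 := by
    by_contra h
    exact hyP (hx0 y hyA h)
  have hx0y : x0 ∈ zpowers y := zpowers_symm hA hx0A hy1 hyx0
  refine ⟨y, hyA, hy1, ?_, hyP, ?_⟩
  · exact (zpowers_le.mpr hx0N) hyx0
  · intro x hxA hx
    apply hx0 x hxA
    intro hx'
    exact hx ((zpowers_le.mpr hx0y) hx')

local notation:max "cj[" g "," X "]" => Subgroup.map (MulEquiv.toMonoidHom (MulAut.conj g)) X

/-- **(W6)** final assembly / orbit lemma of Ward's theorem. -/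
theorem fin_assembly (A S R : Subgroup H) (a : H)
    (hA : Helper48.IsEA2 p A) (ha : a ∈ A) (ha1 : a ≠ 1)
    (hAS : A ≤ normalizer (S : Set H)) (hAR : A ≤ normalizer (R : Set H))
    (hRS : R ≤ normalizer (S : Set H))
    (hpS : ¬ p ∣ Nat.card S) (hpR : ¬ p ∣ Nat.card R)
    (hC1 : R ≤ centralizer {a})
    (hC2 : ∀ x ∈ A, x ∉ zpowers a → R ⊓ centralizer {x} = ⊥)
    (hC3 : S ⊓ centralizer {a} ≤ centralizer (R : Set H))
    (𝒲 : Set (Subgroup H))
    (h𝒲R : ∀ W ∈ 𝒲, ∀ g ∈ R, W.map (MulAut.conj g).toMonoidHom ∈ 𝒲)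
    (hSW : ∀ W ∈ 𝒲, S ≤ normalizer (W : Set H))
    (hSnc : ∀ W ∈ 𝒲, ¬ S ≤ centralizer (W : Set H))
    (hkey : ∀ W ∈ 𝒲, ∃ x0 ∈ A, x0 ≠ 1 ∧ x0 ∈ normalizer (W : Set H) ∧
      ∀ x ∈ A, x ∉ zpowers x0 → S ⊓ centralizer {x} ≤ centralizer (W : Set H)) :
    ∀ W ∈ 𝒲, ⁅S, R⁆ ≤ centralizer (W : Set H) := by
  intro W hW
  have hcjW𝒲 : ∀ g ∈ R, cj[g, W] ∈ 𝒲 := fun g hg => h𝒲R W hW g hg
  -- P(W^g, a) ↔ P(W, a)
  have hPa : ∀ g ∈ R, (S ⊓ centralizer {a} ≤ centralizer (cj[g, W] : Set H)) ↔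
      (S ⊓ centralizer {a} ≤ centralizer (W : Set H)) := by
    intro g hg
    have hfix : ∀ s ∈ S ⊓ centralizer {a}, g⁻¹ * s * g = s := by
      intro s hs
      have := hC3 hs
      rw [mem_centralizer_iff] at this
      have h2 := this g hg
      calc g⁻¹ * s * g = g⁻¹ * (s * g) := by group
        _ = g⁻¹ * (g * s) := by rw [h2]
        _ = s := by group
    constructor
    · intro h s hs
      have := h hs
      rw [mem_cent_cj, hfix s hs] at this
      exact this
    · intro h s hs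
      rw [mem_cent_cj, hfix s hs]
      exact h hs
  -- the subgroup N
  set N : Subgroup H := S ⊓ ⨅ g : R, centralizer (cj[(g : H), W] : Set H) with hN
  have hmemN : ∀ x, x ∈ N ↔ x ∈ S ∧ ∀ g ∈ R, g⁻¹ * x * g ∈ centralizer (W : Set H) := by
    intro x
    rw [hN, mem_inf, mem_iInf]
    constructor
    · rintro ⟨h1, h2⟩
      exact ⟨h1, fun g hg => mem_cent_cj.mp (h2 ⟨g, hg⟩)⟩
    · rintro ⟨h1, h2⟩
      exact ⟨h1, fun g => mem_cent_cj.mpr (h2 g g.2)⟩
  have hNW : N ≤ centralizer (W : Set H) := by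
    intro x hx
    have := ((hmemN x).mp hx).2 1 R.one_mem
    simpa using this
  have hNS : N ≤ S := inf_le_left
  have hnormN : ∀ x, x ∈ normalizer (S : Set H) →
      (∀ g ∈ R, x ∈ normalizer (cj[g, W] : Set H)) → x ∈ normalizer (N : Set H) := by
    intro x hxS hxW
    rw [mem_normalizer_iff]
    intro h
    rw [hmemN, hmemN]
    have h1 := mem_normalizer_iff.mp hxS h
    have h2 : ∀ g ∈ R, (g⁻¹ * h * g ∈ centralizer (W : Set H) ↔
        g⁻¹ * (x * h * x⁻¹) * g ∈ centralizer (W : Set H)) := by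
      intro g hg
      rw [← mem_cent_cj, ← mem_cent_cj]
      exact conj_mem_cent_iff_of_mem_norm (hxW g hg)
    constructor
    · rintro ⟨h3, h4⟩
      exact ⟨h1.mp h3, fun g hg => (h2 g hg).mp (h4 g hg)⟩
    · rintro ⟨h3, h4⟩
      exact ⟨h1.mpr h3, fun g hg => (h2 g hg).mpr (h4 g hg)⟩
  have hSN : S ≤ normalizer (N : Set H) := by
    intro s hs
    exact hnormN s (le_normalizer hs) (fun g hg => hSW _ (hcjW𝒲 g hg) hs)
  have hRN : R ≤ normalizer (N : Set H) := by
    intro r hr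
    rw [mem_normalizer_iff]
    intro h
    rw [hmemN, hmemN]
    have h1 := mem_normalizer_iff.mp (hRS hr) h
    constructor
    · rintro ⟨h3, h4⟩
      refine ⟨h1.mp h3, fun g hg => ?_⟩
      have := h4 (r⁻¹ * g) (R.mul_mem (R.inv_mem hr) hg)
      have e : (r⁻¹ * g)⁻¹ * h * (r⁻¹ * g) = g⁻¹ * (r * h * r⁻¹) * g := by group
      rwa [e] at this
    · rintro ⟨h3, h4⟩
      refine ⟨h1.mpr h3, fun g hg => ?_⟩
      have := h4 (r * g) (R.mul_mem hr hg)
      have e : (r * g)⁻¹ * (r * h * r⁻¹) * (r * g) = g⁻¹ * h * g := by group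
      rwa [e] at this
  -- it suffices to show `R ≤ actKer S N`
  suffices hsuff : R ≤ actKer S N by
    refine le_trans ?_ hNW
    rw [Subgroup.commutator_le]
    intro s hs r hr
    have := (hsuff hr).2.2 s hs
    have e : ⁅s, r⁆ = (r * s * r⁻¹ * s⁻¹)⁻¹ := by rw [commutatorElement_def]; group
    rw [e]
    exact N.inv_mem this
  have hNfix : ∀ B : Set H, (∀ b ∈ B, b ∈ normalizer (N : Set H)) → N ≤ fixMod S N hSN B := by
    intro B hB n hn
    refine ⟨hNS hn, fun b hb => ?_⟩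
    exact N.mul_mem ((mem_normalizer_iff.mp (hB b hb) n).mp hn) (N.inv_mem hn)
  have hgen := Helper48.le_cgen S A hpS hAS hA
  by_cases hPWa : S ⊓ centralizer {a} ≤ centralizer (W : Set H)
  · -- CASE `P(W, a)`
    obtain ⟨y0, hy0A, hy01, hy0N, hy0P, hy0⟩ :=
      normal_form hA hAS hpS (hSnc W hW) (hkey W hW)
    have hay0 : a ∉ zpowers y0 := by
      intro h
      apply hy0P
      exact le_trans (inf_le_inf_left S (cent_singleton_le_of_mem_zpowers h)) hPWa
    have hy0a : y0 ∉ zpowers a := fun h => hay0 (zpowers_symm hA ha hy01 h)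
    have hR0 : R ⊓ centralizer {y0} = ⊥ := hC2 y0 hy0A hy0a
    have hclaim : ∀ g ∈ R, y0 ∈ normalizer (cj[g, W] : Set H) ∧
        ∀ x ∈ A, x ∉ zpowers y0 → S ⊓ centralizer {x} ≤ centralizer (cj[g, W] : Set H) := by
      intro g hg
      obtain ⟨y', hy'A, hy'1, hy'N, hy'P, hy'⟩ :=
        normal_form hA hAS hpS (hSnc _ (hcjW𝒲 g hg)) (hkey _ (hcjW𝒲 g hg))
      have hPga : S ⊓ centralizer {a} ≤ centralizer (cj[g, W] : Set H) := (hPa g hg).mpr hPWa
      have hay' : a ∉ zpowers y' := by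
        intro h
        apply hy'P
        exact le_trans (inf_le_inf_left S (cent_singleton_le_of_mem_zpowers h)) hPga
      have hy'y0 : y' ∈ zpowers y0 := by
        by_contra hcon
        have hAgen : A ≤ zpowers y0 ⊔ zpowers y' := le_sup_zpowers hA hy0A hy'A hy01 hcon
        by_cases haN : a ∈ normalizer (W : Set H)
        · -- (β)
          have hAW : A ≤ normalizer (W : Set H) := by
            refine (le_sup_zpowers hA hy0A ha hy01 hay0).trans ?_
            exact sup_le (zpowers_le.mpr hy0N) (zpowers_le.mpr haN)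
          have hagN : a ∈ normalizer (cj[g, W] : Set H) := by
            rw [mem_norm_cj]
            have hga : g⁻¹ * a * g = a := by
              have := hC1 hg
              rw [mem_centralizer_singleton_iff] at this
              calc g⁻¹ * a * g = g⁻¹ * (a * g) := by group
                _ = g⁻¹ * (g * a) := by rw [this]
                _ = a := by group
            rw [hga]; exact haN
          have hAWg : A ≤ normalizer (cj[g, W] : Set H) := by
            refine (le_sup_zpowers hA hy'A ha hy'1 hay').trans ?_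
            exact sup_le (zpowers_le.mpr hy'N) (zpowers_le.mpr hagN)
          set Φ : Subgroup H := R ⊓ normalizer (W : Set H) with hΦ
          have hΦp : ¬ p ∣ Nat.card Φ :=
            fun h => hpR (h.trans (Subgroup.card_dvd_of_le inf_le_left))
          have hAΦ : A ≤ normalizer (Φ : Set H) := by
            apply Helper48.mem_normalizer_of_forall_conj_mem
            intro b hb x hx
            rw [hΦ, mem_inf] at hx ⊢
            refine ⟨(mem_normalizer_iff.mp (hAR hb) x).mp hx.1, ?_⟩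
            exact mul_mem (mul_mem (hAW hb) hx.2) (inv_mem (hAW hb))
          have hcos : ∀ b ∈ A, g⁻¹ * (b * g * b⁻¹) ∈ Φ := by
            intro b hb
            rw [hΦ, mem_inf]
            constructor
            · exact R.mul_mem (R.inv_mem hg) ((mem_normalizer_iff.mp (hAR hb) g).mp hg)
            · have h1 : g⁻¹ * b * g ∈ normalizer (W : Set H) := mem_norm_cj.mp (hAWg hb)
              have h2 : b⁻¹ ∈ normalizer (W : Set H) := inv_mem (hAW hb)
              have e : g⁻¹ * (b * g * b⁻¹) = (g⁻¹ * b * g) * b⁻¹ := by group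
              rw [e]; exact mul_mem h1 h2
          obtain ⟨g', hg'Φ, hg'fix⟩ :=
            Helper75.ShultNil.exists_fixed_in_coset hA.isPGroup hΦp hAΦ g hcos
          rw [hΦ, mem_inf] at hg'Φ
          have hg'R : g' ∈ R := by
            have : g' = g * (g⁻¹ * g') := by group
            rw [this]; exact R.mul_mem hg hg'Φ.1
          have hg'C : g' ∈ centralizer {y0} := by
            rw [mem_centralizer_singleton_iff]
            have := hg'fix y0 hy0A
            calc g' * y0 = (y0 * g' * y0⁻¹) * y0 := by rw [this]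
              _ = y0 * g' := by group
          have hg'1 : g' = 1 := by
            have : g' ∈ R ⊓ centralizer {y0} := ⟨hg'R, hg'C⟩
            rw [hR0] at this
            exact mem_bot.mp this
          have hgNW : g ∈ normalizer (W : Set H) := by
            rw [hg'1, mul_one] at hg'Φ
            have := inv_mem hg'Φ.2
            simpa using this
          have hWg : cj[g, W] = W := cj_eq_self hgNW
          apply hy'P
          rw [hWg]
          exact hy0 y' hy'A hcon
        · -- (α)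
          exfalso
          apply haN
          have hy0L : y0 ∈ liftSub A R (normalizer (W : Set H)) hAR :=
            ⟨hy0A, 1, R.one_mem, by simpa using hy0N⟩
          have hy'L : y' ∈ liftSub A R (normalizer (W : Set H)) hAR := by
            refine ⟨hy'A, y'⁻¹ * g⁻¹ * y' * g, ?_, ?_⟩
            · have : y'⁻¹ * g⁻¹ * y' ∈ R :=
                (mem_normalizer_iff''.mp (hAR hy'A) g⁻¹).mp (R.inv_mem hg)
              exact R.mul_mem this hg
            · have e : y' * (y'⁻¹ * g⁻¹ * y' * g) = g⁻¹ * y' * g := by group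
              rw [e]
              exact mem_norm_cj.mp hy'N
          have haL : a ∈ liftSub A R (normalizer (W : Set H)) hAR :=
            (hAgen.trans (sup_le (zpowers_le.mpr hy0L) (zpowers_le.mpr hy'L))) ha
          obtain ⟨-, r, hr, har⟩ := haL
          have hcomm : a * r = r * a := by
            have := hC1 hr
            rw [mem_centralizer_singleton_iff] at this
            exact this.symm
          have hrcop : (orderOf r).Coprime p := Helper48.coprime_orderOf_of_not_dvd_card hpR hr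
          exact mem_of_mul_mem hcomm (orderOf_eq_of_mem hA ha ha1) hrcop har
      have hy0y' : y0 ∈ zpowers y' := zpowers_symm hA hy0A hy'1 hy'y0
      exact ⟨(zpowers_le.mpr hy'N) hy0y',
        fun x hxA hx => hy' x hxA (fun h => hx ((zpowers_le.mpr hy'y0) h))⟩
    have hy0NN : y0 ∈ normalizer (N : Set H) :=
      hnormN y0 (hAS hy0A) (fun g hg => (hclaim g hg).1)
    have hstep : S ≤ fixMod S N hSN ({y0} : Set H) := by
      refine hgen.trans ?_
      unfold Helper48.cgen
      apply iSup_le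
      rintro ⟨y, hyA, hy1⟩
      by_cases hyy0 : y ∈ zpowers y0
      · have hy0y : y0 ∈ zpowers y := zpowers_symm hA hy0A hy1 hyy0
        intro s hs
        have hs' : s ∈ centralizer {y0} := cent_singleton_le_of_mem_zpowers hy0y hs.2
        refine ⟨hs.1, fun b hb => ?_⟩
        rw [Set.mem_singleton_iff] at hb
        subst hb
        rw [mem_centralizer_singleton_iff] at hs'
        have e : b * s * b⁻¹ * s⁻¹ = 1 := by rw [← hs']; group
        rw [e]; exact N.one_mem
      · refine le_trans ?_ (hNfix ({y0} : Set H) (fun b hb => by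
          rw [Set.mem_singleton_iff] at hb; rw [hb]; exact hy0NN))
        intro s hs
        rw [hmemN]
        refine ⟨hs.1, fun g hg => ?_⟩
        rw [← mem_cent_cj]
        exact (hclaim g hg).2 y hyA hyy0 hs
    have hy0K : y0 ∈ actKer S N := ⟨hAS hy0A, hy0NN, fun s hs => (hstep hs).2 y0 rfl⟩
    let f : R → R := fun g => ⟨(g : H)⁻¹ * y0⁻¹ * g * y0, by
      have h1 : y0⁻¹ * (g : H) * y0 ∈ R := (mem_normalizer_iff''.mp (hAR hy0A) g).mp g.2
      have e : (g : H)⁻¹ * y0⁻¹ * g * y0 = (g : H)⁻¹ * (y0⁻¹ * g * y0) := by group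
      rw [e]; exact R.mul_mem (R.inv_mem g.2) h1⟩
    have hfinj : Function.Injective f := by
      intro g h hgh
      have h1 : (g : H)⁻¹ * y0⁻¹ * g * y0 = (h : H)⁻¹ * y0⁻¹ * h * y0 := congrArg Subtype.val hgh
      have h3 : (g : H)⁻¹ * y0⁻¹ * g = (h : H)⁻¹ * y0⁻¹ * h := mul_right_cancel h1
      have h4 : y0⁻¹ * ((h : H) * (g : H)⁻¹) = ((h : H) * (g : H)⁻¹) * y0⁻¹ := by
        calc y0⁻¹ * ((h : H) * (g : H)⁻¹) = h * ((h : H)⁻¹ * y0⁻¹ * h) * (g : H)⁻¹ := by group
          _ = h * ((g : H)⁻¹ * y0⁻¹ * g) * (g : H)⁻¹ := by rw [h3]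
          _ = (h : H) * (g : H)⁻¹ * y0⁻¹ := by group
      have h2 : (h : H) * (g : H)⁻¹ ∈ R ⊓ centralizer {y0} := by
        rw [mem_inf]
        refine ⟨R.mul_mem h.2 (R.inv_mem g.2), ?_⟩
        rw [mem_centralizer_singleton_iff]
        calc (h : H) * (g : H)⁻¹ * y0 = y0 * (y0⁻¹ * ((h : H) * (g : H)⁻¹)) * y0 := by group
          _ = y0 * (((h : H) * (g : H)⁻¹) * y0⁻¹) * y0 := by rw [h4]
          _ = y0 * ((h : H) * (g : H)⁻¹) := by group
      rw [hR0, mem_bot] at h2
      apply Subtype.ext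
      have : (h : H) = g := by
        calc (h : H) = ((h : H) * (g : H)⁻¹) * g := by group
          _ = g := by rw [h2, one_mul]
      exact this.symm
    have hfsurj : Function.Surjective f := Finite.injective_iff_surjective.mp hfinj
    intro r hr
    obtain ⟨g, hg⟩ := hfsurj ⟨r, hr⟩
    have hr' : r = (g : H)⁻¹ * y0⁻¹ * g * y0 := (congrArg Subtype.val hg).symm
    rw [hr']
    have hgS : (g : H)⁻¹ ∈ normalizer (S : Set H) := inv_mem (hRS g.2)
    have hgN : (g : H)⁻¹ ∈ normalizer (N : Set H) := inv_mem (hRN g.2)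
    have := conj_mem_actKer hgS hgN (inv_mem hy0K)
    rw [inv_inv] at this
    exact mul_mem this hy0K
  · -- CASE `¬ P(W, a)`
    have hstep : S ≤ fixMod S N hSN (R : Set H) := by
      refine hgen.trans ?_
      unfold Helper48.cgen
      apply iSup_le
      rintro ⟨y, hyA, hy1⟩
      by_cases hya : y ∈ zpowers a
      · have hay : a ∈ zpowers y := zpowers_symm hA ha hy1 hya
        intro s hs
        have hs' : s ∈ S ⊓ centralizer {a} :=
          ⟨hs.1, cent_singleton_le_of_mem_zpowers hay hs.2⟩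
        refine ⟨hs.1, fun b hb => ?_⟩
        have := hC3 hs'
        rw [mem_centralizer_iff] at this
        have h2 := this b hb
        have e : b * s * b⁻¹ * s⁻¹ = 1 := by rw [h2]; group
        rw [e]; exact N.one_mem
      · refine le_trans ?_ (hNfix (R : Set H) (fun b hb => hRN hb))
        intro s hs
        rw [hmemN]
        refine ⟨hs.1, fun g hg => ?_⟩
        rw [← mem_cent_cj]
        obtain ⟨x0', hx0'A, hx0'1, hx0'N, hx0'⟩ := hkey _ (hcjW𝒲 g hg)
        have hnPa : ¬ (S ⊓ centralizer {a} ≤ centralizer (cj[g, W] : Set H)) :=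
          fun h => hPWa ((hPa g hg).mp h)
        have hax0' : a ∈ zpowers x0' := by
          by_contra h
          exact hnPa (hx0' a ha h)
        have hx0'a : x0' ∈ zpowers a := zpowers_symm hA hx0'A ha1 hax0'
        have hy : y ∉ zpowers x0' := fun h => hya ((zpowers_le.mpr hx0'a) h)
        exact hx0' y hyA hy hs
    intro r hr
    exact ⟨hRS hr, hRN hr, fun s hs => (hstep hs).2 r hr⟩

end main

end Cfsg.Agent.Helper3.WardFin
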