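import Mathlib
import Cfsg.Agent.Helper29.BG10G
import Cfsg.Agent.Helper50.CL2
import Cfsg.Agent.Helper65.Nilpotent
import Cfsg.Agent.Lib.Hall
import Cfsg.Agent.S0043

/-!
# B-G Lemma 12.18 (statement S1425), modulo the Uniqueness Theorem and Theorem 10.8 (S1414)

Every nontrivial `σ(M)`-subgroup `Y` of a minimal simple group `G` of odd order has a conjugate
inside `M_σ`.  Proof (helper33, board #2905): let `X` be a minimal normal subgroup of `Y`
(an elementary abelian `q`-group), conjugated into `M_σ`; then `M_σ ∩ N_G(X)` is a Hall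
`σ(M)`-subgroup of the solvable group `N_G(X)`, and Hall's theorem applies.
-/

set_option autoImplicit false
set_option linter.unusedVariables false
set_option linter.unusedSectionVars false

namespace Cfsg.Agent.Helper3.BG1218

open Cfsg Cfsg.Agent.Helper29.BG10
open scoped Pointwise

variable {G : Type*} [Group G] [Finite G]

/-- two commuting elements of prime order `t`, the second outside the cyclic group of the first,
generate an elementary abelian group of order `t ^ 2` -/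
theorem elemAb_sq_of_two {t : ℕ} [ht : Fact t.Prime] {x z : G} (hx : orderOf x = t)
    (hz : orderOf z = t) (hc : x * z = z * x) (hzx : z ∉ Subgroup.zpowers x) :
    Cfsg.IsElementaryAbelian t (Subgroup.zpowers x ⊔ Subgroup.zpowers z) ∧
      Nat.card ↥(Subgroup.zpowers x ⊔ Subgroup.zpowers z) = t ^ 2 := by
  have hcxz : Commute x z := hc
  have comm : ∀ (m : Subgroup.zpowers x) (n : Subgroup.zpowers z),
      Commute ((Subgroup.zpowers x).subtype m) ((Subgroup.zpowers z).subtype n) := by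
    rintro ⟨m, hm⟩ ⟨n, hn⟩
    obtain ⟨i, rfl⟩ := Subgroup.mem_zpowers_iff.1 hm
    obtain ⟨j, rfl⟩ := Subgroup.mem_zpowers_iff.1 hn
    exact hcxz.zpow_zpow i j
  set φ := MonoidHom.noncommCoprod (Subgroup.zpowers x).subtype (Subgroup.zpowers z).subtype comm
    with hφ
  have hrange : φ.range = Subgroup.zpowers x ⊔ Subgroup.zpowers z := by
    rw [hφ, MonoidHom.noncommCoprod_range, Subgroup.range_subtype, Subgroup.range_subtype]
  have hcx : Nat.card (Subgroup.zpowers x) = t := by rw [Nat.card_zpowers, hx]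
  have hcz : Nat.card (Subgroup.zpowers z) = t := by rw [Nat.card_zpowers, hz]
  have hdisj : Disjoint (Subgroup.zpowers x) (Subgroup.zpowers z) := by
    rw [disjoint_iff]
    by_contra hne
    have hd : Nat.card ↥(Subgroup.zpowers x ⊓ Subgroup.zpowers z) ∣ t := by
      rw [← hcz]; exact Subgroup.card_dvd_of_le inf_le_right
    rcases (Nat.dvd_prime ht.out).1 hd with h1 | h1
    · exact hne (Subgroup.card_eq_one.1 h1)
    · have : Subgroup.zpowers x ⊓ Subgroup.zpowers z = Subgroup.zpowers z :=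
        Subgroup.eq_of_le_of_card_ge inf_le_right (by rw [h1, hcz])
      apply hzx
      have h2 : Subgroup.zpowers z ≤ Subgroup.zpowers x := by
        rw [← this]; exact inf_le_left
      exact h2 (Subgroup.mem_zpowers z)
  have hinj : Function.Injective φ := by
    rw [hφ, MonoidHom.noncommCoprod_injective]
    refine ⟨Subgroup.subtype_injective _, Subgroup.subtype_injective _, ?_⟩
    rw [Subgroup.range_subtype, Subgroup.range_subtype]
    exact hdisj
  have hxt : ∀ a ∈ Subgroup.zpowers x, a ^ t = 1 := by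
    intro a ha
    obtain ⟨i, rfl⟩ := Subgroup.mem_zpowers_iff.1 ha
    rw [← zpow_natCast, ← zpow_mul, mul_comm, zpow_mul, zpow_natCast, ← hx, pow_orderOf_eq_one,
      one_zpow]
  have hzt : ∀ a ∈ Subgroup.zpowers z, a ^ t = 1 := by
    intro a ha
    obtain ⟨i, rfl⟩ := Subgroup.mem_zpowers_iff.1 ha
    rw [← zpow_natCast, ← zpow_mul, mul_comm, zpow_mul, zpow_natCast, ← hz, pow_orderOf_eq_one,
      one_zpow]
  have hmem : ∀ a ∈ Subgroup.zpowers x ⊔ Subgroup.zpowers z,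
      ∃ h ∈ Subgroup.zpowers x, ∃ k ∈ Subgroup.zpowers z, a = h * k := by
    intro a ha
    rw [← hrange] at ha
    obtain ⟨⟨h, k⟩, rfl⟩ := ha
    exact ⟨h.1, h.2, k.1, k.2, by rw [hφ, MonoidHom.noncommCoprod_apply]; rfl⟩
  have hcomm2 : ∀ h ∈ Subgroup.zpowers x, ∀ k ∈ Subgroup.zpowers z, Commute h k := by
    intro h hh k hk
    exact comm ⟨h, hh⟩ ⟨k, hk⟩
  have hcommx : ∀ h ∈ Subgroup.zpowers x, ∀ k ∈ Subgroup.zpowers x, Commute h k := by
    intro h hh k hk
    obtain ⟨i, rfl⟩ := Subgroup.mem_zpowers_iff.1 hh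
    obtain ⟨j, rfl⟩ := Subgroup.mem_zpowers_iff.1 hk
    exact (Commute.refl x).zpow_zpow i j
  have hcommz : ∀ h ∈ Subgroup.zpowers z, ∀ k ∈ Subgroup.zpowers z, Commute h k := by
    intro h hh k hk
    obtain ⟨i, rfl⟩ := Subgroup.mem_zpowers_iff.1 hh
    obtain ⟨j, rfl⟩ := Subgroup.mem_zpowers_iff.1 hk
    exact (Commute.refl z).zpow_zpow i j
  refine ⟨⟨?_, ?_⟩, ?_⟩
  · rw [Cfsg.Agent.Helper23.isMulCommutative_subgroup_iff]
    intro a ha b hb
    obtain ⟨h1, hh1, k1, hk1, rfl⟩ := hmem a ha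
    obtain ⟨h2, hh2, k2, hk2, rfl⟩ := hmem b hb
    exact Commute.mul_left
      (Commute.mul_right (hcommx h1 hh1 h2 hh2) (hcomm2 h1 hh1 k2 hk2))
      (Commute.mul_right (hcomm2 h2 hh2 k1 hk1).symm (hcommz k1 hk1 k2 hk2))
  · intro a ha
    obtain ⟨h1, hh1, k1, hk1, rfl⟩ := hmem a ha
    rw [(hcomm2 h1 hh1 k1 hk1).mul_pow, hxt h1 hh1, hzt k1 hk1, one_mul]
  · rw [← hrange]
    have e : Nat.card ↥φ.range = Nat.card (↥(Subgroup.zpowers x) × ↥(Subgroup.zpowers z)) :=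
      (Nat.card_congr (Equiv.ofInjective φ hinj)).symm
    rw [e, Nat.card_prod, hcx, hcz, sq]

/-- a nontrivial `t`-subgroup has an element of order `t` commuting with the whole subgroup -/
theorem exists_central_order {t : ℕ} [ht : Fact t.Prime] {P : Subgroup G} (hP : IsPGroup t P)
    (hP1 : P ≠ ⊥) : ∃ z ∈ P, orderOf z = t ∧ ∀ y ∈ P, z * y = y * z := by
  haveI : Nontrivial ↥P := (Subgroup.nontrivial_iff_ne_bot P).2 hP1
  haveI : Nontrivial ↥(Subgroup.center ↥P) := hP.center_nontrivial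
  have hZp : IsPGroup t ↥(Subgroup.center ↥P) := hP.to_subgroup _
  obtain ⟨n, hn⟩ := IsPGroup.iff_card.1 hZp
  have hn0 : n ≠ 0 := by
    intro h
    rw [h, pow_zero] at hn
    have := (Nat.card_eq_one_iff_unique.1 hn).1
    exact not_subsingleton _ this
  have hdvd : t ∣ Nat.card ↥(Subgroup.center ↥P) := by
    rw [hn]; exact dvd_pow_self t hn0
  obtain ⟨z, hz⟩ := exists_prime_orderOf_dvd_card' t hdvd
  refine ⟨((z : ↥P) : G), (z : ↥P).2, ?_, ?_⟩
  · rw [Subgroup.orderOf_coe, Subgroup.orderOf_coe, hz]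
  · intro y hy
    have := Subgroup.mem_center_iff.1 z.2 ⟨y, hy⟩
    exact (congrArg Subtype.val this).symm

theorem card_lt_of_lt' {A B : Subgroup G} (h : A < B) : Nat.card A < Nat.card B := by
  rcases lt_or_eq_of_le (Subgroup.card_le_of_le h.le) with h1 | h1
  · exact h1
  · exact absurd (Subgroup.eq_of_le_of_card_ge h.le (le_of_eq h1.symm)) h.ne

/-- **the β-lemma**: for `t ∈ β(M)` the centralizer of an element of order `t` of `M` lies in
`M` -/
theorem beta_lemma (hG : Cfsg.IsMinSimpleOddOrder G) (hU : UniquenessThm G) {M : Subgroup G}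
    (hM : IsCoatom M) {t : ℕ} [ht : Fact t.Prime] (htβ : t ∈ Cfsg.beta M) {x : G} (hxM : x ∈ M)
    (hx : orderOf x = t) : Subgroup.centralizer (Subgroup.zpowers x : Set G) ≤ M := by
  have htσ : t ∈ Cfsg.sigma M := alpha_subset_sigma hG hU hM htβ.1
  have hctx := sigmaCtx_of hG hU hM htσ
  have hXp : IsPGroup t (Subgroup.zpowers x) := by
    apply IsPGroup.of_card (n := 1)
    rw [Nat.card_zpowers, hx, pow_one]
  have hXM : Subgroup.zpowers x ≤ M := by
    rw [Subgroup.zpowers_le]; exact hxM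
  have hx1 : x ≠ 1 := by
    intro h
    rw [h, orderOf_one] at hx
    exact ht.out.one_lt.ne hx
  have hX1 : Subgroup.zpowers x ≠ ⊥ := by
    intro h
    exact hx1 (Subgroup.zpowers_eq_bot.1 h)
  obtain ⟨P, hXP, hP⟩ := exists_isSylowIn_ge hXM hXp
  have hNP := hctx.sylNorm P hP
  have hPtop := isSylowIn_top_of_normalizer_le hP hNP
  have hrkP : ¬ Cfsg.PRankLE t 2 ↥P := fun h => htβ.1.2 (pRankLE_of_isSylowIn hP h)
  have hxP : x ∈ P := hXP (Subgroup.mem_zpowers x)
  have hE : ∃ E : Subgroup G, E ≤ P ∧ Cfsg.IsElementaryAbelian t E ∧ t ^ 2 < Nat.card E ∧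
      ∀ e ∈ E, e * x = x * e := by
    by_cases hxc : ∀ y ∈ P, x * y = y * x
    · obtain ⟨E, hEP, hEe, hEcard⟩ :=
        (Cfsg.Agent.Helper23.not_pRankLE_subgroup_iff t 2 P).1 hrkP
      exact ⟨E, hEP, hEe, hEcard, fun e he => (hxc e (hEP he)).symm⟩
    · have hP1 : P ≠ ⊥ := by
        intro h
        rw [h] at hxP
        exact hx1 (Subgroup.mem_bot.1 hxP)
      obtain ⟨z, hzP, hz, hzc⟩ := exists_central_order hP.2.1 hP1
      have hzx : z ∉ Subgroup.zpowers x := by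
        intro hzx
        apply hxc
        have h1 : Subgroup.zpowers z ≤ Subgroup.zpowers x := by
          rw [Subgroup.zpowers_le]; exact hzx
        have h2 : Subgroup.zpowers z = Subgroup.zpowers x :=
          Subgroup.eq_of_le_of_card_ge h1 (by rw [Nat.card_zpowers, Nat.card_zpowers, hx, hz])
        have h3 : x ∈ Subgroup.zpowers z := by
          rw [h2]; exact Subgroup.mem_zpowers x
        obtain ⟨i, hi⟩ := Subgroup.mem_zpowers_iff.1 h3
        intro y hy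
        rw [← hi]
        exact Commute.zpow_left (hzc y hy) i
      obtain ⟨hAe, hAcard⟩ := elemAb_sq_of_two hx hz (hzc x hxP).symm hzx
      have hidx : ¬ t ∣ P.index := by
        have := hPtop.2.2
        rwa [Subgroup.relIndex_top_right] at this
      have hSP : ((hP.2.1.toSylow hidx : Sylow t G) : Subgroup G) = P := IsPGroup.toSylow_coe _ _
      have hAP : Subgroup.zpowers x ⊔ Subgroup.zpowers z ≤
          ((hP.2.1.toSylow hidx : Sylow t G) : Subgroup G) := by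
        rw [hSP]
        exact sup_le hXP (by rw [Subgroup.zpowers_le]; exact hzP)
      obtain ⟨B, hBP, hBe, hAB⟩ := htβ.2.2.2 (hP.2.1.toSylow hidx) _ hAP hAe hAcard
      refine ⟨B, hSP ▸ hBP, hBe, ?_, ?_⟩
      · rw [← hAcard]
        exact card_lt_of_lt' hAB
      · intro e he
        have hxB : x ∈ B := hAB.le (Subgroup.mem_sup_left (Subgroup.mem_zpowers x))
        exact (Cfsg.Agent.Helper23.isMulCommutative_subgroup_iff B).1 hBe.1 e he x hxB
  obtain ⟨E, hEP, hEe, hEcard, hEx⟩ := hE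
  have hEp : IsPGroup t E := isPGroup_of_isElementaryAbelian hEe
  have hrkE : ¬ Cfsg.PRankLE t 2 ↥E := by
    rw [Cfsg.Agent.Helper23.not_pRankLE_subgroup_iff]
    exact ⟨E, le_rfl, hEe, hEcard⟩
  obtain ⟨M', ⟨hM'c, hEM'⟩, huniq⟩ := uniq_of_uniquenessThm hG hU E hEp hrkE
  obtain ⟨L, hLc, hCL⟩ := (eq_top_or_exists_le_coatom _).resolve_left (centralizer_ne_top hG hX1)
  have hEC : E ≤ Subgroup.centralizer (Subgroup.zpowers x : Set G) := by
    intro e he
    rw [Subgroup.mem_centralizer_iff]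
    intro a ha
    obtain ⟨i, rfl⟩ := Subgroup.mem_zpowers_iff.1 ha
    have hc : Commute e x := hEx e he
    exact (hc.zpow_right i).symm
  have e1 : L = M' := huniq L ⟨hLc, hEC.trans hCL⟩
  have e2 : M = M' := huniq M ⟨hM, hEP.trans hP.1⟩
  rw [e2, ← e1]
  exact hCL

/-- a `σ(M)`-subgroup of `M` lies in `M_σ` -/
theorem le_sigmaCore_of_le (hG : Cfsg.IsMinSimpleOddOrder G) (hU : UniquenessThm G)
    {M : Subgroup G} (hM : IsCoatom M) {Y : Subgroup G} (hYM : Y ≤ M)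
    (hY : ∀ p : ℕ, p.Prime → p ∣ Nat.card Y → p ∈ Cfsg.sigma M) : Y ≤ Cfsg.sigmaCore M := by
  have h4 := (thm_10_2_core hG hU hM).2.2.2
  intro y hy
  refine ⟨⟨y, hYM hy⟩, ?_, rfl⟩
  set K := Cfsg.piCore (Cfsg.sigma M) ↥M with hK
  show (⟨y, hYM hy⟩ : ↥M) ∈ K
  rw [← QuotientGroup.eq_one_iff, ← orderOf_eq_one_iff]
  by_contra hne
  obtain ⟨p, hp, hpd⟩ := Nat.exists_prime_and_dvd hne
  have h1 : orderOf ((⟨y, hYM hy⟩ : ↥M) : ↥M ⧸ K) ∣ orderOf (⟨y, hYM hy⟩ : ↥M) :=
    orderOf_map_dvd (QuotientGroup.mk' K) _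
  have h2 : orderOf (⟨y, hYM hy⟩ : ↥M) = orderOf y := Subgroup.orderOf_mk y (hYM hy)
  have h3 : orderOf y ∣ Nat.card Y := by
    have := orderOf_dvd_natCard (⟨y, hy⟩ : ↥Y)
    rwa [Subgroup.orderOf_mk] at this
  have hpσ : p ∈ Cfsg.sigma M := hY p hp (hpd.trans (h1.trans (h2 ▸ h3)))
  apply h4 p hp hpσ
  rw [Subgroup.index_eq_card]
  exact hpd.trans (orderOf_dvd_natCard _)

/-- Hall's containment theorem inside a solvable subgroup `N` -/
theorem hall_le_conj {N H K : Subgroup G} (hsolv : Group.IsSolvable ↥N) (hHN : H ≤ N) (hKN : K ≤ N)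
    (π : Set ℕ) (hHpi : ∀ p : ℕ, p.Prime → p ∣ Nat.card H → p ∈ π)
    (hHidx : ∀ p : ℕ, p.Prime → p ∈ π → ¬ p ∣ H.relIndex N)
    (hK : ∀ p : ℕ, p.Prime → p ∣ Nat.card K → p ∈ π) : ∃ g ∈ N, K ≤ cj g H := by
  have hmn : Nat.card ↥N = Nat.card H * H.relIndex N := by
    rw [mul_comm]; exact (Cfsg.Agent.Helper31.relIndex_mul_card' hHN).symm
  have hcop : (Nat.card H).Coprime (H.relIndex N) := by
    apply Nat.Coprime.symm
    rw [Nat.coprime_comm]
    apply Nat.coprime_of_dvd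
    intro p hp hpH hpN
    exact hHidx p hp (hHpi p hp hpH) hpN
  have hcopK : (Nat.card ↥(K.subgroupOf N)).Coprime (H.relIndex N) := by
    rw [Nat.card_congr (Subgroup.subgroupOfEquivOfLe hKN).toEquiv]
    apply Nat.coprime_of_dvd
    intro p hp hpK hpN
    exact hHidx p hp (hK p hp hpK) hpN
  have hcardH : Nat.card ↥(H.subgroupOf N) = Nat.card H :=
    Nat.card_congr (Subgroup.subgroupOfEquivOfLe hHN).toEquiv
  obtain ⟨g, hg⟩ := (Cfsg.Agent.Lib.hall_main (Nat.card ↥N) ↥N rfl (Nat.card H) (H.relIndex N)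
    hmn hcop).2 (H.subgroupOf N) (K.subgroupOf N) hcardH hcopK
  refine ⟨g.1, g.2, ?_⟩
  rw [le_cj_iff]
  intro k hk
  have h1 : (⟨k, hKN hk⟩ : ↥N) ∈ MulAut.conj g • H.subgroupOf N :=
    hg (Subgroup.mem_subgroupOf.2 hk)
  rw [Subgroup.mem_smul_pointwise_iff_exists] at h1
  obtain ⟨s, hs, hsk⟩ := h1
  have hs' : (s : G) ∈ H := Subgroup.mem_subgroupOf.1 hs
  have e : k = g.1 * s.1 * g.1⁻¹ := by
    have := congrArg Subtype.val hsk
    simpa [MulAut.smul_def, MulAut.conj_apply] using this.symm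
  rw [e]
  have e2 : (g.1)⁻¹ * (g.1 * s.1 * (g.1)⁻¹) * g.1 = s.1 := by group
  rw [e2]
  exact hs'

/-- Theorem 10.1(a) moves a subgroup into `M` by an element of `C_G(X)` -/
theorem exists_cj_centralizer_le (hG : Cfsg.IsMinSimpleOddOrder G) (hU : UniquenessThm G)
    {M : Subgroup G} (hM : IsCoatom M) {q : ℕ} [Fact q.Prime] (hq : q ∈ Cfsg.sigma M)
    {X : Subgroup G} (hXq : IsPGroup q X) (hX1 : X ≠ ⊥) (hXM : X ≤ M) {T : Subgroup G} {h : G}
    (hT : cj h T ≤ M) (hX : cj h X ≤ M) :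
    ∃ c ∈ Subgroup.centralizer (X : Set G), cj c T ≤ M := by
  obtain ⟨m, hm, c, hc, hmc⟩ := (thm_10_1 hG hU M hM hq X hXq hX1 hXM).1 h hX
  refine ⟨c, hc, ?_⟩
  rw [hmc, cj_mul, cj_le_iff, cj_eq_self_of_mem (M.inv_mem hm)] at hT
  exact hT

/-- the key step: for every `t ∈ σ(M)` some Sylow `t`-subgroup of `C_G(X)` lies in `M` -/
theorem key (hG : Cfsg.IsMinSimpleOddOrder G) (hU : UniquenessThm G)
    {M : Subgroup G} (hM : IsCoatom M) {q : ℕ} [hqp : Fact q.Prime] (hq : q ∈ Cfsg.sigma M)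
    {X : Subgroup G} (hXq : IsPGroup q X) (hX1 : X ≠ ⊥)
    (hXab : X ≤ Subgroup.centralizer (X : Set G)) (hXM : X ≤ M)
    (hD : q ∉ Cfsg.beta M → ∃ D : Subgroup G,
      Cfsg.IsPiHallOf {r | r.Prime ∧ r ∉ Cfsg.beta M} D (Cfsg.sigmaCore M) ∧
        Group.IsNilpotent D ∧ X ≤ D)
    {t : ℕ} [htp : Fact t.Prime] (ht : t ∈ Cfsg.sigma M) :
    ∃ T : Subgroup G, IsSylowIn t T (Subgroup.centralizer (X : Set G)) ∧ T ≤ M := by
  obtain ⟨T1, -, hT1⟩ := exists_isSylowIn_ge (p := t)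
    (bot_le : (⊥ : Subgroup G) ≤ Subgroup.centralizer (X : Set G)) IsPGroup.of_bot
  obtain ⟨P0, hP0, hP0M⟩ := (sigmaCtx_of hG hU hM ht).sylTop
  obtain ⟨h, -, hh⟩ := Cfsg.Agent.Helper84.exists_conj_le_of_relIndex ⊤ P0 T1 le_top hP0.2.1
    hP0.2.2 le_top hT1.2.1
  have hhT : cj h T1 ≤ M := by
    intro y hy
    have := hh _ (mem_cj.1 hy)
    have e : h * (h⁻¹ * y * h) * h⁻¹ = y := by group
    rw [e] at this
    exact hP0M this
  by_cases htq : t = q
  · subst htq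
    have hXT1 : X ≤ T1 := hT1.normal_le hXq (Subgroup.centralizer_le_normalizer _) hXab
    have hhX : cj h X ≤ M := (cj_mono hXT1).trans hhT
    obtain ⟨c, hc, hcT⟩ := exists_cj_centralizer_le hG hU hM hq hXq hX1 hXM hhT hhX
    exact ⟨cj c T1, hT1.cj_mem hc, hcT⟩
  by_cases htβ : t ∈ Cfsg.beta M
  · by_cases hT1b : T1 = ⊥
    · exact ⟨T1, hT1, by rw [hT1b]; exact bot_le⟩
    obtain ⟨y, hyT, hy, -⟩ := exists_central_order hT1.2.1 hT1b
    have hy'M : h * y * h⁻¹ ∈ M := hhT (conj_mem_cj hyT)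
    have hy' : orderOf (h * y * h⁻¹) = t := by
      have := orderOf_injective (MulAut.conj h).toMonoidHom (MulAut.conj h).injective y
      rw [← hy, ← this]
      rfl
    have hbl := beta_lemma hG hU hM htβ hy'M hy'
    have hhX : cj h X ≤ M := by
      intro w hw
      apply hbl
      rw [Subgroup.mem_centralizer_iff]
      intro a ha
      obtain ⟨i, rfl⟩ := Subgroup.mem_zpowers_iff.1 ha
      have hx : h⁻¹ * w * h ∈ X := mem_cj.1 hw
      have hyx : (h⁻¹ * w * h) * y = y * (h⁻¹ * w * h) :=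
        Subgroup.mem_centralizer_iff.1 (hT1.1 hyT) _ hx
      have hcomm : Commute (h * y * h⁻¹) w := by
        show h * y * h⁻¹ * w = w * (h * y * h⁻¹)
        calc h * y * h⁻¹ * w = h * (y * (h⁻¹ * w * h)) * h⁻¹ := by group
          _ = h * ((h⁻¹ * w * h) * y) * h⁻¹ := by rw [hyx]
          _ = w * (h * y * h⁻¹) := by group
      exact hcomm.zpow_left i
    obtain ⟨c, hc, hcT⟩ := exists_cj_centralizer_le hG hU hM hq hXq hX1 hXM hhT hhX
    exact ⟨cj c T1, hT1.cj_mem hc, hcT⟩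
  by_cases hqβ : q ∈ Cfsg.beta M
  · obtain ⟨x, hxX, hx, -⟩ := exists_central_order hXq hX1
    have hbl := beta_lemma hG hU hM hqβ (hXM hxX) hx
    have hzX : (Subgroup.zpowers x : Set G) ⊆ X := by
      have : Subgroup.zpowers x ≤ X := by rw [Subgroup.zpowers_le]; exact hxX
      exact this
    exact ⟨T1, hT1, hT1.1.trans ((Subgroup.centralizer_le hzX).trans hbl)⟩
  · obtain ⟨D, hD, hDn, hXD⟩ := hD hqβ
    obtain ⟨T, -, hT⟩ := exists_isSylowIn_ge (p := t) (bot_le : (⊥ : Subgroup G) ≤ D)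
      IsPGroup.of_bot
    have hTMσ : ¬ t ∣ T.relIndex (Cfsg.sigmaCore M) := by
      rw [← Subgroup.relIndex_mul_relIndex T D _ hT.1 hD.1]
      intro hd
      rcases (Nat.Prime.dvd_mul htp.out).1 hd with h | h
      · exact hT.2.2 h
      · exact hD.2.2 t htp.out ⟨htp.out, htβ⟩ h
    have hTtop : ¬ t ∣ T.index := by
      rw [← Subgroup.relIndex_mul_index (hT.1.trans hD.1)]
      intro hd
      rcases (Nat.Prime.dvd_mul htp.out).1 hd with h | h
      · exact hTMσ h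
      · exact (thm_10_2_sigma hG hU M hM).2.1.2 t htp.out ht h
    have hTC : T ≤ Subgroup.centralizer (X : Set G) := by
      intro a ha
      rw [Subgroup.mem_centralizer_iff]
      intro b hb
      haveI : Group.IsNilpotent ↥D := hDn
      have hcop : (orderOf (⟨b, hXD hb⟩ : ↥D)).Coprime (orderOf (⟨a, hT.1 ha⟩ : ↥D)) := by
        rw [Subgroup.orderOf_mk, Subgroup.orderOf_mk]
        obtain ⟨i, hi⟩ := (IsPGroup.iff_orderOf.1 hXq) ⟨b, hb⟩
        obtain ⟨j, hj⟩ := (IsPGroup.iff_orderOf.1 hT.2.1) ⟨a, ha⟩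
        rw [Subgroup.orderOf_mk] at hi hj
        rw [hi, hj]
        exact Nat.Coprime.pow _ _ ((Nat.coprime_primes hqp.out htp.out).2 (Ne.symm htq))
      have := Cfsg.Agent.Helper65.commute_of_coprime_orderOf ↥D _ _ hcop
      exact congrArg Subtype.val this.eq
    refine ⟨T, ⟨hTC, hT.2.1, ?_⟩, hT.1.trans (hD.1.trans (Subgroup.map_subtype_le _))⟩
    intro hd
    apply hTtop
    rw [← Subgroup.relIndex_mul_index hTC]
    exact Dvd.dvd.mul_right hd _

/-- prime divisors of the order of a `p`-group -/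
theorem prime_eq_of_dvd_card {p r : ℕ} [hp : Fact p.Prime] {R : Subgroup G} (hR : IsPGroup p R)
    (hr : r.Prime) (hd : r ∣ Nat.card R) : r = p := by
  obtain ⟨n, hn⟩ := IsPGroup.iff_card.1 hR
  rw [hn] at hd
  exact (Nat.prime_dvd_prime_iff_eq hr hp.out).1 (hr.dvd_of_dvd_pow hd)

/-- `M_σ ∩ N_G(X)` is a Hall `σ(M)`-subgroup of `N_G(X)`, hence contains a conjugate of every
`σ(M)`-subgroup of `N_G(X)` -/
theorem main_aux (hG : Cfsg.IsMinSimpleOddOrder G) (hU : UniquenessThm G)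
    {M : Subgroup G} (hM : IsCoatom M) {q : ℕ} [hqp : Fact q.Prime] (hq : q ∈ Cfsg.sigma M)
    {X : Subgroup G} (hXq : IsPGroup q X) (hX1 : X ≠ ⊥)
    (hXab : X ≤ Subgroup.centralizer (X : Set G)) (hXM : X ≤ M)
    (hD : q ∉ Cfsg.beta M → ∃ D : Subgroup G,
      Cfsg.IsPiHallOf {r | r.Prime ∧ r ∉ Cfsg.beta M} D (Cfsg.sigmaCore M) ∧
        Group.IsNilpotent D ∧ X ≤ D)
    {Y : Subgroup G} (hYN : Y ≤ Subgroup.normalizer (X : Set G))
    (hY : ∀ p : ℕ, p.Prime → p ∣ Nat.card Y → p ∈ Cfsg.sigma M) :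
    ∃ g : G, cj g Y ≤ Cfsg.sigmaCore M := by
  have hCN : Subgroup.centralizer (X : Set G) ≤ Subgroup.normalizer (X : Set G) :=
    Subgroup.centralizer_le_normalizer _
  have h101 := (thm_10_1 hG hU M hM hq X hXq hX1 hXM).2
  have hNne : Subgroup.normalizer (X : Set G) ≠ ⊤ := (sigmaCtx_of hG hU hM hq).norm X hXq hX1
  have hsolv : Group.IsSolvable ↥(Subgroup.normalizer (X : Set G)) := hG.2.2.2 _ hNne
  have hnorm : M ⊓ Subgroup.normalizer (X : Set G) ≤
      Subgroup.normalizer ((Subgroup.centralizer (X : Set G) : Subgroup G) : Set G) := by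
    intro n hn
    rw [Subgroup.mem_normalizer_iff]
    intro c
    constructor
    · intro hc
      exact conj_mem_centralizer hn.2 hc
    · intro hc
      have := conj_mem_centralizer (Subgroup.inv_mem _ hn.2) hc
      have e : n⁻¹ * (n * c * n⁻¹) * n⁻¹⁻¹ = c := by group
      rwa [e] at this
  have hprod := Cfsg.Agent.Helper50.card_sup_mul_card_inf_of_le_normalizer
    (M ⊓ Subgroup.normalizer (X : Set G)) (Subgroup.centralizer (X : Set G)) hnorm
  rw [← h101] at hprod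
  have hinf : (M ⊓ Subgroup.normalizer (X : Set G)) ⊓ Subgroup.centralizer (X : Set G) =
      M ⊓ Subgroup.centralizer (X : Set G) := by
    rw [inf_assoc, inf_eq_right.2 hCN]
  rw [hinf] at hprod
  have hidx : (M ⊓ Subgroup.normalizer (X : Set G)).relIndex (Subgroup.normalizer (X : Set G)) =
      (M ⊓ Subgroup.centralizer (X : Set G)).relIndex (Subgroup.centralizer (X : Set G)) := by
    have h1 := Cfsg.Agent.Helper31.relIndex_mul_card'
      (inf_le_right : M ⊓ Subgroup.normalizer (X : Set G) ≤ Subgroup.normalizer (X : Set G))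
    have h2 := Cfsg.Agent.Helper31.relIndex_mul_card'
      (inf_le_right : M ⊓ Subgroup.centralizer (X : Set G) ≤ Subgroup.centralizer (X : Set G))
    have hpos1 : 0 < Nat.card ↥(M ⊓ Subgroup.normalizer (X : Set G)) := Nat.card_pos
    have hpos2 : 0 < Nat.card ↥(M ⊓ Subgroup.centralizer (X : Set G)) := Nat.card_pos
    rw [← h1, ← h2] at hprod
    apply Nat.eq_of_mul_eq_mul_right (Nat.mul_pos hpos1 hpos2)
    rw [← mul_assoc, hprod]
    ring
  have hMN : ∀ p : ℕ, p.Prime → p ∈ Cfsg.sigma M →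
      ¬ p ∣ (M ⊓ Subgroup.normalizer (X : Set G)).relIndex (Subgroup.normalizer (X : Set G)) := by
    intro p hp hpσ
    haveI : Fact p.Prime := ⟨hp⟩
    obtain ⟨T, hT, hTM⟩ := key hG hU hM hq hXq hX1 hXab hXM hD hpσ
    rw [hidx]
    intro hd
    apply hT.2.2
    rw [← Subgroup.relIndex_mul_relIndex T (M ⊓ Subgroup.centralizer (X : Set G)) _
      (le_inf hTM hT.1) inf_le_right]
    exact Dvd.dvd.mul_left hd _
  have hHall : ∀ p : ℕ, p.Prime → p ∈ Cfsg.sigma M →
      ¬ p ∣ (Cfsg.sigmaCore M ⊓ Subgroup.normalizer (X : Set G)).relIndex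
        (Subgroup.normalizer (X : Set G)) := by
    intro p hp hpσ
    haveI : Fact p.Prime := ⟨hp⟩
    obtain ⟨R, -, hR⟩ := exists_isSylowIn_ge (p := p)
      (bot_le : (⊥ : Subgroup G) ≤ M ⊓ Subgroup.normalizer (X : Set G)) IsPGroup.of_bot
    have hRσ : R ≤ Cfsg.sigmaCore M :=
      le_sigmaCore_of_le hG hU hM (hR.1.trans inf_le_left) (by
        intro r hr hrd
        rw [prime_eq_of_dvd_card hR.2.1 hr hrd]
        exact hpσ)
    have hRN : R ≤ Subgroup.normalizer (X : Set G) := hR.1.trans inf_le_right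
    have h1 : ¬ p ∣ R.relIndex (Subgroup.normalizer (X : Set G)) := by
      rw [← Subgroup.relIndex_mul_relIndex R (M ⊓ Subgroup.normalizer (X : Set G)) _ hR.1
        inf_le_right]
      intro hd
      rcases (Nat.Prime.dvd_mul hp).1 hd with h | h
      · exact hR.2.2 h
      · exact hMN p hp hpσ h
    intro hd
    apply h1
    rw [← Subgroup.relIndex_mul_relIndex R (Cfsg.sigmaCore M ⊓ Subgroup.normalizer (X : Set G)) _
      (le_inf hRσ hRN) inf_le_right]
    exact Dvd.dvd.mul_left hd _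
  have hpi : ∀ p : ℕ, p.Prime →
      p ∣ Nat.card ↥(Cfsg.sigmaCore M ⊓ Subgroup.normalizer (X : Set G)) → p ∈ Cfsg.sigma M := by
    intro p hp hd
    exact (thm_10_2_sigma hG hU M hM).1.2.1 p hp (hd.trans (Subgroup.card_dvd_of_le inf_le_left))
  obtain ⟨g, hgN, hg⟩ := hall_le_conj hsolv
    (inf_le_right : Cfsg.sigmaCore M ⊓ Subgroup.normalizer (X : Set G) ≤ _) hYN (Cfsg.sigma M)
    hpi hHall hY
  refine ⟨g⁻¹, ?_⟩
  rw [cj_le_iff, inv_inv]
  exact hg.trans (cj_mono inf_le_left)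

theorem cj_le_centralizer {g : G} {X : Subgroup G}
    (hXab : X ≤ Subgroup.centralizer (X : Set G)) :
    cj g X ≤ Subgroup.centralizer ((cj g X : Subgroup G) : Set G) := by
  intro a ha
  rw [Subgroup.mem_centralizer_iff]
  intro b hb
  have h1 := Subgroup.mem_centralizer_iff.1 (hXab (mem_cj.1 ha)) _ (mem_cj.1 hb)
  calc b * a = g * ((g⁻¹ * b * g) * (g⁻¹ * a * g)) * g⁻¹ := by group
    _ = g * ((g⁻¹ * a * g) * (g⁻¹ * b * g)) * g⁻¹ := by rw [h1]
    _ = a * b := by group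

/-- **B-G Lemma 12.18** (statement S1425), given the Uniqueness Theorem and the nilpotent Hall
`β(M)'`-subgroup of `M_σ` (Theorem 10.8, statement S1414) -/
theorem main (hG : Cfsg.IsMinSimpleOddOrder G) (hU : UniquenessThm G)
    (M : Subgroup G) (hM : IsCoatom M)
    (h108 : ∃ H : Subgroup G,
      Cfsg.IsPiHallOf {q | q.Prime ∧ q ∉ Cfsg.beta M} H (Cfsg.sigmaCore M) ∧ Group.IsNilpotent H)
    (Y : Subgroup G) (hY1 : Y ≠ ⊥)
    (hY : ∀ p : ℕ, p.Prime → p ∣ Nat.card Y → p ∈ Cfsg.sigma M) :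
    ∃ g : G, Y.map (MulAut.conj g).toMonoidHom ≤ Cfsg.sigmaCore M := by
  have h102 := thm_10_2_sigma hG hU M hM
  have hMσM : Cfsg.sigmaCore M ≤ M := h102.1.1
  have hYtop : Y ≠ ⊤ := by
    intro h
    have hidx : (Cfsg.sigmaCore M).index = 1 := by
      by_contra hne
      obtain ⟨p, hp, hpd⟩ := Nat.exists_prime_and_dvd hne
      have hpY : p ∣ Nat.card Y := by
        rw [h, Subgroup.card_top]
        exact hpd.trans (Subgroup.index_dvd_card _)
      exact h102.2.1.2 p hp (hY p hp hpY) hpd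
    have htop : Cfsg.sigmaCore M = ⊤ := Subgroup.index_eq_one.1 hidx
    rw [htop] at hMσM
    exact hM.1 (top_le_iff.1 hMσM)
  haveI : Group.IsSolvable ↥Y := hG.2.2.2 Y hYtop
  haveI : Nontrivial ↥Y := (Subgroup.nontrivial_iff_ne_bot Y).2 hY1
  obtain ⟨N0, hN0n, hN0ne, hN0min⟩ := Cfsg.Agent.Lib.exists_minimal_normal (G := ↥Y)
  haveI := hN0n
  obtain ⟨hN0c, q, hq, hN0q⟩ := Cfsg.Agent.S0043.result N0 hN0ne hN0min
  haveI : Fact q.Prime := ⟨hq⟩
  have hXY : N0.map Y.subtype ≤ Y := Subgroup.map_subtype_le _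
  have hX1 : N0.map Y.subtype ≠ ⊥ := by
    intro h
    exact hN0ne ((Subgroup.map_eq_bot_iff_of_injective _ Y.subtype_injective).1 h)
  have hXe : ∀ x ∈ N0.map Y.subtype, x ^ q = 1 := by
    rintro _ ⟨n, hn, rfl⟩
    have := hN0q n hn
    simpa using congrArg Subtype.val this
  have hXq : IsPGroup q ↥(N0.map Y.subtype) := by
    intro x
    exact ⟨1, by apply Subtype.ext; simpa using hXe x.1 x.2⟩
  have hXab : N0.map Y.subtype ≤ Subgroup.centralizer ((N0.map Y.subtype : Subgroup G) : Set G) := by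
    rintro _ ⟨a, ha, rfl⟩
    rw [Subgroup.mem_centralizer_iff]
    rintro _ ⟨b, hb, rfl⟩
    have := (Cfsg.Agent.Helper23.isMulCommutative_subgroup_iff N0).1 hN0c b hb a ha
    exact congrArg Subtype.val this
  have hYN : Y ≤ Subgroup.normalizer ((N0.map Y.subtype : Subgroup G) : Set G) := by
    intro y hy
    rw [Subgroup.mem_normalizer_iff]
    intro h
    constructor
    · rintro ⟨n, hn, rfl⟩
      exact ⟨⟨y, hy⟩ * n * ⟨y, hy⟩⁻¹, hN0n.conj_mem n hn ⟨y, hy⟩, rfl⟩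
    · rintro ⟨n, hn, hnh⟩
      refine ⟨⟨y, hy⟩⁻¹ * n * ⟨y, hy⟩, ?_, ?_⟩
      · have := hN0n.conj_mem n hn ⟨y, hy⟩⁻¹
        rwa [inv_inv] at this
      · have e : Y.subtype n = y * h * y⁻¹ := hnh
        show y⁻¹ * Y.subtype n * y = h
        rw [e]
        group
  have hqσ : q ∈ Cfsg.sigma M := by
    apply hY q hq
    obtain ⟨n, hn⟩ := IsPGroup.iff_card.1 hXq
    have hn0 : n ≠ 0 := by
      intro h
      rw [h, pow_zero] at hn
      exact hX1 (Subgroup.card_eq_one.1 hn)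
    have h1 : q ∣ Nat.card ↥(N0.map Y.subtype) := by
      rw [hn]; exact dvd_pow_self q hn0
    exact h1.trans (Subgroup.card_dvd_of_le hXY)
  -- conjugate `X` into `M_σ`
  obtain ⟨Q, -, hQ⟩ := exists_isSylowIn_ge (p := q)
    (bot_le : (⊥ : Subgroup G) ≤ Cfsg.sigmaCore M) IsPGroup.of_bot
  have hQtop : ¬ q ∣ Q.relIndex ⊤ := by
    rw [Subgroup.relIndex_top_right, ← Subgroup.relIndex_mul_index hQ.1]
    intro hd
    rcases (Nat.Prime.dvd_mul hq).1 hd with h | h
    · exact hQ.2.2 h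
    · exact h102.2.1.2 q hq hqσ h
  obtain ⟨g1, -, hg1⟩ := Cfsg.Agent.Helper84.exists_conj_le_of_relIndex ⊤ Q (N0.map Y.subtype)
    le_top hQ.2.1 hQtop le_top hXq
  have hX1' : cj g1 (N0.map Y.subtype) ≤ Cfsg.sigmaCore M := by
    intro y hy
    have := hg1 _ (mem_cj.1 hy)
    have e : g1 * (g1⁻¹ * y * g1) * g1⁻¹ = y := by group
    rw [e] at this
    exact hQ.1 this
  -- conjugate further into `D` when `q ∉ β(M)`
  obtain ⟨D, hD, hDn⟩ := h108
  have hMσsolv : Group.IsSolvable ↥(Cfsg.sigmaCore M) :=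
    hG.2.2.2 _ (ne_top_of_le_ne_top hM.1 hMσM)
  have hex : ∃ g2 ∈ Cfsg.sigmaCore M, q ∉ Cfsg.beta M →
      cj g2 (cj g1 (N0.map Y.subtype)) ≤ D := by
    by_cases hqβ : q ∈ Cfsg.beta M
    · exact ⟨1, Subgroup.one_mem _, fun h => absurd hqβ h⟩
    · obtain ⟨g, hg, hgX⟩ := hall_le_conj hMσsolv hD.1 hX1' {r | r.Prime ∧ r ∉ Cfsg.beta M}
        hD.2.1 hD.2.2 (by
          intro r hr hrd
          rw [prime_eq_of_dvd_card (isPGroup_cj hXq) hr hrd]
          exact ⟨hq, hqβ⟩)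
      refine ⟨g⁻¹, Subgroup.inv_mem _ hg, fun _ => ?_⟩
      rw [cj_le_iff, inv_inv]
      exact hgX
  obtain ⟨g2, hg2, hg2X⟩ := hex
  have hX'Mσ : cj (g2 * g1) (N0.map Y.subtype) ≤ Cfsg.sigmaCore M := by
    rw [cj_mul]
    have := cj_mono (g := g2) hX1'
    rwa [cj_eq_self_of_mem hg2] at this
  have hYN' : cj (g2 * g1) Y ≤
      Subgroup.normalizer ((cj (g2 * g1) (N0.map Y.subtype) : Subgroup G) : Set G) := by
    rw [normalizer_cj]
    exact cj_mono hYN
  have hY' : ∀ p : ℕ, p.Prime → p ∣ Nat.card ↥(cj (g2 * g1) Y) → p ∈ Cfsg.sigma M := by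
    intro p hp hd
    rw [card_cj] at hd
    exact hY p hp hd
  obtain ⟨g, hg⟩ := main_aux hG hU hM hqσ (isPGroup_cj hXq) (cj_ne_bot hX1)
    (cj_le_centralizer hXab) (hX'Mσ.trans hMσM)
    (fun hqβ => ⟨D, hD, hDn, by rw [cj_mul]; exact hg2X hqβ⟩) hYN' hY'
  refine ⟨g * (g2 * g1), ?_⟩
  show cj (g * (g2 * g1)) Y ≤ _
  rw [cj_mul]
  exact hg

end Cfsg.Agent.Helper3.BG1218
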