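import Cfsg.Agent.Helper16.DT.Defs
import Cfsg.Agent.Helper16.SubsectionCount
import Cfsg.Agent.Helper3.BrauerGlobal
import Cfsg.Agent.Helper80.Induced

/-!
# DT farm (helper16), piece (E5C): irreducible Brauer characters are integral combinations of the
restrictions of the ordinary irreducible characters to the `p`-regular elements
-/

set_option autoImplicit false

namespace Cfsg.Agent.Helper3.DT

open Cfsg Cfsg.Agent.Helper16 Cfsg.Agent.Helper16.DT Matrix

universe u w

variable {p : ℕ} [Fact p.Prime] {M : Ideal AlgInt} [M.IsMaximal] {G : Type u} [Group G]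

/-- `bfull` is invariant under conjugation. -/
theorem E5C_bfull_conj {ι : Type w} [Fintype ι] [DecidableEq ι]
    (A B C : Matrix ι ι (AlgInt ⧸ M)) (h1 : B * C = 1) :
    bfull p M (B * A * C) = bfull p M A := by
  have h2 : C * B = 1 := mul_eq_one_comm.mp h1
  have h3 : (B * A * C).charpoly = A.charpoly := by
    rw [Matrix.mul_assoc, Matrix.charpoly_mul_comm, Matrix.mul_assoc, h2, Matrix.mul_one]
  unfold bfull
  rw [h3]

/-- `brauerFull` is a class function. -/
theorem E5C_brauerFull_conj {ι : Type w} [Fintype ι] [DecidableEq ι]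
    (ρ : G →* Matrix ι ι (AlgInt ⧸ M)) (g t : G) :
    brauerFull p M ρ (t * g * t⁻¹) = brauerFull p M ρ g := by
  unfold brauerFull
  rw [map_mul, map_mul]
  apply E5C_bfull_conj
  rw [← map_mul, mul_inv_cancel, map_one]

/-- The `p`-part of a `p`-regular element is trivial. -/
theorem E5C_pPartOf_of_reg [Fintype G] {g : G} (hg : ¬ p ∣ orderOf g) : pPartOf p g = 1 := by
  rw [pPartOf_eq_iff]
  exact ⟨g, one_mul g, Commute.one_left g, ⟨0, by simp⟩, hg⟩

/-- `pRegularPart` of a finite integral combination. -/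
theorem E5C_pRegularPart_sum [Fintype G] {ι : Type*} (s : Finset ι) (c : ι → ℂ) (f : ι → G → ℂ) :
    pRegularPart p (∑ i ∈ s, c i • f i) = ∑ i ∈ s, c i • pRegularPart p (f i) := by
  funext g
  by_cases hg : p ∣ orderOf g
  · rw [Helper77.pRegularPart_of_sing hg, Finset.sum_apply]
    symm
    apply Finset.sum_eq_zero
    intro i _
    rw [Pi.smul_apply, Helper77.pRegularPart_of_sing hg, smul_zero]
  · rw [Helper77.pRegularPart_of_reg hg, Finset.sum_apply, Finset.sum_apply]
    refine Finset.sum_congr rfl (fun i _ => ?_)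
    rw [Pi.smul_apply, Pi.smul_apply, Helper77.pRegularPart_of_reg hg]

/-- (E5C), with (E5B) as a hypothesis. -/
theorem E5C_of_E5B [Fintype G]
    (hE5B : ∀ {n : ℕ} (ρ : G →* Matrix (Fin n) (Fin n) (AlgInt ⧸ M)) (E : Subgroup G) (q : ℕ),
      q.Prime → IsElementary q E →
      IsCharacter E (fun e : E => brauerFull p M ρ ((pPartOf p (e : G))⁻¹ * (e : G))))
    {φ : G → ℂ} (hφ : φ ∈ IBr p M G) :
    ∃ a : IrrCharacter G → ℤ,
      φ = ∑ᶠ χ : IrrCharacter G, (a χ : ℂ) • pRegularPart p (χ : G → ℂ) := by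
  classical
  obtain ⟨n, ρ, -, rfl⟩ := hφ
  set θ : G → ℂ := fun g => brauerFull p M ρ ((pPartOf p g)⁻¹ * g) with hθdef
  -- θ is a class function
  have hθcf : IsClassFunction G θ := by
    intro g h
    show brauerFull p M ρ ((pPartOf p (h * g * h⁻¹))⁻¹ * (h * g * h⁻¹)) =
      brauerFull p M ρ ((pPartOf p g)⁻¹ * g)
    rw [pPartOf_conj]
    have : (h * pPartOf p g * h⁻¹)⁻¹ * (h * g * h⁻¹) = h * ((pPartOf p g)⁻¹ * g) * h⁻¹ := by
      group
    rw [this, E5C_brauerFull_conj]
  -- θ is a generalized character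
  have hθgc : IsGeneralizedCharacter G θ := by
    apply brauer_characterization hθcf
    intro E q hq hE
    refine ⟨_, 0, hE5B ρ E q hq hE, Helper74.isCharacter_zero, ?_⟩
    rw [sub_zero]
  obtain ⟨χ, ψ, hχ, hψ, hθ⟩ := hθgc
  letI : Fintype (IrrCharacter G) := Helper74.irrFintype G
  refine ⟨fun ξ => (Helper80.mult χ hχ ξ : ℤ) - (Helper80.mult ψ hψ ξ : ℤ), ?_⟩
  rw [finsum_eq_sum_of_fintype]
  -- brauerChar = pRegularPart θ
  have h1 : brauerChar p M ρ = pRegularPart p θ := by
    funext g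
    unfold brauerChar
    by_cases hg : p ∣ orderOf g
    · rw [Helper77.pRegularPart_of_sing hg, Helper77.pRegularPart_of_sing hg]
    · rw [Helper77.pRegularPart_of_reg hg, Helper77.pRegularPart_of_reg hg]
      show brauerFull p M ρ g = brauerFull p M ρ ((pPartOf p g)⁻¹ * g)
      rw [E5C_pPartOf_of_reg hg, inv_one, one_mul]
  have h2 : θ = ∑ ξ : IrrCharacter G,
      (((Helper80.mult χ hχ ξ : ℤ) - (Helper80.mult ψ hψ ξ : ℤ) : ℤ) : ℂ) • (ξ : G → ℂ) := by
    rw [hθ]
    conv_lhs => rw [Helper80.eq_sum_mult χ hχ, Helper80.eq_sum_mult ψ hψ]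
    rw [← Finset.sum_sub_distrib]
    refine Finset.sum_congr rfl (fun ξ _ => ?_)
    push_cast
    rw [sub_smul]
  rw [h1, h2, E5C_pRegularPart_sum]

end Cfsg.Agent.Helper3.DT
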