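import Cfsg.Agent.Helper16.DT.Defs
import Cfsg.Agent.Helper16.SubsectionCount
import Cfsg.Agent.Helper76.PRegularGenChar

/-!
# DT farm (helper16), piece (E5A): on an elementary group the `p'`-part is a homomorphism
-/

set_option autoImplicit false

namespace Cfsg.Agent.Helper3.DT

open Cfsg Cfsg.Agent.Helper16 Cfsg.Agent.Helper16.DT

universe u

/-- An elementary group is nilpotent. -/
theorem E5A_isNilpotent {E : Type u} [Group E] [Finite E] (q : ℕ) (hq : q.Prime)
    (hE : IsElementary q E) : Group.IsNilpotent E := by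
  obtain ⟨x, hxc, -, k, hk⟩ := hE
  set C : Subgroup E := Subgroup.zpowers x with hC
  have hCle : C ≤ Subgroup.center E := by
    rw [hC, Subgroup.zpowers_le]; exact hxc
  have hCn : C.Normal := by
    constructor
    intro n hn g
    have := Subgroup.mem_center_iff.1 (hCle hn) g
    have h2 : g * n * g⁻¹ = n := by rw [this]; group
    rw [h2]; exact hn
  haveI : Fact q.Prime := ⟨hq⟩
  have hcard : Nat.card (E ⧸ C) = q ^ k := by
    rw [← Subgroup.index_eq_card]; exact hk
  haveI : Group.IsNilpotent (E ⧸ C) := (IsPGroup.of_card hcard).isNilpotent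
  refine Subgroup.isNilpotent_of_ker_le_center (QuotientGroup.mk' C) ?_
  rw [QuotientGroup.ker_mk']
  exact hCle

/-- (E5A) on an elementary group the `p'`-part is a group homomorphism. -/
theorem exists_pPrime_hom_of_isElementary {p : ℕ} [hp : Fact p.Prime] {E : Type u} [Group E]
    [Finite E] (q : ℕ) (hq : q.Prime) (hE : IsElementary q E) :
    ∃ π : E →* E, ∀ e, IsPPart p e (e * (π e)⁻¹) := by
  classical
  haveI : Group.IsNilpotent E := E5A_isNilpotent q hq hE
  obtain ⟨K, hKn, hK, -⟩ := Helper76.exists_pRegular_subgroup p q hq hE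
  let P : Sylow p E := default
  have hPn : (P : Subgroup E).Normal := inferInstance
  -- `P` and `K` are disjoint
  have hdis : Disjoint (P : Subgroup E) K := by
    rw [Subgroup.disjoint_def]
    intro e heP heK
    obtain ⟨j, hj⟩ := (IsPGroup.iff_orderOf.mp P.isPGroup') ⟨e, heP⟩
    rw [Subgroup.orderOf_mk] at hj
    have h2 := (hK e).1 heK
    rcases Nat.eq_zero_or_pos j with rfl | hjpos
    · rw [pow_zero] at hj; exact orderOf_eq_one_iff.1 hj
    · exact absurd (hj ▸ dvd_pow_self p hjpos.ne') h2
  have hcomm : ∀ u ∈ (P : Subgroup E), ∀ k ∈ K, Commute u k := fun u hu k hk =>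
    Subgroup.commute_of_normal_of_disjoint _ _ hPn hKn hdis u k hu hk
  -- every `p`-element lies in `P`
  have hmemP : ∀ e : E, (∃ j : ℕ, orderOf e = p ^ j) → e ∈ (P : Subgroup E) := by
    rintro e ⟨j, hj⟩
    have hpg : IsPGroup p (Subgroup.zpowers e) := by
      apply IsPGroup.of_card (n := j)
      rw [Nat.card_zpowers, hj]
    obtain ⟨Q, hQ⟩ := hpg.exists_le_sylow
    have hU := Sylow.unique_of_normal P hPn
    haveI : Subsingleton (Sylow p E) := hU.instSubsingleton
    have : Q = P := Subsingleton.elim _ _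
    rw [← this]
    exact hQ (Subgroup.mem_zpowers e)
  -- the `p`-part
  let u : E → E := fun e => Classical.choose (exists_isPPart p hp.out e)
  have hu : ∀ e, IsPPart p e (u e) := fun e => Classical.choose_spec (exists_isPPart p hp.out e)
  have huP : ∀ e, u e ∈ (P : Subgroup E) := fun e => by
    obtain ⟨y, -, -, hj, -⟩ := hu e
    exact hmemP _ hj
  have hkK : ∀ e, (u e)⁻¹ * e ∈ K := fun e => by
    obtain ⟨y, hy, -, -, hreg⟩ := hu e
    have : (u e)⁻¹ * e = y := (eq_inv_mul_of_mul_eq hy).symm
    rw [this]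
    exact (hK y).2 hreg
  have hmul : ∀ a b : E, (u (a * b))⁻¹ * (a * b) = (u a)⁻¹ * a * ((u b)⁻¹ * b) := by
    intro a b
    set ka := (u a)⁻¹ * a with hka
    set kb := (u b)⁻¹ * b with hkb
    set kab := (u (a * b))⁻¹ * (a * b) with hkab
    have ha : a = u a * ka := by rw [hka]; group
    have hb : b = u b * kb := by rw [hkb]; group
    have hab : a * b = u (a * b) * kab := by rw [hkab]; group
    have hc : Commute (u b) ka := hcomm _ (huP b) _ (hkK a)
    have h1 : a * b = (u a * u b) * (ka * kb) := by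
      calc a * b = u a * ka * (u b * kb) := by rw [← ha, ← hb]
        _ = u a * (ka * u b) * kb := by group
        _ = u a * (u b * ka) * kb := by rw [hc.eq]
        _ = (u a * u b) * (ka * kb) := by group
    -- compare the two decompositions
    have h2 : (u a * u b)⁻¹ * u (a * b) = (ka * kb) * kab⁻¹ := by
      have : u (a * b) * kab = (u a * u b) * (ka * kb) := by rw [← hab, h1]
      calc (u a * u b)⁻¹ * u (a * b) = (u a * u b)⁻¹ * (u (a * b) * kab) * kab⁻¹ := by group
        _ = (u a * u b)⁻¹ * ((u a * u b) * (ka * kb)) * kab⁻¹ := by rw [this]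
        _ = (ka * kb) * kab⁻¹ := by group
    have h3 : (ka * kb) * kab⁻¹ ∈ (P : Subgroup E) := by
      rw [← h2]
      exact (P : Subgroup E).mul_mem ((P : Subgroup E).inv_mem
        ((P : Subgroup E).mul_mem (huP a) (huP b))) (huP (a * b))
    have h4 : (ka * kb) * kab⁻¹ ∈ K :=
      K.mul_mem (K.mul_mem (hkK a) (hkK b)) (K.inv_mem (hkK (a * b)))
    have h5 : (ka * kb) * kab⁻¹ = 1 := by
      have := Subgroup.disjoint_def.mp hdis h3 h4
      exact this
    have h6 : kab = ka * kb := by
      have := mul_inv_eq_one.mp h5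
      exact this.symm
    exact h6
  refine ⟨MonoidHom.mk' (fun e => (u e)⁻¹ * e) hmul, fun e => ?_⟩
  have : e * ((MonoidHom.mk' (fun e => (u e)⁻¹ * e) hmul) e)⁻¹ = u e := by
    show e * ((u e)⁻¹ * e)⁻¹ = u e
    group
  rw [this]
  exact hu e

end Cfsg.Agent.Helper3.DT
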