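import Mathlib
import Cfsg.Prelude.Def_Characters
import Cfsg.Prelude.Def_Blocks

/-!
# Dixon's theorem (S4467): the conclusion predicate

`Good p n`: some prime power `q > 1` divides `n` with `q ≡ -1, 0, 1 (mod p)`.
-/

set_option autoImplicit false

namespace Cfsg.Agent.Helper3.Dixon

/-- The conclusion of Dixon's theorem. -/
def Good (p n : ℕ) : Prop :=
  ∃ q : ℕ, IsPrimePow q ∧ q ∣ n ∧
    ((q : ℤ) ≡ -1 [ZMOD p] ∨ (q : ℤ) ≡ 0 [ZMOD p] ∨ (q : ℤ) ≡ 1 [ZMOD p])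

theorem Good.mono {p m n : ℕ} (h : Good p m) (hmn : m ∣ n) : Good p n := by
  obtain ⟨q, hq, hqm, hc⟩ := h
  exact ⟨q, hq, hqm.trans hmn, hc⟩

/-- From a prime power `q ∣ n` with `q ≡ 0, 1 (mod p)`. -/
theorem Good.of_zero_one {p n : ℕ}
    (h : ∃ q : ℕ, IsPrimePow q ∧ q ∣ n ∧ ((q : ℤ) ≡ 0 [ZMOD p] ∨ (q : ℤ) ≡ 1 [ZMOD p])) :
    Good p n := by
  obtain ⟨q, hq, hqn, hc⟩ := h
  exact ⟨q, hq, hqn, Or.inr hc⟩

end Cfsg.Agent.Helper3.Dixon
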