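import Mathlib
import Cfsg.Prelude.Def_Characters
import Cfsg.Prelude.Def_Blocks
import Cfsg.Agent.Helper3.BrauerGlobal
import Cfsg.Agent.Helper3.ScalarIndex
import Cfsg.Agent.Helper3.ClassFunction

/-!
# Algebraic-integer combinations via Brauer induction (helper3)

* `isIntegral_trace_of_pow_succ_eq`: an endomorphism with `f ^ (N + 1) = f` has integral trace.
* `isIntegral_avg_char`: `|A|⁻¹ ∑_{a ∈ A} χ(b a)` is an algebraic integer for normal `A`.
* `mul_pow_of_nilpotent`: on a finite nilpotent group of order dividing `m n` (coprime), the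
  `k`-th power map with `m ∣ k`, `k ≡ 1 [MOD n]` is multiplicative (the projection on the
  `π(n)`-part).
* `isIntegral_scaled_sum`: averaging lemma over cosets.
-/

set_option autoImplicit false
set_option linter.unusedSectionVars false

namespace Cfsg.Agent.Helper3

open Cfsg Cfsg.Agent.Helper15
open scoped ComplexConjugate

universe u

section Trace

variable {V : Type*} [AddCommGroup V] [Module ℂ V] [FiniteDimensional ℂ V]

/-- An endomorphism with `f ^ (N + 1) = f` has integral trace. -/
theorem isIntegral_trace_of_pow_succ_eq (f : Module.End ℂ V) (N : ℕ) (hN : 0 < N)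
    (hf : f ^ (N + 1) = f) : IsIntegral ℤ (LinearMap.trace ℂ V f) := by
  rw [Module.End.trace_eq_sum_roots_charpoly_of_splits (IsAlgClosed.splits _)]
  have hmem : ∀ μ ∈ f.charpoly.roots, μ ∈ integralClosure ℤ ℂ := by
    intro μ hμ
    have hroot : f.charpoly.IsRoot μ := (Polynomial.mem_roots'.mp hμ).2
    have hev : f.HasEigenvalue μ := (Module.End.hasEigenvalue_iff_isRoot_charpoly f μ).mpr hroot
    obtain ⟨v, hv⟩ := hev.exists_hasEigenvector
    have h1 : (f ^ (N + 1)) v = μ ^ (N + 1) • v := hv.pow_apply (N + 1)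
    rw [hf, hv.apply_eq_smul] at h1
    have h2 : (μ ^ (N + 1) - μ) • v = 0 := by rw [sub_smul, ← h1, sub_self]
    have h3 : μ ^ (N + 1) - μ = 0 := (smul_eq_zero.mp h2).resolve_right hv.2
    refine ⟨Polynomial.X ^ (N + 1) - Polynomial.X, Polynomial.monic_X_pow_sub ?_, ?_⟩
    · rw [Polynomial.degree_X]
      exact_mod_cast Nat.succ_lt_succ hN
    · simpa using h3
  exact multiset_sum_mem _ hmem

end Trace

section Avg

variable {E : Type*} [Group E] [Finite E] {V : Type*} [AddCommGroup V] [Module ℂ V]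
  [FiniteDimensional ℂ V]

/-- For a normal subgroup `A` and any `b`, the average `|A|⁻¹ ∑_{a ∈ A} χ(b a)` of a character is an
algebraic integer. -/
theorem isIntegral_avg_char (ρ : Representation ℂ E V) (A : Subgroup E) [A.Normal] [Fintype A]
    (b : E) :
    IsIntegral ℤ ((Nat.card A : ℂ)⁻¹ * ∑ a : A, ρ.character (b * a)) := by
  classical
  have hA0 : (Nat.card A : ℂ) ≠ 0 := by
    have : Nat.card A ≠ 0 := Nat.card_pos.ne'
    exact_mod_cast this
  set Sρ : Module.End ℂ V := ∑ a : A, ρ (a : E) with hS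
  set P : Module.End ℂ V := (Nat.card A : ℂ)⁻¹ • Sρ with hP
  -- left multiplication by elements of `A`
  have h1 : ∀ c : A, ρ (c : E) * Sρ = Sρ := by
    intro c
    rw [hS, Finset.mul_sum]
    refine Fintype.sum_equiv (Equiv.mulLeft c) _ _ fun a => ?_
    simp [map_mul]
  have hPP : P * P = P := by
    have : Sρ * Sρ = (Nat.card A : ℂ) • Sρ := by
      conv_lhs => rw [hS, Finset.sum_mul]
      rw [Finset.sum_congr rfl fun c _ => h1 c, Finset.sum_const, Finset.card_univ,
        Nat.card_eq_fintype_card, Nat.cast_smul_eq_nsmul]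
    rw [hP, smul_mul_smul_comm, this, smul_smul, mul_assoc, inv_mul_cancel₀ hA0, mul_one]
  have hcomm : Commute (ρ b) P := by
    have : ρ b * Sρ = Sρ * ρ b := by
      rw [hS, Finset.mul_sum, Finset.sum_mul]
      refine Fintype.sum_equiv (MulAut.conjNormal b : A ≃* A).toEquiv _ _ fun a => ?_
      rw [← map_mul, ← map_mul]
      congr 1
      simp [MulAut.conjNormal_apply]
    show ρ b * P = P * ρ b
    rw [hP, mul_smul_comm, smul_mul_assoc, this]
  set f : Module.End ℂ V := ρ b * P with hf
  have hpow : f ^ (orderOf b + 1) = f := by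
    rw [hf, hcomm.mul_pow, (IsIdempotentElem.pow_succ_eq (orderOf b) hPP), ← map_pow, pow_succ,
      pow_orderOf_eq_one, one_mul]
  have htr : LinearMap.trace ℂ V f = (Nat.card A : ℂ)⁻¹ * ∑ a : A, ρ.character (b * a) := by
    rw [hf, hP, mul_smul_comm, map_smul, hS, Finset.mul_sum, map_sum, smul_eq_mul]
    congr 1
    refine Finset.sum_congr rfl fun a _ => ?_
    rw [← map_mul]
    rfl
  rw [← htr]
  exact isIntegral_trace_of_pow_succ_eq f (orderOf b) (orderOf_pos b) hpow

end Avg

section PowerMap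

/-- In a finite group of order dividing `c`, with `c ∣ k`, every `k`-th power is trivial. -/
theorem pow_eq_one_of_card_dvd {P : Type*} [Group P] [Finite P] {k : ℕ} (h : Nat.card P ∣ k)
    (w : P) : w ^ k = 1 :=
  orderOf_dvd_iff_pow_eq_one.mp ((orderOf_dvd_natCard w).trans h)

/-- In a finite group of order dividing `n`, with `k ≡ 1 [MOD n]`, the `k`-th power map is the
identity. -/
theorem pow_eq_self_of_card_dvd {P : Type*} [Group P] [Finite P] {n k : ℕ} (h : Nat.card P ∣ n)
    (hk : k ≡ 1 [MOD n]) (w : P) : w ^ k = w := by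
  have h1 : k ≡ 1 [MOD orderOf w] := hk.of_dvd ((orderOf_dvd_natCard w).trans h)
  have := pow_eq_pow_iff_modEq.mpr h1
  rwa [pow_one] at this

/-- On a finite nilpotent group of order dividing `m * n` with `m`, `n` coprime, the `k`-th power
map with `m ∣ k` and `k ≡ 1 [MOD n]` is multiplicative. -/
theorem mul_pow_of_nilpotent {E : Type*} [Group E] [Finite E] [Group.IsNilpotent E] {m n k : ℕ}
    (hmn : m.Coprime n) (hE : Nat.card E ∣ m * n) (hkm : m ∣ k) (hkn : k ≡ 1 [MOD n]) (x y : E) :
    (x * y) ^ k = x ^ k * y ^ k := by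
  obtain ⟨e⟩ := ((Group.isNilpotent_of_finite_tfae (G := E)).out 0 4).mp (inferInstance : Group.IsNilpotent E)
  obtain ⟨x', rfl⟩ := e.surjective x
  obtain ⟨y', rfl⟩ := e.surjective y
  rw [← map_mul, ← map_pow, ← map_pow, ← map_pow, ← map_mul]
  congr 1
  funext p P
  show (x' p P * y' p P) ^ k = (x' p P) ^ k * (y' p P) ^ k
  have hp : (p : ℕ).Prime := Nat.prime_of_mem_primeFactors p.2
  haveI : Fact (p : ℕ).Prime := ⟨hp⟩
  have hPE : Nat.card (P : Subgroup E) ∣ m * n := (Subgroup.card_subgroup_dvd_card _).trans hE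
  obtain ⟨a, ha⟩ := (P.isPGroup').exists_card_eq
  by_cases hpm : (p : ℕ) ∣ m
  · have hpn : ¬ (p : ℕ) ∣ n := fun hpn => by
      have := Nat.dvd_gcd hpm hpn
      rw [hmn.gcd_eq_one] at this
      exact hp.one_lt.ne' (Nat.dvd_one.mp this)
    have hcop : (Nat.card (P : Subgroup E)).Coprime n := by
      rw [ha]
      exact ((Nat.Prime.coprime_iff_not_dvd hp).mpr hpn).pow_left a
    have hdm : Nat.card (P : Subgroup E) ∣ m := hcop.dvd_of_dvd_mul_right hPE
    rw [pow_eq_one_of_card_dvd (hdm.trans hkm), pow_eq_one_of_card_dvd (hdm.trans hkm),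
      pow_eq_one_of_card_dvd (hdm.trans hkm), one_mul]
  · have hcop : (Nat.card (P : Subgroup E)).Coprime m := by
      rw [ha]
      exact ((Nat.Prime.coprime_iff_not_dvd hp).mpr hpm).pow_left a
    have hdn : Nat.card (P : Subgroup E) ∣ n := hcop.dvd_of_dvd_mul_left hPE
    rw [pow_eq_self_of_card_dvd hdn hkn, pow_eq_self_of_card_dvd hdn hkn,
      pow_eq_self_of_card_dvd hdn hkn]

/-- The power map as a homomorphism. -/
noncomputable def powHom {E : Type*} [Group E] [Finite E] [Group.IsNilpotent E] {m n k : ℕ}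
    (hmn : m.Coprime n) (hE : Nat.card E ∣ m * n) (hkm : m ∣ k) (hkn : k ≡ 1 [MOD n]) :
    E →* E where
  toFun x := x ^ k
  map_one' := one_pow k
  map_mul' := mul_pow_of_nilpotent hmn hE hkm hkn

theorem powHom_apply {E : Type*} [Group E] [Finite E] [Group.IsNilpotent E] {m n k : ℕ}
    (hmn : m.Coprime n) (hE : Nat.card E ∣ m * n) (hkm : m ∣ k) (hkn : k ≡ 1 [MOD n]) (x : E) :
    powHom hmn hE hkm hkn x = x ^ k := rfl

/-- The image of the power map has order dividing `n`. -/
theorem index_ker_powHom_dvd {E : Type*} [Group E] [Finite E] [Group.IsNilpotent E] {m n k : ℕ}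
    (hmn : m.Coprime n) (hE : Nat.card E ∣ m * n) (hkm : m ∣ k) (hkn : k ≡ 1 [MOD n]) :
    (powHom hmn hE hkm hkn).ker.index ∣ n := by
  rw [Subgroup.index_ker]
  set R := (powHom hmn hE hkm hkn).range with hR
  have hRE : Nat.card R ∣ m * n := (Subgroup.card_subgroup_dvd_card _).trans hE
  have hpow : ∀ w : R, w ^ n = 1 := by
    rintro ⟨w, hw⟩
    obtain ⟨x, hx⟩ := hw
    apply Subtype.ext
    rw [Subgroup.coe_pow, Subgroup.coe_one]
    show w ^ n = 1
    rw [← hx, powHom_apply, ← pow_mul]
    obtain ⟨t, rfl⟩ := hkm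
    have : Nat.card E ∣ m * t * n := by
      have : m * t * n = m * n * t := by ring
      rw [this]
      exact hE.mul_right t
    exact pow_eq_one_of_card_dvd this x
  have hcop : (Nat.card R).Coprime m := by
    apply Nat.Coprime.symm
    rw [Nat.coprime_comm]
    refine Nat.coprime_of_dvd ?_
    intro q hq hqR hqm
    haveI : Fact q.Prime := ⟨hq⟩
    obtain ⟨w, hw⟩ := exists_prime_orderOf_dvd_card' q hqR
    have h1 : q ∣ n := by
      rw [← hw]
      exact orderOf_dvd_of_pow_eq_one (hpow w)
    have := Nat.dvd_gcd hqm h1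
    rw [hmn.gcd_eq_one] at this
    exact hq.one_lt.ne' (Nat.dvd_one.mp this)
  exact hcop.dvd_of_dvd_mul_left hRE

end PowerMap

section Scaled

/-- Averaging over cosets: if `J` takes algebraic-integer values, is constant on the left cosets of
`A`, and the index of `A` divides `n`, then `n / |E| * ∑ J` is an algebraic integer. -/
theorem isIntegral_scaled_sum {E : Type*} [Group E] [Fintype E] (A : Subgroup E) (n : ℕ)
    (hA : A.index ∣ n) (J : E → ℂ) (hJ : ∀ x, IsIntegral ℤ (J x))
    (hJc : ∀ x, ∀ a ∈ A, J (x * a) = J x) :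
    IsIntegral ℤ ((n : ℂ) * (Nat.card E : ℂ)⁻¹ * ∑ x, J x) := by
  classical
  obtain ⟨S, hS, -⟩ := Subgroup.exists_isComplement_left A 1
  haveI : Fintype S := Fintype.ofFinite S
  rw [sum_eq_card_nsmul_sum_transversal A S hS J hJc]
  obtain ⟨t, rfl⟩ := hA
  have hcard : Nat.card E = A.index * Nat.card A := by
    rw [mul_comm]; exact (Subgroup.card_mul_index A).symm
  have hi0 : (A.index : ℂ) ≠ 0 := by
    have : A.index ≠ 0 := Subgroup.index_ne_zero_of_finite
    exact_mod_cast this
  have hA0 : (Nat.card A : ℂ) ≠ 0 := by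
    have : Nat.card A ≠ 0 := Nat.card_pos.ne'
    exact_mod_cast this
  have : ((A.index * t : ℕ) : ℂ) * (Nat.card E : ℂ)⁻¹ * (Nat.card A • ∑ s : S, J s) =
      (t : ℂ) * ∑ s : S, J s := by
    rw [hcard, nsmul_eq_mul]
    push_cast
    field_simp
  rw [this]
  have h1 : IsIntegral ℤ ((t : ℂ)) := by
    have := isIntegral_algebraMap (R := ℤ) (A := ℂ) (x := (t : ℤ))
    simpa using this
  exact h1.mul (IsIntegral.sum _ fun s _ => hJ s)

end Scaled

section Main

variable {G : Type u} [Group G] [Fintype G]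

/-- Key step: for `f` in the Brauer span, `⟨f ϑ, χ⟩` is an algebraic integer, where `ϑ` is `n` times
the indicator of `{x | F (x ^ k)}` (`x ^ k` being the `π(n)`-part of `x`). -/
theorem isIntegral_inner_mul_of_mem {m n k : ℕ} (hmn : Nat.card G = m * n) (hcop : m.Coprime n)
    (hkm : m ∣ k) (hkn : k ≡ 1 [MOD n]) (F : G → Prop)
    (ϑ : G → ℂ) (hϑcl : IsClassFunction G ϑ)
    (hϑ1 : ∀ x, F (x ^ k) → ϑ x = n) (hϑ0 : ∀ x, ¬ F (x ^ k) → ϑ x = 0)
    {χ : G → ℂ} (hχ : IsCharacter G χ) {f : G → ℂ} (hf : f ∈ brauerSpanAll G) :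
    IsIntegral ℤ (classInner (f * ϑ) χ) := by
  classical
  unfold brauerSpanAll at hf
  induction hf using AddSubgroup.closure_induction with
  | mem f hf =>
    obtain ⟨p, E, φ, hp, hE', hφ, rfl⟩ := hf
    haveI : Fintype E := Fintype.ofFinite E
    rw [← Cfsg.Agent.Helper15.indFun_mul_restrict E φ ϑ hϑcl,
      Cfsg.Agent.Helper15.frobenius_reciprocity E _ χ
        (Helper74.isClassFunction_of_isCharacter hχ)]
    haveI : Group.IsNilpotent E := isNilpotent_of_isElementary hp hE'
    have hEd : Nat.card E ∣ m * n := hmn ▸ Subgroup.card_subgroup_dvd_card E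
    set π := powHom hcop hEd hkm hkn with hπ
    set A := π.ker with hA
    haveI : Fintype A := Fintype.ofFinite A
    have hA0 : (Nat.card A : ℂ) ≠ 0 := by
      have : Nat.card A ≠ 0 := Nat.card_pos.ne'
      exact_mod_cast this
    -- the character ζ = φ * conj χ|_E
    have hζ : IsCharacter E (fun x => φ x * conj (χ x)) :=
      Helper74.isCharacter_mul hφ
        (Helper74.isCharacter_conj (Helper74.isCharacter_restrict E hχ))
    obtain ⟨d, ρ, hρ⟩ := hζ
    set ζ : E → ℂ := fun x => φ x * conj (χ x) with hζdef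
    set I : E → ℂ := fun x => (Nat.card A : ℂ)⁻¹ * ∑ a : A, ζ (x * a) with hI
    set c : E → ℂ := fun x => if F ((x : G) ^ k) then 1 else 0 with hc
    have hIint : ∀ x, IsIntegral ℤ (I x) := by
      intro x
      have := isIntegral_avg_char ρ A x
      rw [hρ] at this
      exact this
    have hcint : ∀ x, IsIntegral ℤ (c x) := by
      intro x
      simp only [hc]
      split_ifs
      · exact isIntegral_one
      · exact isIntegral_zero
    have hkey : ∀ x : E, ∀ a ∈ A, (x * a) ^ k = x ^ k := by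
      intro x a ha
      have h1 : π (x * a) = π x := by rw [map_mul, MonoidHom.mem_ker.mp ha, mul_one]
      exact h1
    have hc_coset : ∀ x : E, ∀ a ∈ A, c (x * a) = c x := by
      intro x a ha
      simp only [hc]
      have h2 : ((x * a : E) : G) ^ k = (x : G) ^ k := by
        have := congrArg Subtype.val (hkey x a ha)
        simpa using this
      rw [h2]
    have hI_coset : ∀ x : E, ∀ a ∈ A, I (x * a) = I x := by
      intro x a ha
      simp only [hI]
      congr 1
      refine Fintype.sum_equiv (Equiv.mulLeft (⟨a, ha⟩ : A)) _ _ fun a' => ?_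
      simp [mul_assoc]
    -- the main identity
    have hsum : ∑ x : E, c x * ζ x = ∑ x : E, c x * I x := by
      have h1 : ∀ a : A, ∑ x : E, c x * ζ (x * a) = ∑ x : E, c x * ζ x := by
        intro a
        refine Fintype.sum_equiv (Equiv.mulRight (a : E)) _ _ fun x => ?_
        simp only [Equiv.coe_mulRight]
        rw [hc_coset x a a.2]
      have h2 : ∑ x : E, c x * I x = (Nat.card A : ℂ)⁻¹ * ∑ a : A, ∑ x : E, c x * ζ (x * a) := by
        rw [Finset.sum_comm, Finset.mul_sum]
        refine Finset.sum_congr rfl fun x _ => ?_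
        simp only [hI]
        rw [Finset.mul_sum, Finset.mul_sum, Finset.mul_sum]
        refine Finset.sum_congr rfl fun a _ => ?_
        ring
      rw [h2, Finset.sum_congr rfl fun a _ => h1 a, Finset.sum_const, Finset.card_univ,
        nsmul_eq_mul, ← Nat.card_eq_fintype_card, ← mul_assoc, inv_mul_cancel₀ hA0, one_mul]
    have hϑc : ∀ x : E, ϑ x = (n : ℂ) * c x := by
      intro x
      simp only [hc]
      split_ifs with h
      · rw [hϑ1 _ h, mul_one]
      · rw [hϑ0 _ h, mul_zero]
    have hinner : classInner (φ * fun h : E => ϑ h) (fun h : E => χ h) =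
        (n : ℂ) * (Nat.card E : ℂ)⁻¹ * ∑ x : E, c x * I x := by
      rw [← hsum, Cfsg.Agent.Helper15.classInner_apply]
      have hx : ∀ x : E, (φ * fun h : E => ϑ h) x * conj (χ x) = (n : ℂ) * (c x * ζ x) := by
        intro x
        simp only [Pi.mul_apply, hζdef]
        rw [hϑc x]
        ring
      rw [Finset.sum_congr rfl fun x _ => hx x, ← Finset.mul_sum]
      ring
    rw [hinner]
    exact isIntegral_scaled_sum A n (index_ker_powHom_dvd hcop hEd hkm hkn) _
      (fun x => (hcint x).mul (hIint x))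
      (fun x a ha => by rw [hc_coset x a ha, hI_coset x a ha])
  | zero =>
    rw [zero_mul, Cfsg.Agent.Helper15.classInner_zero_left]
    exact isIntegral_zero
  | add f g _ _ hf hg =>
    rw [add_mul, Cfsg.Agent.Helper15.classInner_add_left]
    exact hf.add hg
  | neg f _ hf =>
    rw [neg_mul, Cfsg.Agent.Helper15.classInner_neg_left]
    exact hf.neg

/-- **Isaacs 8.19-type result**: `n` times the indicator function of the elements whose
`π(n)`-part satisfies a conjugation-invariant predicate is an `AlgInt`-combination of irreducible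
characters. -/
theorem isIntegral_inner_section {m n k : ℕ} (hmn : Nat.card G = m * n) (hcop : m.Coprime n)
    (hkm : m ∣ k) (hkn : k ≡ 1 [MOD n]) (F : G → Prop)
    (ϑ : G → ℂ) (hϑcl : IsClassFunction G ϑ)
    (hϑ1 : ∀ x, F (x ^ k) → ϑ x = n) (hϑ0 : ∀ x, ¬ F (x ^ k) → ϑ x = 0)
    {χ : G → ℂ} (hχ : IsCharacter G χ) : IsIntegral ℤ (classInner ϑ χ) := by
  have h := isIntegral_inner_mul_of_mem hmn hcop hkm hkn F ϑ hϑcl hϑ1 hϑ0 hχ
    (one_mem_brauerSpanAll (G := G))
  have h1 : (fun _ : G => (1 : ℂ)) * ϑ = ϑ := by funext g; simp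
  rwa [h1] at h

end Main

end Cfsg.Agent.Helper3
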