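import Mathlib
import Cfsg.Prelude.Def_Perm

/-!
# Elements of order 7 in the semi-affine group of `GF(8)` are affine

Used to exclude the semi-affine alternative of S0732 for `p = 7` in S4504.
-/

set_option autoImplicit false

namespace Cfsg.Agent.Helper3.SemiAff8

open Cfsg

/-- every ring automorphism of `GF(8)` has order dividing 3 -/
theorem ringAut_pow_three (φ : GaloisField 2 3 ≃+* GaloisField 2 3) (x : GaloisField 2 3) :
    φ (φ (φ x)) = x := by
  have hcomm : ∀ r : ZMod 2, φ (algebraMap (ZMod 2) (GaloisField 2 3) r) =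
      algebraMap (ZMod 2) (GaloisField 2 3) r := by
    intro r
    have : (φ : GaloisField 2 3 →+* GaloisField 2 3).comp (algebraMap (ZMod 2) (GaloisField 2 3)) =
        algebraMap (ZMod 2) (GaloisField 2 3) := Subsingleton.elim _ _
    exact congrFun (congrArg DFunLike.coe this) r
  let ψ : GaloisField 2 3 ≃ₐ[ZMod 2] GaloisField 2 3 := AlgEquiv.ofRingEquiv (f := φ) hcomm
  have hcard : Nat.card (GaloisField 2 3 ≃ₐ[ZMod 2] GaloisField 2 3) = 3 := by
    rw [IsGalois.card_aut_eq_finrank, GaloisField.finrank 2 (by norm_num)]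
  have h3 : ψ ^ 3 = 1 := by
    have h := pow_card_eq_one' (G := GaloisField 2 3 ≃ₐ[ZMod 2] GaloisField 2 3) (x := ψ)
    rw [hcard] at h
    exact h
  have := congrArg (fun e : GaloisField 2 3 ≃ₐ[ZMod 2] GaloisField 2 3 => e x) h3
  simpa [pow_succ, ψ] using this


/-- the affine maps `x ↦ a x + b` of a ring, as permutations -/
def affineSub (R : Type*) [Ring R] : Subgroup (Equiv.Perm R) where
  carrier := {σ | ∃ a : Rˣ, ∃ b : R, ∀ x, σ x = (a : R) * x + b}
  one_mem' := ⟨1, 0, fun x => by simp⟩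
  mul_mem' := by
    rintro σ τ ⟨a, b, hσ⟩ ⟨c, d, hτ⟩
    refine ⟨a * c, (a : R) * d + b, fun x => ?_⟩
    simp only [Equiv.Perm.coe_mul, Function.comp_apply, hτ, hσ, Units.val_mul, mul_add, mul_assoc,
      add_assoc]
  inv_mem' := by
    rintro σ ⟨a, b, hσ⟩
    refine ⟨a⁻¹, -(((a⁻¹ : Rˣ) : R) * b), fun x => ?_⟩
    apply σ.injective
    rw [Equiv.Perm.inv_def, Equiv.apply_symm_apply, hσ]
    simp only [mul_add, ← mul_assoc, Units.mul_inv, one_mul, mul_neg, neg_add_cancel_right]

theorem card_affineSub_le (R : Type*) [Ring R] [Finite R] :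
    Nat.card (affineSub R) ≤ Nat.card Rˣ * Nat.card R := by
  classical
  rw [← Nat.card_prod]
  have hex : ∀ σ : affineSub R, ∃ ab : Rˣ × R, ∀ x, (σ : Equiv.Perm R) x = (ab.1 : R) * x + ab.2 := by
    rintro ⟨σ, a, b, h⟩
    exact ⟨(a, b), h⟩
  choose F hF using hex
  apply Nat.card_le_card_of_injective F
  intro σ τ hst
  apply Subtype.ext
  apply Equiv.ext
  intro x
  rw [hF σ x, hF τ x, hst]

/-- the cube of a semi-affine map of `GF(8)` is affine -/
theorem pow_three_mem_affineSub {σ : Equiv.Perm (GaloisField 2 3)}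
    (hσ : σ ∈ semiaffineGroup (GaloisField 2 3)) : σ ^ 3 ∈ affineSub (GaloisField 2 3) := by
  obtain ⟨a, b, φ, h⟩ := hσ
  refine ⟨a * Units.map (φ : GaloisField 2 3 →* GaloisField 2 3) a *
      Units.map (φ : GaloisField 2 3 →* GaloisField 2 3)
        (Units.map (φ : GaloisField 2 3 →* GaloisField 2 3) a),
    (a : GaloisField 2 3) * φ a * φ (φ b) + (a : GaloisField 2 3) * φ b + b, fun x => ?_⟩
  have e : (σ ^ 3) x = σ (σ (σ x)) := by
    simp [pow_succ, Equiv.Perm.mul_apply]
  rw [e, h x, h, h]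
  simp only [map_add, map_mul, ringAut_pow_three, Units.val_mul, Units.coe_map, MonoidHom.coe_coe]
  ring

theorem mem_affineSub_of_pow_seven {σ : Equiv.Perm (GaloisField 2 3)}
    (hσ : σ ∈ semiaffineGroup (GaloisField 2 3)) (h7 : σ ^ 7 = 1) :
    σ ∈ affineSub (GaloisField 2 3) := by
  have h15 : σ = (σ ^ 3) ^ 5 := by
    rw [← pow_mul]
    have : σ ^ (3 * 5) = σ ^ 7 * σ ^ 7 * σ := by
      rw [← pow_add, ← pow_succ]
    rw [this, h7]
    simp
  rw [h15]
  exact Subgroup.pow_mem _ (pow_three_mem_affineSub hσ) 5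

/-- a group of semi-affine maps of `GF(8)` generated by elements `σ` with `σ ^ 7 = 1` has order
at most `56` -/
theorem card_le_of_generated (H : Subgroup (Equiv.Perm (GaloisField 2 3)))
    (hgen : H ≤ Subgroup.closure
      {σ | σ ∈ semiaffineGroup (GaloisField 2 3) ∧ σ ^ 7 = 1}) : Nat.card H ≤ 56 := by
  have hle : H ≤ affineSub (GaloisField 2 3) := by
    refine hgen.trans ?_
    rw [Subgroup.closure_le]
    rintro σ ⟨h1, h2⟩
    exact mem_affineSub_of_pow_seven h1 h2
  have h1 : Nat.card H ≤ Nat.card (affineSub (GaloisField 2 3)) :=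
    Subgroup.card_le_of_le hle
  have h2 := card_affineSub_le (GaloisField 2 3)
  have h3 : Nat.card (GaloisField 2 3) = 8 := by
    rw [GaloisField.card 2 3 (by norm_num)]
    norm_num
  have h4 : Nat.card (GaloisField 2 3)ˣ = 7 := by
    haveI : Fintype (GaloisField 2 3) := Fintype.ofFinite _
    classical
    rw [Nat.card_eq_fintype_card, Fintype.card_units, ← Nat.card_eq_fintype_card, h3]
  rw [h3, h4] at h2
  omega

end Cfsg.Agent.Helper3.SemiAff8
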