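import Mathlib
import Cfsg.Agent.S0732
import Cfsg.Agent.Helper3.SemiAff8
import Cfsg.Agent.Helper70.DefOneXG

/-!
# Recognition of `PSL(2,p)` from `p + 1` Sylow `p`-subgroups (end of S4504)

`G` finite, `P` a Sylow `p`-subgroup of order `p`, exactly `p + 1` Sylow `p`-subgroups,
`C_G(P) = P Z(G)`, `|N_G(P) : C_G(P)| = (p-1)/2 ≥ 2`, and `G` generated modulo its centre by
elements `g` with `g ^ p = 1`.  Then `G / Z(G) ≅ PSL(2, p)` (S0732).
-/

set_option autoImplicit false

namespace Cfsg.Agent.Helper3.BP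

open Cfsg

universe u

variable {G : Type u} [Group G] [Finite G] {p : ℕ} [Fact p.Prime] (P : Sylow p G)

/-- the kernel of the action on the Sylow `p`-subgroups -/
noncomputable def sylKer (p : ℕ) (G : Type u) [Group G] : Subgroup G :=
  (MulAction.toPermHom G (Sylow p G)).ker

theorem mem_sylKer_iff (k : G) : k ∈ sylKer p G ↔ ∀ Q : Sylow p G, k • Q = Q := by
  unfold sylKer
  rw [MonoidHom.mem_ker]
  constructor
  · intro h Q
    have := congrArg (fun e : Equiv.Perm (Sylow p G) => e Q) h
    simpa using this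
  · intro h
    apply Equiv.ext
    intro Q
    simpa using h Q


theorem center_le_sylKer : Subgroup.center G ≤ sylKer p G := by
  intro z hz
  rw [mem_sylKer_iff]
  intro Q
  rw [Sylow.smul_eq_iff_mem_normalizer]
  exact Subgroup.center_le_normalizer _ hz

theorem sylKer_le_normalizer : sylKer p G ≤ Subgroup.normalizer ((P : Subgroup G) : Set G) := by
  intro k hk
  rw [mem_sylKer_iff] at hk
  exact Sylow.smul_eq_iff_mem_normalizer.mp (hk P)

instance sylKer_normal : (sylKer p G).Normal := by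
  unfold sylKer
  infer_instance

omit [Finite G] in
/-- a non-trivial element of `P` generates `P` -/
theorem mem_zpowers_of_mem (hP : Nat.card P = p) {x : G} (hx : x ∈ (P : Subgroup G)) (hx1 : x ≠ 1)
    {y : G} (hy : y ∈ (P : Subgroup G)) : y ∈ Subgroup.zpowers x := by
  have hp : p.Prime := Fact.out
  have : Fact (Nat.card (P : Subgroup G)).Prime := ⟨by rw [hP]; exact hp⟩
  have h1 : (⟨x, hx⟩ : (P : Subgroup G)) ≠ 1 := by
    intro h
    exact hx1 (congrArg Subtype.val h)
  have h2 := mem_zpowers_of_prime_card (G := (P : Subgroup G)) (g := ⟨x, hx⟩) (g' := ⟨y, hy⟩) rfl h1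
  obtain ⟨k, hk⟩ := Subgroup.mem_zpowers_iff.mp h2
  refine Subgroup.mem_zpowers_iff.mpr ⟨k, ?_⟩
  have := congrArg Subtype.val hk
  simpa using this

theorem sylKer_inf_eq_bot (hP : Nat.card P = p) (hsyl : Nat.card (Sylow p G) ≠ 1) :
    sylKer p G ⊓ (P : Subgroup G) = ⊥ := by
  rw [eq_bot_iff]
  intro x hx
  rw [Subgroup.mem_bot]
  by_contra hx1
  obtain ⟨hxK, hxP⟩ := Subgroup.mem_inf.mp hx
  apply hsyl
  rw [Nat.card_eq_one_iff_unique]
  refine ⟨⟨fun Q R => ?_⟩, ⟨P⟩⟩
  have key : ∀ Q : Sylow p G, Q = P := by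
    intro Q
    -- `x` normalizes `Q`, so `x ∈ Q`
    have hxN : x ∈ Subgroup.normalizer ((Q : Subgroup G) : Set G) := sylKer_le_normalizer Q hxK
    have hPp : IsPGroup p (P : Subgroup G) := P.isPGroup'
    have h1 := hPp.inf_normalizer_sylow Q
    have hxQ : x ∈ (Q : Subgroup G) := by
      have : x ∈ (P : Subgroup G) ⊓ Subgroup.normalizer ((Q : Subgroup G) : Set G) :=
        Subgroup.mem_inf.mpr ⟨hxP, hxN⟩
      have this' : x ∈ (P : Subgroup G) ⊓ (Q : Subgroup G) := h1 ▸ this
      exact (Subgroup.mem_inf.mp this').2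
    have hle : (P : Subgroup G) ≤ (Q : Subgroup G) := by
      intro y hy
      have := mem_zpowers_of_mem P hP hxP hx1 hy
      exact (Subgroup.zpowers_le.mpr hxQ) this
    exact Sylow.ext (P.3 Q.2 hle)
  rw [key Q, key R]

theorem sylKer_le_centralizer (hP : Nat.card P = p) (hsyl : Nat.card (Sylow p G) ≠ 1) :
    sylKer p G ≤ Subgroup.centralizer ((P : Subgroup G) : Set G) := by
  intro k hk
  rw [Subgroup.mem_centralizer_iff]
  intro x hx
  have hkN := sylKer_le_normalizer P hk
  have h1 : k * x * k⁻¹ ∈ (P : Subgroup G) := by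
    rw [Subgroup.mem_normalizer_iff] at hkN
    exact (hkN x).mp hx
  have h2 : k * x * k⁻¹ * x⁻¹ ∈ (P : Subgroup G) := Subgroup.mul_mem _ h1 (Subgroup.inv_mem _ hx)
  have h3 : k * x * k⁻¹ * x⁻¹ ∈ sylKer p G := by
    have : x * k⁻¹ * x⁻¹ ∈ sylKer p G :=
      (sylKer_normal (p := p) (G := G)).conj_mem _ (Subgroup.inv_mem _ hk) x
    have e : k * x * k⁻¹ * x⁻¹ = k * (x * k⁻¹ * x⁻¹) := by group
    rw [e]
    exact Subgroup.mul_mem _ hk this
  have h4 : k * x * k⁻¹ * x⁻¹ ∈ sylKer p G ⊓ (P : Subgroup G) := Subgroup.mem_inf.mpr ⟨h3, h2⟩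
  rw [sylKer_inf_eq_bot P hP hsyl, Subgroup.mem_bot] at h4
  have : k * x = x * k := by
    have e : k * x = (k * x * k⁻¹ * x⁻¹) * (x * k) := by group
    rw [e, h4, one_mul]
  exact this.symm

theorem sylKer_eq_center (hP : Nat.card P = p) (hsyl : Nat.card (Sylow p G) ≠ 1)
    (hcen : ∀ c ∈ Subgroup.centralizer ((P : Subgroup G) : Set G),
      ∃ x ∈ (P : Subgroup G), ∃ z ∈ Subgroup.center G, c = x * z) :
    sylKer p G = Subgroup.center G := by
  apply le_antisymm _ center_le_sylKer
  intro k hk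
  obtain ⟨x, hx, z, hz, rfl⟩ := hcen k (sylKer_le_centralizer P hP hsyl hk)
  have hxK : x ∈ sylKer p G := by
    have : x = x * z * z⁻¹ := by group
    rw [this]
    exact Subgroup.mul_mem _ hk (Subgroup.inv_mem _ (center_le_sylKer hz))
  have : x ∈ sylKer p G ⊓ (P : Subgroup G) := Subgroup.mem_inf.mpr ⟨hxK, hx⟩
  rw [sylKer_inf_eq_bot P hP hsyl, Subgroup.mem_bot] at this
  rw [this, one_mul]
  exact hz


/-- `C_G(P) = P Z(G)` when the `p`-regular elements of `C_G(P)` are central -/
theorem exists_mul_of_mem_centralizer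
    (hreg : ∀ g : G, g ∈ Subgroup.centralizer ((P : Subgroup G) : Set G) → ¬ p ∣ orderOf g →
      g ∈ Subgroup.center G)
    (c : G) (hc : c ∈ Subgroup.centralizer ((P : Subgroup G) : Set G)) :
    ∃ x ∈ (P : Subgroup G), ∃ z ∈ Subgroup.center G, c = x * z := by
  obtain ⟨u, y, hu, hy, huy, ⟨k, hk⟩, hyreg⟩ := Helper70.DefOneXG.exists_pPart_decomp (p := p) c
  have hzC : Subgroup.zpowers c ≤ Subgroup.centralizer ((P : Subgroup G) : Set G) := by
    rw [Subgroup.zpowers_le]
    exact hc
  have huP : u ∈ (P : Subgroup G) :=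
    Helper70.DefOneXG.mem_sylow_of_pow P hk (Subgroup.centralizer_le_normalizer _ (hzC hu))
  exact ⟨u, huP, y, hreg y (hzC hy) hyreg, huy.symm⟩

theorem card_centralizer (hP : Nat.card P = p) (hsyl : Nat.card (Sylow p G) ≠ 1)
    (hreg : ∀ g : G, g ∈ Subgroup.centralizer ((P : Subgroup G) : Set G) → ¬ p ∣ orderOf g →
      g ∈ Subgroup.center G) :
    Nat.card (Subgroup.centralizer ((P : Subgroup G) : Set G)) =
      p * Nat.card (Subgroup.center G) := by
  have hPC : (P : Subgroup G) ≤ Subgroup.centralizer ((P : Subgroup G) : Set G) := by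
    intro x hx
    rw [Subgroup.mem_centralizer_iff]
    intro y hy
    have hy' : y ∈ (P : Subgroup G) := hy
    by_cases hx1 : x = 1
    · rw [hx1]; simp
    · obtain ⟨k, rfl⟩ := Subgroup.mem_zpowers_iff.mp (mem_zpowers_of_mem P hP hx hx1 hy')
      exact ((Commute.refl x).zpow_left k).eq
  have hZC : Subgroup.center G ≤ Subgroup.centralizer ((P : Subgroup G) : Set G) :=
    Subgroup.center_le_centralizer _
  let F : ↥(P : Subgroup G) × ↥(Subgroup.center G) →
      ↥(Subgroup.centralizer ((P : Subgroup G) : Set G)) :=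
    fun q => ⟨(q.1 : G) * (q.2 : G), Subgroup.mul_mem _ (hPC q.1.2) (hZC q.2.2)⟩
  have hinj : Function.Injective F := by
    rintro ⟨⟨x, hx⟩, ⟨z, hz⟩⟩ ⟨⟨x', hx'⟩, ⟨z', hz'⟩⟩ h
    have h1 : x * z = x' * z' := congrArg Subtype.val h
    have h2 : x'⁻¹ * x = z' * z⁻¹ := by
      have : x'⁻¹ * (x * z) * z⁻¹ = x'⁻¹ * (x' * z') * z⁻¹ := by rw [h1]
      simpa [mul_assoc] using this
    have h3 : x'⁻¹ * x ∈ sylKer p G ⊓ (P : Subgroup G) := by
      refine Subgroup.mem_inf.mpr ⟨?_, Subgroup.mul_mem _ (Subgroup.inv_mem _ hx') hx⟩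
      rw [h2]
      exact center_le_sylKer (Subgroup.mul_mem _ hz' (Subgroup.inv_mem _ hz))
    rw [sylKer_inf_eq_bot P hP hsyl, Subgroup.mem_bot] at h3
    have hxx : x = x' := by
      have : x' * (x'⁻¹ * x) = x' * 1 := by rw [h3]
      simpa using this
    subst hxx
    have hzz : z = z' := mul_left_cancel h1
    subst hzz
    rfl
  have hsurj : Function.Surjective F := by
    rintro ⟨c, hc⟩
    obtain ⟨x, hx, z, hz, rfl⟩ := exists_mul_of_mem_centralizer P hreg c hc
    exact ⟨(⟨x, hx⟩, ⟨z, hz⟩), rfl⟩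
  rw [← Nat.card_congr (Equiv.ofBijective F ⟨hinj, hsurj⟩), Nat.card_prod, hP]

/-- **(ORD)** the order of `G` -/
theorem card_eq_of_sylow_data (hP : Nat.card P = p) (f : ℕ)
    (hsyl : Nat.card (Sylow p G) = p + 1)
    (hidx : (Subgroup.centralizer ((P : Subgroup G) : Set G)).relIndex
      (Subgroup.normalizer ((P : Subgroup G) : Set G)) = f)
    (hreg : ∀ g : G, g ∈ Subgroup.centralizer ((P : Subgroup G) : Set G) → ¬ p ∣ orderOf g →
      g ∈ Subgroup.center G) :
    Nat.card G = (p + 1) * p * f * Nat.card (Subgroup.center G) := by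
  have hp : p.Prime := Fact.out
  have hsyl1 : Nat.card (Sylow p G) ≠ 1 := by
    rw [hsyl]
    have := hp.pos
    omega
  have h1 := Subgroup.relIndex_mul_index
    (Subgroup.centralizer_le_normalizer ((P : Subgroup G) : Set G))
  have h0 : (Subgroup.normalizer ((P : Subgroup G) : Set G)).index = p + 1 := by
    rw [← hsyl]
    exact (Sylow.card_eq_index_normalizer P).symm
  rw [hidx, h0] at h1
  have h2 := Subgroup.card_mul_index (Subgroup.centralizer ((P : Subgroup G) : Set G))
  rw [← h1, card_centralizer P hP hsyl1 hreg] at h2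
  rw [← h2]
  ring


theorem two_pow_arith {q : ℕ} (h : 2 * q + 2 = 2 ^ q) : q = 3 := by
  have hlt : q < 4 := by
    by_contra hcon
    obtain ⟨k, rfl⟩ : ∃ k, q = k + 4 := ⟨q - 4, by omega⟩
    have h1 : k < 2 ^ k := Nat.lt_two_pow_self
    have h2 : 2 ^ (k + 4) = 16 * 2 ^ k := by ring
    omega
  interval_cases q <;> simp_all

/-- **(PSL)** recognition of `PSL(2,p)` -/
theorem nonempty_mulEquiv_psl (hP : Nat.card P = p) (hp3 : 3 < p) (f : ℕ) (hf : 2 * f + 1 = p)
    (hsyl : Nat.card (Sylow p G) = p + 1)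
    (hidx : (Subgroup.centralizer ((P : Subgroup G) : Set G)).relIndex
      (Subgroup.normalizer ((P : Subgroup G) : Set G)) = f)
    (hreg : ∀ g : G, g ∈ Subgroup.centralizer ((P : Subgroup G) : Set G) → ¬ p ∣ orderOf g →
      g ∈ Subgroup.center G)
    (hgen : ∀ H : Subgroup G, (∀ g : G, orderOf g = p → g ∈ H) → Subgroup.center G ≤ H →
      H = ⊤) :
    Nonempty (G ⧸ Subgroup.center G ≃*
      Matrix.ProjectiveSpecialLinearGroup (Fin 2) (ZMod p)) := by
  classical
  have hp : p.Prime := Fact.out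
  have hsyl1 : Nat.card (Sylow p G) ≠ 1 := by
    rw [hsyl]; omega
  haveI : Fintype (Sylow p G) := Fintype.ofFinite _
  set φ : G →* Equiv.Perm (Sylow p G) := MulAction.toPermHom G (Sylow p G) with hφ
  have hker : φ.ker = Subgroup.center G :=
    sylKer_eq_center P hP hsyl1 (exists_mul_of_mem_centralizer P hreg)
  -- `G / Z(G) ≅ range φ`
  have e1 : G ⧸ Subgroup.center G ≃* φ.range :=
    (QuotientGroup.quotientMulEquivOfEq hker.symm).trans (QuotientGroup.quotientKerEquivRange φ)
  -- the order of the range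
  have hcardG := card_eq_of_sylow_data P hP f hsyl hidx hreg
  have hcardR : Nat.card φ.range = (p + 1) * p * f := by
    have h1 : Nat.card (G ⧸ Subgroup.center G) = Nat.card φ.range := Nat.card_congr e1.toEquiv
    have h2 := Subgroup.card_mul_index (Subgroup.center G)
    rw [Subgroup.index, h1, hcardG] at h2
    have hZ : 0 < Nat.card (Subgroup.center G) := Nat.card_pos
    have h3 : Nat.card (Subgroup.center G) * Nat.card φ.range =
        Nat.card (Subgroup.center G) * ((p + 1) * p * f) := by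
      rw [h2]; ring
    exact Nat.eq_of_mul_eq_mul_left hZ h3
  -- transitivity
  haveI : MulAction.IsPretransitive φ.range (Sylow p G) := by
    constructor
    intro Q R
    obtain ⟨g, hg⟩ := MulAction.exists_smul_eq G Q R
    refine ⟨⟨φ g, ⟨g, rfl⟩⟩, ?_⟩
    show (φ g) Q = R
    rw [hφ, MulAction.toPermHom_apply, MulAction.toPerm_apply]
    exact hg
  have hα : Fintype.card (Sylow p G) = p + 1 := by
    rw [← Nat.card_eq_fintype_card, hsyl]
  have hfp : f < p := by omega
  rcases Cfsg.Agent.S0732.result hp hα φ.range hcardR hfp with h | h | h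
  · exfalso
    omega
  · obtain ⟨-, ⟨e2⟩⟩ := h
    exact ⟨e1.trans e2⟩
  · exfalso
    obtain ⟨q, -, hpq, hfq, e, he⟩ := h
    have hq3 : q = 3 := by
      rcases hfq with h1 | h1
      · omega
      · apply two_pow_arith
        rw [← hpq]
        omega
    subst hq3
    have hp7 : p = 7 := by
      have : p + 1 = 8 := by rw [hpq]; norm_num
      omega
    have hf3 : f = 3 := by omega
    -- transport to `GF(8)`
    let c : Equiv.Perm (Sylow p G) ≃* Equiv.Perm (GaloisField 2 3) := e.permCongrHom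
    have hc : ∀ σ : Equiv.Perm (Sylow p G), c σ = e.symm.trans (σ.trans e) := by
      intro σ
      apply Equiv.ext
      intro x
      rfl
    set S : Set (Equiv.Perm (GaloisField 2 3)) :=
      {σ | σ ∈ semiaffineGroup (GaloisField 2 3) ∧ σ ^ 7 = 1} with hS
    let H₀ : Subgroup G := (Subgroup.closure S).comap (c.toMonoidHom.comp φ)
    have hH₀ : H₀ = ⊤ := by
      apply hgen
      · intro g hg
        show c (φ g) ∈ Subgroup.closure S
        apply Subgroup.subset_closure
        refine ⟨?_, ?_⟩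
        · rw [hc]
          exact he ⟨φ g, ⟨g, rfl⟩⟩
        · have hg7 : g ^ 7 = 1 := by
            have : orderOf g = 7 := by rw [hg, hp7]
            rw [← this]
            exact pow_orderOf_eq_one g
          rw [← map_pow, ← map_pow, hg7, map_one, map_one]
      · intro z hz
        show c (φ z) ∈ Subgroup.closure S
        have : φ z = 1 := by
          rw [← MonoidHom.mem_ker, hker]
          exact hz
        rw [this, map_one]
        exact Subgroup.one_mem _
    let H' : Subgroup (Equiv.Perm (GaloisField 2 3)) := φ.range.map c.toMonoidHom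
    have hH'le : H' ≤ Subgroup.closure S := by
      rintro _ ⟨_, ⟨g, rfl⟩, rfl⟩
      have : g ∈ H₀ := by rw [hH₀]; exact Subgroup.mem_top g
      exact this
    have hcard' : Nat.card H' = Nat.card φ.range :=
      Subgroup.card_map_of_injective c.injective
    have h56 := SemiAff8.card_le_of_generated H' hH'le
    rw [hcard', hcardR, hp7, hf3] at h56
    omega

end Cfsg.Agent.Helper3.BP
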