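import Cfsg.Agent.Helper57.BP.Lemmas

/-!
# Piece (T1) of S4504 (helper57): `ψ ψ̄'` has no `P`-fixed points for every other exceptional
character `ψ'` of the block of `θ`
-/

set_option autoImplicit false

namespace Cfsg.Agent.Helper3.BP

open Cfsg Cfsg.Agent.Helper16 Cfsg.Agent.Helper16.DefOne Cfsg.Agent.Helper82.DefOne
  Cfsg.Agent.Helper77.DefOne Cfsg.Agent.Helper57.BH Cfsg.Agent.Helper57.BP
open scoped ComplexConjugate

universe u

variable {G : Type u} [Group G] [Fintype G] {p : ℕ} [Fact p.Prime] (P : Sylow p G)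

/-- the `P`-sum of a character in terms of its constituents -/
theorem pSum_eq_sum_irr (Ξ : G → ℂ) (hΞ : IsCharacter G Ξ) [Fintype (IrrCharacter G)] :
    pSum P Ξ = ∑ χ : IrrCharacter G, classInner Ξ (χ : G → ℂ) * pSum P (χ : G → ℂ) := by
  classical
  let _ : Fintype (P : Subgroup G) := Fintype.ofFinite _
  have hsum := Helper74.isCharacter_eq_sum_irr hΞ
  rw [Helper14.BH.pSum_eq_sum]
  have h1 : ∀ x : (P : Subgroup G), Ξ (x : G) =
      ∑ χ : IrrCharacter G, classInner Ξ (χ : G → ℂ) * (χ : G → ℂ) (x : G) := by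
    intro x
    have := congrFun hsum (x : G)
    rw [Finset.sum_apply] at this
    rw [this]
    rfl
  rw [Finset.sum_congr rfl (fun x _ => h1 x), Finset.sum_comm]
  refine Finset.sum_congr rfl (fun χ _ => ?_)
  rw [← Finset.mul_sum, ← Helper14.BH.pSum_eq_sum]

/-- a linear functional on a character of the shape of `IsPslData` -/
theorem functional_decomp (L : (G → ℂ) → ℂ) (Ξ : G → ℂ) [Fintype (IrrCharacter G)]
    (hL : L Ξ = ∑ χ : IrrCharacter G, classInner Ξ (χ : G → ℂ) * L (χ : G → ℂ))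
    (X Y : Set (IrrCharacter G)) (hdisj : Disjoint X Y) (c : IrrCharacter G → ℂ)
    (hX : ∀ χ ∈ X, classInner Ξ (χ : G → ℂ) = c χ)
    (cY : ℂ) (hY : ∑ᶠ ψ₀ ∈ Y, classInner Ξ (ψ₀ : G → ℂ) = cY)
    (hout : ∀ χ : IrrCharacter G, χ ∉ X → χ ∉ Y → classInner Ξ (χ : G → ℂ) = 0)
    (s₀ : ℂ) (hs₀ : ∀ ψ₀ ∈ Y, L (ψ₀ : G → ℂ) = s₀) :
    L Ξ = ∑ᶠ χ ∈ X, c χ * L (χ : G → ℂ) + cY * s₀ := by
  classical
  have hXfin : X.Finite := Set.toFinite X
  have hYfin : Y.Finite := Set.toFinite Y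
  have hdisj' : Disjoint hXfin.toFinset hYfin.toFinset := by
    rw [Finset.disjoint_left]
    intro χ h1 h2
    exact Set.disjoint_left.mp hdisj (hXfin.mem_toFinset.mp h1) (hYfin.mem_toFinset.mp h2)
  have hsub : ∑ χ ∈ hXfin.toFinset ∪ hYfin.toFinset,
      classInner Ξ (χ : G → ℂ) * L (χ : G → ℂ) =
      ∑ χ : IrrCharacter G, classInner Ξ (χ : G → ℂ) * L (χ : G → ℂ) := by
    apply Finset.sum_subset (Finset.subset_univ _)
    intro χ _ hχ
    rw [Finset.mem_union, not_or] at hχ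
    rw [hout χ (fun h => hχ.1 (hXfin.mem_toFinset.mpr h))
      (fun h => hχ.2 (hYfin.mem_toFinset.mpr h)), zero_mul]
  rw [hL, ← hsub, Finset.sum_union hdisj', finsum_mem_eq_finite_toFinset_sum _ hXfin]
  congr 1
  · refine Finset.sum_congr rfl (fun χ hχ => ?_)
    rw [hX χ (hXfin.mem_toFinset.mp hχ)]
  · rw [← hY, finsum_mem_eq_finite_toFinset_sum _ hYfin, Finset.sum_mul]
    refine Finset.sum_congr rfl (fun χ hχ => ?_)
    rw [hs₀ χ (hYfin.mem_toFinset.mp hχ)]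


open Classical in
/-- (T1) `ψ ψ̄'` has no `P`-fixed points for every other exceptional character `ψ'` of the block
of `θ` -/
theorem pSum_mulConj_third (hP : Nat.card P = p)
    [((P : Subgroup G).subgroupOf (nor P)).Normal] (hmod : ModCount p P)
    {θ : IrrCharacter (cen P)} {ψ ψ₂ : IrrCharacter G}
    {φ₀ φ₂ : IrrCharacter (cen P)} {Xθ Yθ : Set (IrrCharacter G)} {εθ : IrrCharacter G → ℤ}
    (hE : IsExcPair P θ ψ ψ₂ φ₀ φ₂ Xθ Yθ εθ)
    {X Y : Set (IrrCharacter G)} {ε : IrrCharacter G → ℤ} {δ : ℤ}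
    (hD : IsPslData P ψ ψ₂ X Y ε δ)
    (ψ' : IrrCharacter G) (hψ' : ψ' ∈ Yθ) (hne' : ψ' ≠ ψ) :
    pSum P (mulConj (ψ : G → ℂ) (ψ' : G → ℂ)) = 0 := by
  haveI : Finite (IrrCharacter G) := Helper79.irr_finite'
  haveI : Fintype (IrrCharacter G) := Helper74.irrFintype G
  have hp : p.Prime := Fact.out
  have D := hD.D
  have hpf := hD.hpf
  set f := (cen P).relIndex (nor P) with hf
  have hXfin : X.Finite := Set.toFinite X
  have hYfin : Y.Finite := Set.toFinite Y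
  have h1reg : ¬ p ∣ orderOf (1 : G) := by
    rw [orderOf_one]
    exact hp.not_dvd_one
  -- `ψ'` agrees with `ψ` on the `p`-regular elements
  have hreg' : ∀ g : G, ¬ p ∣ orderOf g → (ψ' : G → ℂ) g = (ψ : G → ℂ) g := by
    intro g hg
    have e1 := hE.Dθ.rel ψ' hψ' g hg
    have e2 := hE.Dθ.rel ψ hE.hψ g hg
    have e3 := e1.trans e2.symm
    simpa using e3
  have hdeg' : charDegree (ψ' : G → ℂ) = f := by
    have e := hreg' 1 h1reg
    rw [Helper79.irr_one, Helper79.irr_one] at e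
    have : charDegree (ψ' : G → ℂ) = charDegree (ψ : G → ℂ) := by exact_mod_cast e
    rw [this, hE.hdeg]
  have hΞ' := isCharacter_mulConj ψ ψ'
  have hΞ₂ := isCharacter_mulConj ψ ψ₂
  -- multiplicities
  choose a' ha' using fun χ : IrrCharacter G => Helper74.isCharacter_inner_irr_nat hΞ' χ
  choose a₂ ha₂ using fun χ : IrrCharacter G => Helper74.isCharacter_inner_irr_nat hΞ₂ χ
  -- on `X`
  have hX' : ∀ χ ∈ X, classInner (mulConj (ψ : G → ℂ) (ψ' : G → ℂ)) (χ : G → ℂ) =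
      classInner (mulConj (ψ : G → ℂ) (ψ₂ : G → ℂ)) (χ : G → ℂ) := by
    intro χ hχ
    have h1 := classInner_mulConj_sub (p := p) ψ ψ' hne'.symm hreg' (χ : G → ℂ) (ε χ : ℂ)
      (fun g hg => apply_singular_X0 P hP D χ hχ g hg)
    have h2 := classInner_mulConj_sub (p := p) ψ ψ₂ hE.hne hE.hreg (χ : G → ℂ) (ε χ : ℂ)
      (fun g hg => apply_singular_X0 P hP D χ hχ g hg)
    have h3 := h1.trans h2.symm
    exact (sub_right_injective h3)
  -- on `Y`
  have hfun : (fun g => ∑ᶠ ψ₀ ∈ Y, (ψ₀ : G → ℂ) g) =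
      ∑ ψ₀ ∈ hYfin.toFinset, (ψ₀ : G → ℂ) := by
    funext g
    rw [finsum_mem_eq_finite_toFinset_sum _ hYfin, Finset.sum_apply]
  have hY' : ∑ᶠ ψ₀ ∈ Y, classInner (mulConj (ψ : G → ℂ) (ψ' : G → ℂ)) (ψ₀ : G → ℂ) =
      ∑ᶠ ψ₀ ∈ Y, classInner (mulConj (ψ : G → ℂ) (ψ₂ : G → ℂ)) (ψ₀ : G → ℂ) := by
    have h1 := classInner_mulConj_sub (p := p) ψ ψ' hne'.symm hreg'
      (fun g => ∑ᶠ ψ₀ ∈ Y, (ψ₀ : G → ℂ) g) (-(δ : ℂ))
      (fun g hg => finsum_Y0_singular P hP hmod D g hg)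
    have h2 := classInner_mulConj_sub (p := p) ψ ψ₂ hE.hne hE.hreg
      (fun g => ∑ᶠ ψ₀ ∈ Y, (ψ₀ : G → ℂ) g) (-(δ : ℂ))
      (fun g hg => finsum_Y0_singular P hP hmod D g hg)
    have h3 := sub_right_injective (h1.trans h2.symm)
    rw [hfun, Helper74.classInner_sum_right, Helper74.classInner_sum_right] at h3
    rw [finsum_mem_eq_finite_toFinset_sum _ hYfin, finsum_mem_eq_finite_toFinset_sum _ hYfin]
    exact h3
  -- natural-number versions
  have haX : ∀ χ ∈ X, a' χ = a₂ χ := by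
    intro χ hχ
    have := hX' χ hχ
    rw [ha', ha₂] at this
    exact_mod_cast this
  have haY : ∑ χ ∈ hYfin.toFinset, a' χ = ∑ χ ∈ hYfin.toFinset, a₂ χ := by
    have := hY'
    rw [finsum_mem_eq_finite_toFinset_sum _ hYfin, finsum_mem_eq_finite_toFinset_sum _ hYfin] at this
    have h2 : ((∑ χ ∈ hYfin.toFinset, a' χ : ℕ) : ℂ) = ((∑ χ ∈ hYfin.toFinset, a₂ χ : ℕ) : ℂ) := by
      push_cast
      rw [← Finset.sum_congr rfl (fun χ _ => ha' χ), ← Finset.sum_congr rfl (fun χ _ => ha₂ χ)]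
      exact this
    exact_mod_cast h2
  have ha₂out : ∀ χ : IrrCharacter G, χ ∉ X → χ ∉ Y → a₂ χ = 0 := by
    intro χ h1 h2
    have := hD.n2out χ h1 h2
    rw [ha₂] at this
    exact_mod_cast this
  -- degrees
  have htot' := charDegree_eq_sum _ hΞ' a' ha'
  have htot₂ := charDegree_eq_sum _ hΞ₂ a₂ ha₂
  rw [charDegree_mulConj, hE.hdeg, hdeg'] at htot'
  rw [charDegree_mulConj, hE.hdeg, hE.hdeg₂] at htot₂
  have hdisj' : Disjoint hXfin.toFinset hYfin.toFinset := by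
    rw [Finset.disjoint_left]
    intro χ h1 h2
    exact Set.disjoint_left.mp D.disj (hXfin.mem_toFinset.mp h1) (hYfin.mem_toFinset.mp h2)
  set S := hXfin.toFinset ∪ hYfin.toFinset with hS
  have hdY : ∀ χ ∈ hYfin.toFinset, charDegree (χ : G → ℂ) =
      (if δ = 1 then f else f + 1) := fun χ hχ => hD.degY χ (hYfin.mem_toFinset.mp hχ)
  have hS' : ∑ χ ∈ S, a' χ * charDegree (χ : G → ℂ) = ∑ χ ∈ S, a₂ χ * charDegree (χ : G → ℂ) := by
    rw [hS, Finset.sum_union hdisj', Finset.sum_union hdisj']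
    congr 1
    · refine Finset.sum_congr rfl (fun χ hχ => ?_)
      rw [haX χ (hXfin.mem_toFinset.mp hχ)]
    · rw [Finset.sum_congr rfl (fun χ hχ => by rw [hdY χ hχ]),
        Finset.sum_congr rfl (fun χ hχ => by rw [hdY χ hχ] :
          ∀ χ ∈ hYfin.toFinset, a₂ χ * charDegree (χ : G → ℂ) = a₂ χ * (if δ = 1 then f else f + 1)),
        ← Finset.sum_mul, ← Finset.sum_mul, haY]
  have hS₂ : ∑ χ ∈ Sᶜ, a₂ χ * charDegree (χ : G → ℂ) = 0 := by
    apply Finset.sum_eq_zero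
    intro χ hχ
    rw [Finset.mem_compl, hS, Finset.mem_union, not_or] at hχ
    rw [ha₂out χ (fun h => hχ.1 (hXfin.mem_toFinset.mpr h))
      (fun h => hχ.2 (hYfin.mem_toFinset.mpr h)), zero_mul]
  rw [← Finset.sum_add_sum_compl S] at htot' htot₂
  have hSc : ∑ χ ∈ Sᶜ, a' χ * charDegree (χ : G → ℂ) = 0 := by
    obtain ⟨N, hN⟩ : ∃ N, f * f = N := ⟨_, rfl⟩
    rw [hN] at htot' htot₂
    omega
  have ha'out : ∀ χ : IrrCharacter G, χ ∉ X → χ ∉ Y → a' χ = 0 := by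
    intro χ h1 h2
    have hmem : χ ∈ Sᶜ := by
      rw [Finset.mem_compl, hS, Finset.mem_union, not_or]
      exact ⟨fun h => h1 (hXfin.mem_toFinset.mp h), fun h => h2 (hYfin.mem_toFinset.mp h)⟩
    have h4 := (Finset.sum_eq_zero_iff.mp hSc) χ hmem
    have hpos := Helper79.irr_charDegree_pos χ
    rcases Nat.mul_eq_zero.mp h4 with h | h
    · exact h
    · omega
  -- the `P`-sum
  have hsY : ∀ ψ₀ ∈ Y, pSum P (ψ₀ : G → ℂ) =
      ((if δ = 1 then f else f + 1 : ℕ) : ℂ) - (δ : ℂ) * (f : ℂ) := by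
    intro ψ₀ hψ₀
    rw [pSum_Y0 P hP hmod D ψ₀ hψ₀, hD.degY ψ₀ hψ₀]
  have key := functional_decomp (pSum P) (mulConj (ψ : G → ℂ) (ψ' : G → ℂ))
    (pSum_eq_sum_irr P _ hΞ') X Y D.disj (fun χ => if ε χ = 1 then 0 else 1)
    (fun χ hχ => (hX' χ hχ).trans (hD.n2X χ hχ)) (if δ = 1 then 1 else 0)
    (hY'.trans hD.n2Y)
    (fun χ h1 h2 => by rw [ha', ha'out χ h1 h2]; simp) _ hsY
  rw [key]
  have hXzero : ∑ᶠ χ ∈ X, (if ε χ = 1 then (0 : ℂ) else 1) * pSum P (χ : G → ℂ) = 0 := by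
    apply finsum_mem_eq_zero_of_forall_eq_zero
    intro χ hχ
    rcases D.eps χ with h | h
    · rw [if_pos h, zero_mul]
    · have hne : ¬ ε χ = 1 := by rw [h]; norm_num
      rw [if_neg hne, one_mul, pSum_X0 P hP D χ hχ, h, hD.degXm χ hχ h]
      have hp1 : 1 ≤ p := hp.one_lt.le
      rw [Nat.cast_sub hp1]
      push_cast
      ring
  rw [hXzero, zero_add]
  by_cases hd : δ = 1
  · rw [if_pos hd, if_pos hd, hd]
    push_cast
    ring
  · rw [if_neg hd, zero_mul]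

end Cfsg.Agent.Helper3.BP
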