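import Cfsg.Agent.Helper57.BP.Lemmas

/-!
# Piece (U4) of S4504 (helper57): the class-constant sum over the principal block
-/

set_option autoImplicit false

namespace Cfsg.Agent.Helper3.BP

open Cfsg Cfsg.Agent.Helper16 Cfsg.Agent.Helper16.DefOne Cfsg.Agent.Helper82.DefOne
  Cfsg.Agent.Helper77.DefOne Cfsg.Agent.Helper57.BH Cfsg.Agent.Helper57.BP
open scoped ComplexConjugate

universe u

variable {G : Type u} [Group G] [Fintype G] {p : ℕ} [Fact p.Prime] (P : Sylow p G)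

/-- evaluation of a character of the shape of `IsPslData` at an element where `Y` is constant -/
theorem eval_decomp (Ξ : G → ℂ) (hΞ : IsCharacter G Ξ) (X Y : Set (IrrCharacter G))
    (hdisj : Disjoint X Y) (c : IrrCharacter G → ℂ)
    (hX : ∀ χ ∈ X, classInner Ξ (χ : G → ℂ) = c χ)
    (cY : ℂ) (hY : ∑ᶠ ψ₀ ∈ Y, classInner Ξ (ψ₀ : G → ℂ) = cY)
    (hout : ∀ χ : IrrCharacter G, χ ∉ X → χ ∉ Y → classInner Ξ (χ : G → ℂ) = 0)
    (z : G) (y₀ : ℂ) (hy₀ : ∀ ψ₀ ∈ Y, (ψ₀ : G → ℂ) z = y₀) :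
    Ξ z = ∑ᶠ χ ∈ X, c χ * (χ : G → ℂ) z + cY * y₀ := by
  classical
  haveI : Finite (IrrCharacter G) := Helper79.irr_finite'
  haveI : Fintype (IrrCharacter G) := Helper74.irrFintype G
  have hXfin : X.Finite := Set.toFinite X
  have hYfin : Y.Finite := Set.toFinite Y
  have hdec := congrFun (Helper74.isCharacter_eq_sum_irr hΞ) z
  simp only [Finset.sum_apply, Pi.smul_apply, smul_eq_mul] at hdec
  have hdisj' : Disjoint hXfin.toFinset hYfin.toFinset := by
    rw [Finset.disjoint_left]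
    intro χ h1 h2
    exact Set.disjoint_left.mp hdisj (hXfin.mem_toFinset.mp h1) (hYfin.mem_toFinset.mp h2)
  have hsub : ∑ χ ∈ hXfin.toFinset ∪ hYfin.toFinset,
      classInner Ξ (χ : G → ℂ) * (χ : G → ℂ) z =
      ∑ χ : IrrCharacter G, classInner Ξ (χ : G → ℂ) * (χ : G → ℂ) z := by
    apply Finset.sum_subset (Finset.subset_univ _)
    intro χ _ hχ
    rw [Finset.mem_union, not_or] at hχ
    rw [hout χ (fun h => hχ.1 (hXfin.mem_toFinset.mpr h))
      (fun h => hχ.2 (hYfin.mem_toFinset.mpr h)), zero_mul]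
  rw [hdec, ← hsub, Finset.sum_union hdisj', finsum_mem_eq_finite_toFinset_sum _ hXfin]
  congr 1
  · refine Finset.sum_congr rfl (fun χ hχ => ?_)
    rw [hX χ (hXfin.mem_toFinset.mp hχ)]
  · rw [← hY, finsum_mem_eq_finite_toFinset_sum _ hYfin, Finset.sum_mul]
    refine Finset.sum_congr rfl (fun χ hχ => ?_)
    rw [hy₀ χ (hYfin.mem_toFinset.mp hχ)]


theorem charDegree_oneIrrG : charDegree ((oneIrrG G : IrrCharacter G) : G → ℂ) = 1 := by
  have h1 : ((oneIrrG G : IrrCharacter G) : G → ℂ) 1 = (1 : ℂ) := rfl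
  have h2 := Helper79.irr_one (oneIrrG G)
  rw [h1] at h2
  exact_mod_cast h2.symm

/-- (U4) the sum over the principal block -/
theorem tsum_Rset_one_add (hP : Nat.card P = p)
    [((P : Subgroup G).subgroupOf (nor P)).Normal] (hmod : ModCount p P)
    {ψ ψ₂ : IrrCharacter G}
    (hreg : ∀ g : G, ¬ p ∣ orderOf g → (ψ₂ : G → ℂ) g = (ψ : G → ℂ) g)
    {X Y : Set (IrrCharacter G)} {ε : IrrCharacter G → ℤ} {δ : ℤ}
    (hD : IsPslData P ψ ψ₂ X Y ε δ)
    (x v : G) (hx : x ∈ (P : Subgroup G)) (hx1 : x ≠ 1) (hv : v ∈ (P : Subgroup G))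
    (hv1 : v ≠ 1)
    (hclass : ∀ F : G → ℂ, IsClassFunction G F →
        pSum P F = F 1 + ((cen P).relIndex (nor P) : ℂ) * F x +
          ((cen P).relIndex (nor P) : ℂ) * F v)
    (z : G) (hz : ¬ p ∣ orderOf z) :
    tsum (Rset P (oneIrr P)) x x z + tsum (Rset P (oneIrr P)) x v z =
      2 + 2 * ((ψ : G → ℂ) z * conj ((ψ : G → ℂ) z) - 1) / ((p : ℂ) + 1) +
        (ψ : G → ℂ) z * conj ((ψ : G → ℂ) z) / ((cen P).relIndex (nor P) : ℂ) := by
  classical
  haveI : Finite (IrrCharacter G) := Helper79.irr_finite'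
  have hp : p.Prime := Fact.out
  have D := hD.D
  have hpf := hD.hpf
  set f := (cen P).relIndex (nor P) with hf
  have hXfin : X.Finite := Set.toFinite X
  have hYfin : Y.Finite := Set.toFinite Y
  have hxs : p ∣ orderOf x := by
    rw [Helper70.DefOneXG.orderOf_eq_of_mem_sylow P hP hx hx1]
  have hvs : p ∣ orderOf v := by
    rw [Helper70.DefOneXG.orderOf_eq_of_mem_sylow P hP hv hv1]
  have hf0 : f ≠ 0 := by
    intro h0
    rw [h0] at hpf
    have := hp.one_lt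
    omega
  have hfC : (f : ℂ) ≠ 0 := by exact_mod_cast hf0
  have hpC : (p : ℂ) = 2 * (f : ℂ) + 1 := by exact_mod_cast hpf.symm
  have hp1C : (p : ℂ) + 1 ≠ 0 := by
    have : ((p + 1 : ℕ) : ℂ) ≠ 0 := by exact_mod_cast Nat.succ_ne_zero p
    simpa using this
  have hf1C : (f : ℂ) + 1 ≠ 0 := by
    have : ((f + 1 : ℕ) : ℂ) ≠ 0 := by exact_mod_cast Nat.succ_ne_zero f
    simpa using this
  have hδ := D.del
  -- the common value of `Y` at `z`
  set y₀ : ℂ := (δ : ℂ) * ∑ᶠ χ ∈ X, (ε χ : ℂ) * (χ : G → ℂ) z with hy₀def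
  have hy₀ : ∀ ψ₀ ∈ Y, (ψ₀ : G → ℂ) z = y₀ := by
    intro ψ₀ hψ₀
    have h := D.rel ψ₀ hψ₀ z hz
    rw [hy₀def, ← h, ← mul_assoc]
    rcases hδ with h1 | h1 <;> rw [h1] <;> simp
  -- the two decompositions at `z`
  set R : ℂ := (ψ : G → ℂ) z * conj ((ψ : G → ℂ) z) with hR
  have hRconj : conj R = R := by
    rw [hR, map_mul, Complex.conj_conj, mul_comm]
  have e1 := eval_decomp (mulConj (ψ : G → ℂ) (ψ : G → ℂ)) (isCharacter_mulConj ψ ψ) X Y D.disj
    (fun χ => if ε χ = 1 then 1 else 0) hD.n1X _ hD.n1Y hD.n1out z y₀ hy₀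
  have e2 := eval_decomp (mulConj (ψ : G → ℂ) (ψ₂ : G → ℂ)) (isCharacter_mulConj ψ ψ₂) X Y D.disj
    (fun χ => if ε χ = 1 then 0 else 1) hD.n2X _ hD.n2Y hD.n2out z y₀ hy₀
  have e1' : mulConj (ψ : G → ℂ) (ψ : G → ℂ) z = R := rfl
  have e2' : mulConj (ψ : G → ℂ) (ψ₂ : G → ℂ) z = R := by
    show (ψ : G → ℂ) z * conj ((ψ₂ : G → ℂ) z) = R
    rw [hreg z hz]
  rw [e1'] at e1
  rw [e2'] at e2
  set SP : ℂ := ∑ᶠ χ ∈ X, (if ε χ = 1 then (1 : ℂ) else 0) * (χ : G → ℂ) z with hSP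
  set SM : ℂ := ∑ᶠ χ ∈ X, (if ε χ = 1 then (0 : ℂ) else 1) * (χ : G → ℂ) z with hSM
  -- the principal character
  have hone := oneIrrG_mem_X0 P hP D (by omega)
  -- the `X`-part
  have hXpart : tsum X x x z + tsum X x v z =
      2 / ((p : ℂ) + 1) * conj SP + 1 / (f : ℂ) * conj SM + 2 * (1 - 1 / ((p : ℂ) + 1)) := by
    unfold Helper57.BP.tsum
    rw [hSP, hSM, finsum_mem_eq_finite_toFinset_sum _ hXfin,
      finsum_mem_eq_finite_toFinset_sum _ hXfin, finsum_mem_eq_finite_toFinset_sum _ hXfin,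
      finsum_mem_eq_finite_toFinset_sum _ hXfin, map_sum, map_sum, Finset.mul_sum, Finset.mul_sum,
      ← Finset.sum_add_distrib, ← Finset.sum_add_distrib]
    have hmem1 : oneIrrG G ∈ hXfin.toFinset := hXfin.mem_toFinset.mpr hone.1
    have hlast : 2 * (1 - 1 / ((p : ℂ) + 1)) =
        ∑ χ ∈ hXfin.toFinset, (if χ = oneIrrG G then 2 * (1 - 1 / ((p : ℂ) + 1)) else 0) := by
      rw [Finset.sum_ite_eq' hXfin.toFinset (oneIrrG G), if_pos hmem1]
    rw [hlast, ← Finset.sum_add_distrib]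
    refine Finset.sum_congr rfl (fun χ hχ => ?_)
    have hχX : χ ∈ X := hXfin.mem_toFinset.mp hχ
    have hvx : (χ : G → ℂ) x = (ε χ : ℂ) := apply_singular_X0 P hP D χ hχX x hxs
    have hvv : (χ : G → ℂ) v = (ε χ : ℂ) := apply_singular_X0 P hP D χ hχX v hvs
    rw [hvx, hvv, Helper79.irr_one]
    by_cases h1 : χ = oneIrrG G
    · rw [if_pos h1, h1, hone.2, charDegree_oneIrrG]
      have : ((oneIrrG G : IrrCharacter G) : G → ℂ) z = 1 := rfl
      rw [this]
      simp only [if_true, Int.cast_one, Nat.cast_one, map_one, map_zero, zero_mul,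
        mul_zero, add_zero, one_mul, mul_one, div_one]
      field_simp
      ring
    · rw [if_neg h1, add_zero]
      rcases D.eps χ with h2 | h2
      · rw [hD.degXp χ hχX h2 h1, h2]
        simp only [if_true, Int.cast_one, map_one, map_mul, map_zero, zero_mul, mul_zero, add_zero,
          one_mul, mul_one]
        push_cast
        field_simp
        ring
      · rw [hD.degXm χ hχX h2, h2]
        have hne : ¬ ((-1 : ℤ) = 1) := by norm_num
        simp only [if_neg hne, map_one, map_mul, map_zero, zero_mul, mul_zero, zero_add,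
          one_mul]
        have hp1 : 1 ≤ p := hp.one_lt.le
        have hpm : ((p - 1 : ℕ) : ℂ) = 2 * (f : ℂ) := by
          rw [Nat.cast_sub hp1, hpC]
          push_cast
          ring
        rw [hpm]
        push_cast
        field_simp
        ring
  -- the `Y`-part
  have hYpart : tsum Y x x z + tsum Y x v z =
      conj y₀ / (if δ = 1 then (f : ℂ) else (f : ℂ) + 1) := by
    unfold Helper57.BP.tsum
    rw [← finsum_mem_add_distrib hYfin]
    have hterm : ∀ ψ₀ ∈ Y,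
        (ψ₀ : G → ℂ) x * (ψ₀ : G → ℂ) x * conj ((ψ₀ : G → ℂ) z) / (ψ₀ : G → ℂ) 1 +
          (ψ₀ : G → ℂ) x * (ψ₀ : G → ℂ) v * conj ((ψ₀ : G → ℂ) z) / (ψ₀ : G → ℂ) 1 =
        (-(δ : ℂ) * conj y₀ / (if δ = 1 then (f : ℂ) else (f : ℂ) + 1)) * (ψ₀ : G → ℂ) x := by
      intro ψ₀ hψ₀
      have h1 := hclass (ψ₀ : G → ℂ) (Helper79.irr_isClassFunction ψ₀)
      rw [pSum_Y0 P hP hmod D ψ₀ hψ₀, Helper79.irr_one] at h1
      have h2 : (ψ₀ : G → ℂ) x + (ψ₀ : G → ℂ) v = -(δ : ℂ) := by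
        have : (f : ℂ) * ((ψ₀ : G → ℂ) x + (ψ₀ : G → ℂ) v) = (f : ℂ) * (-(δ : ℂ)) := by
          linear_combination -h1
        exact mul_left_cancel₀ hfC this
      have h3 : (ψ₀ : G → ℂ) 1 = (if δ = 1 then (f : ℂ) else (f : ℂ) + 1) := by
        rw [Helper79.irr_one, hD.degY ψ₀ hψ₀]
        split_ifs <;> push_cast <;> rfl
      rw [hy₀ ψ₀ hψ₀, h3]
      have : (ψ₀ : G → ℂ) v = -(δ : ℂ) - (ψ₀ : G → ℂ) x := by rw [← h2]; ring
      rw [this]
      ring
    rw [finsum_mem_congr rfl hterm, ← mul_finsum_mem' _ _ hYfin,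
      finsum_Y0_singular P hP hmod D x hxs]
    have hδ2 : (δ : ℂ) * (δ : ℂ) = 1 := by
      rcases hδ with h1 | h1 <;> rw [h1] <;> simp
    have : -(δ : ℂ) * conj y₀ / (if δ = 1 then (f : ℂ) else (f : ℂ) + 1) * -(δ : ℂ) =
        ((δ : ℂ) * (δ : ℂ)) * conj y₀ / (if δ = 1 then (f : ℂ) else (f : ℂ) + 1) := by ring
    rw [this, hδ2, one_mul]
  -- assembling
  have hsplit : ∀ u w : G, tsum (Rset P (oneIrr P)) x u w = tsum X x u w + tsum Y x u w := by
    intro u w
    unfold Helper57.BP.tsum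
    rw [D.union]
    exact finsum_mem_union D.disj hXfin hYfin
  rw [hsplit, hsplit]
  have hre : tsum X x x z + tsum Y x x z + (tsum X x v z + tsum Y x v z) =
      (tsum X x x z + tsum X x v z) + (tsum Y x x z + tsum Y x v z) := by ring
  rw [hre, hXpart, hYpart]
  have c1 : conj SP = R - (if δ = 1 then (0 : ℂ) else 1) * conj y₀ := by
    have := congrArg conj e1
    rw [hRconj, map_add, map_mul] at this
    have h' : conj (if δ = 1 then (0 : ℂ) else 1) = (if δ = 1 then (0 : ℂ) else 1) := by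
      split_ifs <;> simp
    rw [h'] at this
    rw [this]; ring
  have c2 : conj SM = R - (if δ = 1 then (1 : ℂ) else 0) * conj y₀ := by
    have := congrArg conj e2
    rw [hRconj, map_add, map_mul] at this
    have h' : conj (if δ = 1 then (1 : ℂ) else 0) = (if δ = 1 then (1 : ℂ) else 0) := by
      split_ifs <;> simp
    rw [h'] at this
    rw [this]; ring
  rw [c1, c2]
  by_cases hd : δ = 1
  · simp only [if_pos hd]
    field_simp
    ring
  · simp only [if_neg hd]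
    have hp1' : (p : ℂ) + 1 = 2 * ((f : ℂ) + 1) := by rw [hpC]; ring
    rw [hp1']
    field_simp
    ring

end Cfsg.Agent.Helper3.BP
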