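import Mathlib
import Cfsg.Prelude.Def_Characters
import Cfsg.Agent.Helper3.AlgIntBrauer
import Cfsg.Agent.Helper3.ColumnOrth
import Cfsg.Agent.Helper3.CharEq
import Cfsg.Agent.Helper75.VirtualChar
import Cfsg.Agent.Helper80.Integrality
import Cfsg.Agent.Helper15.CliffordCorr

/-!
# The Brauer–Suzuki Hall-subgroup transfer theorem (helper3)

`H ≤ G` a Hall subgroup controlling its own fusion, such that every elementary subgroup of order
dividing `|H|` is conjugate into `H`.  Then `H` has a normal complement.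

The proof follows Isaacs, Theorem 8.22: extend class functions `θ` of `H` to `θ̃ = θ ∘ r` where
`r x ∈ H` is conjugate to the `π`-part `x ^ k` of `x`; Brauer's characterization shows `θ̃` is a
generalized character; a counting argument shows `θ ↦ θ̃` is an isometry.
-/

set_option autoImplicit false
set_option linter.unusedSectionVars false

namespace Cfsg.Agent.Helper3

open Cfsg Cfsg.Agent.Helper15
open scoped ComplexConjugate

universe u

namespace BS

variable {G : Type u} [Group G] {H : Subgroup G} {k : ℕ}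

/-- the retraction: an element of `H` conjugate to `x ^ k`. -/
noncomputable def retr (hc : ∀ x : G, ∃ g : G, g * x ^ k * g⁻¹ ∈ H) (x : G) : H :=
  ⟨(hc x).choose * x ^ k * (hc x).choose⁻¹, (hc x).choose_spec⟩

theorem retr_isConj (hc : ∀ x : G, ∃ g : G, g * x ^ k * g⁻¹ ∈ H) (x : G) :
    IsConj (x ^ k) (retr hc x : G) := isConj_iff.mpr ⟨_, rfl⟩

/-- fusion control, in terms of conjugacy in the group `H`. -/
theorem isConj_of_fus (hfus : ∀ x ∈ H, ∀ y ∈ H, IsConj x y → ∃ h ∈ H, h * x * h⁻¹ = y)
    (a b : H) (hab : IsConj (a : G) (b : G)) : IsConj a b := by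
  obtain ⟨h, hh, he⟩ := hfus a a.2 b b.2 hab
  exact isConj_iff.mpr ⟨⟨h, hh⟩, Subtype.ext (by simpa using he)⟩

theorem isConj_pow {x y : G} (h : IsConj x y) (k : ℕ) : IsConj (x ^ k) (y ^ k) := by
  obtain ⟨c, rfl⟩ := isConj_iff.mp h
  rw [conj_pow]
  exact isConj_iff.mpr ⟨c, rfl⟩

variable (hc : ∀ x : G, ∃ g : G, g * x ^ k * g⁻¹ ∈ H)
  (hfus : ∀ x ∈ H, ∀ y ∈ H, IsConj x y → ∃ h ∈ H, h * x * h⁻¹ = y)
  (hpow : ∀ h ∈ H, h ^ k = h)

include hfus in
theorem retr_conj {x y : G} (h : IsConj x y) : IsConj (retr hc x) (retr hc y) := by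
  apply isConj_of_fus hfus
  exact ((retr_isConj hc x).symm.trans (isConj_pow h k)).trans (retr_isConj hc y)

include hfus hpow in
theorem retr_mem (h : H) : IsConj (retr hc (h : G)) h := by
  apply isConj_of_fus hfus
  have := (retr_isConj hc (h : G)).symm
  rwa [hpow h h.2] at this

include hfus in
/-- if `y ∈ H` is conjugate to `x ^ k` then it is `H`-conjugate to `retr x`. -/
theorem retr_of_isConj {x : G} (y : H) (h : IsConj (x ^ k) (y : G)) : IsConj (retr hc x) y := by
  apply isConj_of_fus hfus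
  exact (retr_isConj hc x).symm.trans h

/-- the extension `θ̃` of a function on `H`. -/
noncomputable def tilde (θ : H → ℂ) : G → ℂ := fun x => θ (retr hc x)

theorem tilde_apply (θ : H → ℂ) (x : G) : tilde hc θ x = θ (retr hc x) := rfl

include hfus in
theorem isClassFunction_tilde {θ : H → ℂ} (hθ : IsClassFunction H θ) :
    IsClassFunction G (tilde hc θ) := by
  intro x g
  rw [tilde_apply, tilde_apply]
  exact isClassFunction_isConj hθ
    (retr_conj hc hfus (isConj_iff.mpr ⟨g, rfl⟩ : IsConj x (g * x * g⁻¹))).symm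

include hfus hpow in
theorem tilde_coe {θ : H → ℂ} (hθ : IsClassFunction H θ) (h : H) :
    tilde hc θ (h : G) = θ h :=
  isClassFunction_isConj hθ (retr_mem hc hfus hpow h)

include hfus hpow in
theorem tilde_one {θ : H → ℂ} (hθ : IsClassFunction H θ) : tilde hc θ 1 = θ 1 := by
  have := tilde_coe hc hfus hpow hθ 1
  simpa using this

theorem tilde_mul (α β : H → ℂ) : tilde hc (α * β) = tilde hc α * tilde hc β := rfl

theorem tilde_const (c : ℂ) : tilde hc (fun _ : H => c) = fun _ : G => c := rfl

section GenChar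

variable [Fintype G]

include hfus in
/-- `θ̃` is a generalized character of `G` when `θ` is a character of `H`. -/
theorem isGeneralizedCharacter_tilde {j c : ℕ} (hjc : j.Coprime c) (hG : Nat.card G = j * c)
    (hcH : Nat.card H = c) (hkj : j ∣ k) (hkc : k ≡ 1 [MOD c])
    (helem : ∀ (E : Subgroup G) (p : ℕ), p.Prime → IsElementary p E →
      Nat.card E ∣ Nat.card H → ∃ g : G, E.map (MulAut.conj g).toMonoidHom ≤ H)
    {θ : H → ℂ} (hθ : IsCharacter H θ) : IsGeneralizedCharacter G (tilde hc θ) := by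
  have hθcl : IsClassFunction H θ := Helper74.isClassFunction_of_isCharacter hθ
  refine brauer_characterization (isClassFunction_tilde hc hfus hθcl) ?_
  intro E p hp hE
  haveI : Finite E := inferInstance
  haveI : Group.IsNilpotent E := isNilpotent_of_isElementary hp hE
  have hEd : Nat.card E ∣ j * c := hG ▸ Subgroup.card_subgroup_dvd_card E
  set π := powHom hjc hEd hkj hkc with hπ
  set B : Subgroup E := π.range with hB
  set B' : Subgroup G := B.map E.subtype with hB'
  have hBel : IsElementary p B := isElementary_subgroup hp hE B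
  have hB'el : IsElementary p B' :=
    isElementary_of_mulEquiv (B.equivMapOfInjective E.subtype E.subtype_injective) hBel
  have hBcard : Nat.card B ∣ c := by
    rw [hB, ← Subgroup.index_ker]
    exact index_ker_powHom_dvd hjc hEd hkj hkc
  have hB'card : Nat.card B' ∣ Nat.card H := by
    rw [hcH, hB', Subgroup.card_map_of_injective E.subtype_injective]
    exact hBcard
  obtain ⟨g, hg⟩ := helem B' p hp hB'el hB'card
  have hmem : ∀ e : E, g * (e : G) ^ k * g⁻¹ ∈ H := by
    intro e
    apply hg
    refine ⟨(e : G) ^ k, ?_, by simp [MulAut.conj_apply]⟩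
    refine ⟨π e, ⟨e, rfl⟩, ?_⟩
    simp [hπ, powHom_apply]
  let ψ : E →* H :=
    { toFun := fun e => ⟨g * (e : G) ^ k * g⁻¹, hmem e⟩
      map_one' := by
        apply Subtype.ext
        simp
      map_mul' := by
        intro a b
        apply Subtype.ext
        have h1 : ((a : G) * (b : G)) ^ k = (a : G) ^ k * (b : G) ^ k := by
          have := congrArg Subtype.val (mul_pow_of_nilpotent hjc hEd hkj hkc a b)
          simpa using this
        simp only [Subgroup.coe_mul]
        rw [h1]
        group }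
  have hψ : ∀ e : E, tilde hc θ (e : G) = θ (ψ e) := by
    intro e
    rw [tilde_apply]
    refine isClassFunction_isConj hθcl (retr_of_isConj hc hfus (ψ e) ?_)
    exact isConj_iff.mpr ⟨g, rfl⟩
  have hchar : IsCharacter E (fun e : E => tilde hc θ (e : G)) := by
    have := Helper74.isCharacter_comp ψ hθ
    convert this using 1
    funext e
    exact hψ e
  exact ⟨_, 0, hchar, Helper74.isCharacter_zero, by simp⟩

end GenChar

section Count

variable [Fintype G] [Fintype H] [DecidableEq H]

/-- `cnt h` counts the pairs `(x, t)` with `t (r x) t⁻¹ = h`. -/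
noncomputable def cnt (h : H) : ℕ :=
  ∑ x : G, ∑ t : H, if t * retr hc x * t⁻¹ = h then 1 else 0

theorem sum_cnt : ∑ h : H, cnt hc h = Nat.card G * Nat.card H := by
  unfold cnt
  rw [Finset.sum_comm]
  have : ∀ x : G, ∑ h : H, ∑ t : H, (if t * retr hc x * t⁻¹ = h then 1 else 0) = Nat.card H := by
    intro x
    rw [Finset.sum_comm]
    simp [Nat.card_eq_fintype_card]
  rw [Finset.sum_congr rfl fun x _ => this x, Finset.sum_const, Finset.card_univ, smul_eq_mul]
  simp only [Nat.card_eq_fintype_card]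

theorem cnt_conj (s h : H) : cnt hc (s * h * s⁻¹) = cnt hc h := by
  unfold cnt
  refine Finset.sum_congr rfl fun x _ => ?_
  refine Fintype.sum_equiv (Equiv.mulLeft s⁻¹)
    (fun t : H => if t * retr hc x * t⁻¹ = s * h * s⁻¹ then 1 else 0)
    (fun t : H => if t * retr hc x * t⁻¹ = h then 1 else 0) fun t => ?_
  show (if t * retr hc x * t⁻¹ = s * h * s⁻¹ then 1 else 0) =
    (if (s⁻¹ * t) * retr hc x * (s⁻¹ * t)⁻¹ = h then 1 else 0)
  have : (t * retr hc x * t⁻¹ = s * h * s⁻¹) ↔
      (s⁻¹ * t * retr hc x * (s⁻¹ * t)⁻¹ = h) := by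
    constructor
    · intro e
      have h1 : s⁻¹ * t * retr hc x * (s⁻¹ * t)⁻¹ = s⁻¹ * (t * retr hc x * t⁻¹) * s := by group
      rw [h1, e]
      group
    · intro e
      rw [← e]
      group
  by_cases hh : t * retr hc x * t⁻¹ = s * h * s⁻¹
  · rw [if_pos hh, if_pos (this.mp hh)]
  · rw [if_neg hh, if_neg (fun e => hh (this.mpr e))]

include hfus hpow in
theorem cnt_pos (h : H) : 0 < cnt hc h := by
  obtain ⟨t, ht⟩ := isConj_iff.mp (retr_mem hc hfus hpow h)
  unfold cnt
  refine Finset.sum_pos' (fun _ _ => Nat.zero_le _) ⟨(h : G), Finset.mem_univ _, ?_⟩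
  refine Finset.sum_pos' (fun _ _ => Nat.zero_le _) ⟨t, Finset.mem_univ _, ?_⟩
  rw [if_pos ht]
  exact Nat.one_pos

theorem sum_retr {γ : H → ℂ} (hγ : IsClassFunction H γ) :
    ∑ x : G, γ (retr hc x) = (Nat.card H : ℂ)⁻¹ * ∑ h : H, (cnt hc h : ℂ) * γ h := by
  have hH0 : (Nat.card H : ℂ) ≠ 0 := by
    have : Nat.card H ≠ 0 := Nat.card_pos.ne'
    exact_mod_cast this
  have h1 : ∀ x : G, γ (retr hc x) = (Nat.card H : ℂ)⁻¹ *
      ∑ t : H, ∑ h : H, (if t * retr hc x * t⁻¹ = h then γ h else 0) := by
    intro x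
    have : ∀ t : H, ∑ h : H, (if t * retr hc x * t⁻¹ = h then γ h else 0) = γ (retr hc x) := by
      intro t
      rw [Finset.sum_ite_eq]
      simp only [Finset.mem_univ, if_true]
      exact hγ (retr hc x) t
    rw [Finset.sum_congr rfl fun t _ => this t, Finset.sum_const, Finset.card_univ, nsmul_eq_mul,
      ← Nat.card_eq_fintype_card, ← mul_assoc, inv_mul_cancel₀ hH0, one_mul]
  rw [Finset.sum_congr rfl fun x _ => h1 x, ← Finset.mul_sum]
  congr 1
  calc ∑ x : G, ∑ t : H, ∑ h : H, (if t * retr hc x * t⁻¹ = h then γ h else 0)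
      = ∑ x : G, ∑ h : H, ∑ t : H, (if t * retr hc x * t⁻¹ = h then γ h else 0) :=
        Finset.sum_congr rfl fun x _ => Finset.sum_comm
    _ = ∑ h : H, ∑ x : G, ∑ t : H, (if t * retr hc x * t⁻¹ = h then γ h else 0) :=
        Finset.sum_comm
    _ = ∑ h : H, (cnt hc h : ℂ) * γ h := by
        refine Finset.sum_congr rfl fun h _ => ?_
        unfold cnt
        push_cast
        rw [Finset.sum_mul]
        refine Finset.sum_congr rfl fun x _ => ?_
        rw [Finset.sum_mul]
        refine Finset.sum_congr rfl fun t _ => ?_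
        split_ifs <;> simp

theorem classInner_tilde {α β : H → ℂ} (hα : IsClassFunction H α) (hβ : IsClassFunction H β) :
    classInner (tilde hc α) (tilde hc β) = (Nat.card G : ℂ)⁻¹ *
      ((Nat.card H : ℂ)⁻¹ * ∑ h : H, (cnt hc h : ℂ) * (α h * conj (β h))) := by
  rw [Cfsg.Agent.Helper15.classInner_apply]
  congr 1
  have hγ : IsClassFunction H (fun h => α h * conj (β h)) := fun g h => by
    simp only
    rw [hα g h, hβ g h]
  exact sum_retr hc hγ

end Count

section Isometry

variable [Fintype G] [Fintype H] [DecidableEq H]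
variable {j c : ℕ} (hjc : j.Coprime c) (hG : Nat.card G = j * c) (hcH : Nat.card H = c)
  (hkj : j ∣ k) (hkc : k ≡ 1 [MOD c])
  (helem : ∀ (E : Subgroup G) (p : ℕ), p.Prime → IsElementary p E →
      Nat.card E ∣ Nat.card H → ∃ g : G, E.map (MulAut.conj g).toMonoidHom ≤ H)

include hfus hjc hG hcH hkj hkc helem in
theorem card_dvd_cnt (h : H) : Nat.card G ∣ cnt hc h := by
  classical
  letI : Fintype (IrrCharacter H) := Fintype.ofFinite _
  have hG0 : Nat.card G ≠ 0 := Nat.card_pos.ne'
  have hG0' : (Nat.card G : ℂ) ≠ 0 := by exact_mod_cast hG0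
  have hH0' : (Nat.card H : ℂ) ≠ 0 := by
    have : Nat.card H ≠ 0 := Nat.card_pos.ne'
    exact_mod_cast this
  apply Cfsg.Agent.Helper80.dvd_of_isIntegral_div hG0
  set μ : H → ℂ := fun h => (cnt hc h : ℂ) / (Nat.card G : ℂ) with hμ
  have hμcl : IsClassFunction H μ := fun g s => by
    simp only [hμ]
    rw [cnt_conj]
  have hexp := class_function_expansion μ hμcl
  have hz : ∀ θ : IrrCharacter H, ∃ z : ℤ, classInner μ (θ : H → ℂ) = z := by
    intro θ
    have hθc : IsCharacter H θ := isCharacter_of_isIrrCharacter θ.2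
    have hθcl := Helper74.isClassFunction_of_isCharacter hθc
    have h1cl : IsClassFunction H (fun _ : H => (1 : ℂ)) := fun _ _ => rfl
    have h1 := classInner_tilde hc h1cl hθcl
    rw [tilde_const] at h1
    obtain ⟨χ₁, χ₂, hχ₁, hχ₂, hdiff⟩ :=
      isGeneralizedCharacter_tilde hc hfus hjc hG hcH hkj hkc helem hθc
    obtain ⟨a, ha⟩ := Helper15.isCharacter_inner_nat (Helper74.isCharacter_one (G := G)) hχ₁
    obtain ⟨b, hb⟩ := Helper15.isCharacter_inner_nat (Helper74.isCharacter_one (G := G)) hχ₂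
    refine ⟨a - b, ?_⟩
    have h2 : classInner μ (θ : H → ℂ) = classInner (fun _ : G => (1 : ℂ)) (tilde hc θ) := by
      rw [h1, Cfsg.Agent.Helper15.classInner_apply]
      simp only [hμ]
      rw [Finset.mul_sum, Finset.mul_sum, Finset.mul_sum]
      refine Finset.sum_congr rfl fun h _ => ?_
      field_simp
    rw [h2, hdiff, Cfsg.Agent.Helper15.classInner_sub_right, ha, hb]
    push_cast
    rfl
  choose z hz using hz
  have hval : μ h = ∑ θ : IrrCharacter H, (z θ : ℂ) * (θ : H → ℂ) h := by
    have := congrFun hexp h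
    simp only [Finset.sum_apply, Pi.smul_apply, smul_eq_mul] at this
    rw [this]
    exact Finset.sum_congr rfl fun θ _ => by rw [hz θ]
  show IsIntegral ℤ (μ h)
  rw [hval]
  refine IsIntegral.sum _ fun θ _ => ?_
  refine IsIntegral.mul ?_ ?_
  · have := isIntegral_algebraMap (R := ℤ) (A := ℂ) (x := z θ)
    simpa using this
  · obtain ⟨n, ρ, -, hρ⟩ := θ.2
    rw [← hρ]
    exact isIntegral_char ρ h (isOfFinOrder_of_finite h)

include hfus hpow hjc hG hcH hkj hkc helem in
theorem cnt_eq (h : H) : cnt hc h = Nat.card G := by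
  have hle : ∀ h ∈ (Finset.univ : Finset H), Nat.card G ≤ cnt hc h := fun h _ =>
    Nat.le_of_dvd (cnt_pos hc hfus hpow h) (card_dvd_cnt hc hfus hjc hG hcH hkj hkc helem h)
  have hsum : ∑ _h : H, Nat.card G = ∑ h : H, cnt hc h := by
    rw [sum_cnt, Finset.sum_const, Finset.card_univ, smul_eq_mul,
      Nat.card_eq_fintype_card (α := H), mul_comm]
  exact ((Finset.sum_eq_sum_iff_of_le hle).mp hsum h (Finset.mem_univ h)).symm

include hfus hpow hjc hG hcH hkj hkc helem in
/-- `θ ↦ θ̃` is an isometry on class functions. -/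
theorem classInner_tilde_eq {α β : H → ℂ} (hα : IsClassFunction H α)
    (hβ : IsClassFunction H β) :
    classInner (tilde hc α) (tilde hc β) = classInner α β := by
  have hG0' : (Nat.card G : ℂ) ≠ 0 := by
    have : Nat.card G ≠ 0 := Nat.card_pos.ne'
    exact_mod_cast this
  rw [classInner_tilde hc hα hβ, Cfsg.Agent.Helper15.classInner_apply]
  simp only [cnt_eq hc hfus hpow hjc hG hcH hkj hkc helem]
  rw [← Finset.mul_sum]
  field_simp

include hfus hpow hjc hG hcH hkj hkc helem in
/-- `θ̃` is irreducible for irreducible `θ`. -/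
theorem isIrrCharacter_tilde (θ : IrrCharacter H) : IsIrrCharacter G (tilde hc θ) := by
  have hθc : IsCharacter H θ := isCharacter_of_isIrrCharacter θ.2
  have hθcl := Helper74.isClassFunction_of_isCharacter hθc
  have hgen := isGeneralizedCharacter_tilde hc hfus hjc hG hcH hkj hkc helem hθc
  have hnorm : classInner (tilde hc (θ : H → ℂ)) (tilde hc θ) = 1 := by
    rw [classInner_tilde_eq hc hfus hpow hjc hG hcH hkj hkc helem hθcl hθcl]
    exact classInner_irr_self θ
  obtain ⟨χ, hχ | hχ⟩ := Helper75.vc_pm_irr hgen hnorm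
  · rw [hχ]
    exact χ.2
  · exfalso
    have h1 := tilde_one hc hfus hpow hθcl
    rw [hχ] at h1
    obtain ⟨d, hd, hd1⟩ := Helper15.irr_degree_pos χ.2
    obtain ⟨e, he, he1⟩ := Helper15.irr_degree_pos θ.2
    simp only [Pi.neg_apply] at h1
    rw [hd1, he1] at h1
    have : ((d + e : ℕ) : ℂ) = 0 := by
      push_cast
      rw [← h1]
      ring
    have : d + e = 0 := by exact_mod_cast this
    omega

end Isometry

section Kernel

variable [Fintype G] [Fintype H] [DecidableEq H]
variable {j c : ℕ} (hjc : j.Coprime c) (hG : Nat.card G = j * c) (hcH : Nat.card H = c)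
  (hkj : j ∣ k) (hkc : k ≡ 1 [MOD c])
  (helem : ∀ (E : Subgroup G) (p : ℕ), p.Prime → IsElementary p E →
      Nat.card E ∣ Nat.card H → ∃ g : G, E.map (MulAut.conj g).toMonoidHom ≤ H)

include hc hfus hpow hjc hG hcH hkj hkc helem in
/-- The normal complement. -/
theorem exists_normal_complement :
    ∃ K : Subgroup G, K.Normal ∧ K ⊔ H = ⊤ ∧ K ⊓ H = ⊥ := by
  classical
  letI : Fintype (IrrCharacter H) := Fintype.ofFinite _
  have hirr := fun θ : IrrCharacter H =>
    isIrrCharacter_tilde hc hfus hpow hjc hG hcH hkj hkc helem θ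
  choose d ρ hρirr hρ using hirr
  let K : Subgroup G := ⨅ θ : IrrCharacter H, (ρ θ).ker
  have hKn : K.Normal := Subgroup.normal_iInf_normal fun θ => MonoidHom.normal_ker _
  have hcl : ∀ θ : IrrCharacter H, IsClassFunction H (θ : H → ℂ) := fun θ =>
    Helper74.isClassFunction_of_isCharacter (isCharacter_of_isIrrCharacter θ.2)
  have hKmem : ∀ x : G, x ∈ K ↔ ∀ θ : IrrCharacter H, tilde hc θ x = tilde hc θ 1 := by
    intro x
    simp only [K, Subgroup.mem_iInf, MonoidHom.mem_ker]
    refine forall_congr' fun θ => ?_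
    rw [← hρ θ, Representation.char_one,
      char_eq_finrank_iff (ρ θ) x (isOfFinOrder_of_finite x)]
    rfl
  -- `K ⊓ H = ⊥`
  have hdisj : K ⊓ H = ⊥ := by
    rw [eq_bot_iff]
    intro x hx
    obtain ⟨hxK, hxH⟩ := hx
    rw [Subgroup.mem_bot]
    have hval : ∀ θ : IrrCharacter H, (θ : H → ℂ) ⟨x, hxH⟩ = (θ : H → ℂ) 1 := by
      intro θ
      have h1 := (hKmem x).mp hxK θ
      rw [tilde_one hc hfus hpow (hcl θ)] at h1
      rw [← h1]
      exact (tilde_coe hc hfus hpow (hcl θ) ⟨x, hxH⟩).symm
    have hco := column_orthogonality (⟨x, hxH⟩ : H) 1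
    have hco1 := column_orthogonality_self (1 : H)
    rw [Finset.sum_congr rfl fun θ _ => by rw [hval θ]] at hco
    rw [hco1] at hco
    by_cases hconj : IsConj (⟨x, hxH⟩ : H) 1
    · have := isConj_one_left.mp hconj
      exact congrArg Subtype.val this
    · rw [if_neg hconj] at hco
      exfalso
      have : Nat.card (Subgroup.centralizer ({(1 : H)} : Set H)) ≠ 0 := Nat.card_pos.ne'
      exact this (by exact_mod_cast hco)
  -- elements killed by `k` lie in `K`
  have hpi' : ∀ x : G, x ^ k = 1 → x ∈ K := by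
    intro x hx
    rw [hKmem]
    intro θ
    rw [tilde_one hc hfus hpow (hcl θ), tilde_apply]
    have h1 : IsConj (1 : G) (retr hc x : G) := by
      have := retr_isConj hc x
      rwa [hx] at this
    have h2 : (retr hc x : G) = 1 := isConj_one_right.mp h1
    have h3 : retr hc x = 1 := Subtype.ext h2
    rw [h3]
  -- `j` divides `|K|`
  have hcop : Nat.Coprime j K.index := by
    refine Nat.coprime_of_dvd ?_
    intro q hq hqj hqK
    haveI : Fact q.Prime := ⟨hq⟩
    obtain ⟨Q⟩ : Nonempty (Sylow q G) := inferInstance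
    have hQK : (Q : Subgroup G) ≤ K := by
      intro x hx
      apply hpi'
      obtain ⟨a, ha⟩ := (IsPGroup.iff_orderOf.mp Q.isPGroup') ⟨x, hx⟩
      have hox : orderOf x = q ^ a := by
        rw [← ha]
        exact (Subgroup.orderOf_mk x hx).symm
      have hqc : ¬ q ∣ c := fun hqc => by
        have := Nat.dvd_gcd hqj hqc
        rw [hjc.gcd_eq_one] at this
        exact hq.one_lt.ne' (Nat.dvd_one.mp this)
      have h1 : (orderOf x).Coprime c := by
        rw [hox]
        exact ((Nat.Prime.coprime_iff_not_dvd hq).mpr hqc).pow_left a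
      have h2 : orderOf x ∣ j * c := hG ▸ orderOf_dvd_natCard x
      have h3 : orderOf x ∣ j := h1.dvd_of_dvd_mul_right h2
      exact orderOf_dvd_iff_pow_eq_one.mp (h3.trans hkj)
    have h1 : K.index ∣ (Q : Subgroup G).index := Subgroup.index_dvd_of_le hQK
    exact Q.not_dvd_index (hqK.trans h1)
  have hjK : j ∣ Nat.card K := by
    have h1 : j ∣ Nat.card K * K.index := by
      rw [Subgroup.card_mul_index, hG]
      exact dvd_mul_right j c
    exact hcop.dvd_of_dvd_mul_right h1
  have hdisj' : Disjoint K H := disjoint_iff.mpr hdisj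
  have hle : Nat.card K * Nat.card H ≤ Nat.card G := by
    rw [← Nat.card_prod]
    exact Nat.card_le_card_of_injective _ (Subgroup.mul_injective_of_disjoint hdisj')
  have hge : j ≤ Nat.card K := Nat.le_of_dvd Nat.card_pos hjK
  have heq : Nat.card K * Nat.card H = Nat.card G := by
    apply le_antisymm hle
    rw [hG, hcH]
    exact Nat.mul_le_mul_right c hge
  exact ⟨K, hKn, (Subgroup.isComplement'_of_card_mul_and_disjoint heq hdisj').sup_eq_top, hdisj⟩

end Kernel

end BS

end Cfsg.Agent.Helper3
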