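import Mathlib
import Cfsg.Prelude.Def_Characters
import Cfsg.Agent.Helper3.ClassFunction

/-!
# The number of irreducible characters equals the number of conjugacy classes (helper3)
-/

set_option autoImplicit false

namespace Cfsg.Agent.Helper3

open Module Representation
open scoped ComplexConjugate

section

variable (G : Type*) [Group G]

/-- The space of class functions. -/
def classFunctionSubmodule : Submodule ℂ (G → ℂ) where
  carrier := {f | Cfsg.IsClassFunction G f}
  add_mem' h₁ h₂ := isClassFunction_add h₁ h₂
  zero_mem' := isClassFunction_zero
  smul_mem' c _ h := isClassFunction_smul c h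

theorem mem_classFunctionSubmodule (f : G → ℂ) :
    f ∈ classFunctionSubmodule G ↔ Cfsg.IsClassFunction G f := Iff.rfl

/-- Pull back functions on conjugacy classes to class functions. -/
def pullbackConjClasses : (ConjClasses G → ℂ) →ₗ[ℂ] (G → ℂ) where
  toFun F := F ∘ ConjClasses.mk
  map_add' _ _ := rfl
  map_smul' _ _ := rfl

theorem pullbackConjClasses_injective : Function.Injective (pullbackConjClasses G) := by
  intro F₁ F₂ h
  funext c
  obtain ⟨g, rfl⟩ := ConjClasses.mk_surjective c
  exact congrFun h g

theorem range_pullbackConjClasses :
    LinearMap.range (pullbackConjClasses G) = classFunctionSubmodule G := by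
  ext f
  constructor
  · rintro ⟨F, rfl⟩
    intro g h
    change F (ConjClasses.mk (h * g * h⁻¹)) = F (ConjClasses.mk g)
    congr 1
    rw [ConjClasses.mk_eq_mk_iff_isConj, isConj_comm, isConj_iff]
    exact ⟨h, rfl⟩
  · intro hf
    refine ⟨Quotient.lift f (fun a b hab => isClassFunction_isConj hf hab), ?_⟩
    funext g
    rfl

theorem finrank_classFunctionSubmodule [Finite G] :
    finrank ℂ (classFunctionSubmodule G) = Nat.card (ConjClasses G) := by
  have : Fintype (ConjClasses G) := Fintype.ofFinite _
  rw [← range_pullbackConjClasses,
    LinearMap.finrank_range_of_inj (pullbackConjClasses_injective G),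
    Module.finrank_fintype_fun_eq_card, Nat.card_eq_fintype_card]

theorem span_irr_eq_classFunctionSubmodule [Fintype G] :
    Submodule.span ℂ (Set.range (fun χ : Cfsg.IrrCharacter G => (χ : G → ℂ))) =
      classFunctionSubmodule G := by
  classical
  have : Fintype (Cfsg.IrrCharacter G) := Fintype.ofFinite _
  apply le_antisymm
  · rw [Submodule.span_le]
    rintro _ ⟨χ, rfl⟩
    exact isClassFunction_irr χ
  · intro f hf
    rw [class_function_expansion f hf]
    refine Submodule.sum_mem _ fun χ _ => Submodule.smul_mem _ _ ?_
    exact Submodule.subset_span ⟨χ, rfl⟩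

/-- The number of irreducible characters is the number of conjugacy classes. -/
theorem card_irrCharacter [Finite G] :
    Nat.card (Cfsg.IrrCharacter G) = Nat.card (ConjClasses G) := by
  have : Fintype G := Fintype.ofFinite _
  have : Fintype (Cfsg.IrrCharacter G) := Fintype.ofFinite _
  rw [← finrank_classFunctionSubmodule, ← span_irr_eq_classFunctionSubmodule,
    finrank_span_eq_card linearIndependent_irr, Nat.card_eq_fintype_card]

end

end Cfsg.Agent.Helper3
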