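import Mathlib
import Cfsg.Agent.S0751
import Cfsg.Agent.S0837
import Cfsg.Agent.Helper43.Cov2.Defs
import Cfsg.Agent.Helper3.Cov2P4Defs
import Cfsg.Agent.Helper24.Cov2P4SCR
import Cfsg.Agent.Helper42.Cov2P4EIG2
import Cfsg.Agent.Helper59.Cov2P4CASE2
import Cfsg.Agent.Helper32.Cov2P4C1P
import Cfsg.Agent.Helper29.Cov2P4C1M
import Cfsg.Agent.Helper41.Cov2P4K1
import Cfsg.Agent.Helper70.Cov2P4K2
import Cfsg.Agent.Helper53.Cov2P4K3
import Cfsg.Agent.Helper41.Cov2P4K4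
import Cfsg.Agent.Helper22.Cov2P4K5
import Cfsg.Agent.Helper22.Cov2P4K6

/-!
# S2500 part (4): `SU_4(q)` is the union of the conjugates of the stabiliser of a nonisotropic
point and the stabiliser of a totally isotropic plane (both containing the centre).

Assembly by helper3 of the farm #12132: (SCR) helper24, (EIG2) helper42, (CASE2) helper59,
(C1P) helper32, (C1M) helper29, (K1),(K4) helper41, (K2) helper70, (K3) helper53, (K5),(K6) helper22.
-/

set_option autoImplicit false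

namespace Cfsg.Agent.Helper3.Cov2

open Polynomial Module Matrix Cfsg.Agent.Helper43.Cov2

section abstract

variable {F V : Type*} [Field F] [Finite F] [AddCommGroup V] [Module F V] [FiniteDimensional F V]
  {σ : F →+* F} (B : V →ₛₗ[σ] V →ₗ[F] F)

/-- the abstract dichotomy: an isometry of a 4-dimensional nondegenerate hermitian space over a
finite field has a nonisotropic eigenvector or an invariant totally isotropic plane -/
theorem dichotomy (hσ : σ ≠ RingHom.id F) (hσ2 : ∀ a : F, σ (σ a) = a)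
    (hS : B.IsSymm) (hB : B.SeparatingLeft) (hdim : finrank F V = 4)
    (T : V →ₗ[F] V) (hT : ∀ x y, B (T x) (T y) = B x y) :
    (∃ v : V, B v v ≠ 0 ∧ ∃ c : F, T v = c • v) ∨
    (∃ W : Submodule F V, finrank F W = 2 ∧ (∀ x ∈ W, ∀ y ∈ W, B x y = 0) ∧
      ∀ x ∈ W, T x ∈ W) := by
  have hscr := Cfsg.Agent.Helper24.Cov2P4.scr_odd σ hσ hσ2
  by_cases h1 : ∃ v : V, B v v ≠ 0 ∧ ∃ c : F, T v = c • v
  · exact Or.inl h1
  right
  have hall : ∀ v : V, v ≠ 0 → (∃ c : F, T v = c • v) → B v v = 0 := by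
    intro v _ hc
    by_contra hne
    exact h1 ⟨v, hne, hc⟩
  by_cases h2 : ∃ v : V, v ≠ 0 ∧ ∃ c : F, T v = c • v
  · obtain ⟨u, hu, c, hTu⟩ := h2
    have huu := hall u hu ⟨c, hTu⟩
    obtain ⟨P, S, hP2, hPnd, hPu, huP, hSiso, hTS⟩ :=
      Cfsg.Agent.Helper32.Cov2P4.exists_compl_isometry B hS hB hdim T hT u hu huu c hTu
    exact Cfsg.Agent.Helper29.Cov2P4.case_eigen_main B hS T hT u hu huu c hTu hall P S hP2 hPnd
      hPu huP hSiso hTS (Cfsg.Agent.Helper42.Cov2P4.eig2 B hS hscr P hP2 hPnd S hSiso)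
  · apply Cfsg.Agent.Helper59.Cov2P4.case_no_eigen B hS hB hdim hscr T hT
    intro v hv c hc
    exact h2 ⟨v, hv, c, hc⟩

end abstract

section concrete

variable {F : Type*} [Field F] [Fintype F] {q : ℕ}

open Cfsg.Agent.S0837 in
/-- ASSEMBLY (helper3): the concrete dichotomy -/
theorem dichotomy_SU (hF : Fintype.card F = q ^ 2) (A : Cfsg.SU 4 F q) :
    (∃ v : Fin 4 → F, Cfsg.hermForm 4 F q v v ≠ 0 ∧
      ∃ c : F, (A.1.1 : Matrix (Fin 4) (Fin 4) F) *ᵥ v = c • v) ∨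
    (∃ W : Submodule F (Fin 4 → F), finrank F W = 2 ∧
      (∀ x ∈ W, ∀ y ∈ W, Cfsg.hermForm 4 F q x y = 0) ∧
      ∀ x ∈ W, (A.1.1 : Matrix (Fin 4) (Fin 4) F) *ᵥ x ∈ W) := by
  have hT : ∀ x y : Fin 4 → F, hB hF 4 (Matrix.toLin' A.1.1 x) (Matrix.toLin' A.1.1 y) =
      hB hF 4 x y := by
    intro x y
    rw [hB_apply, hB_apply, Matrix.toLin'_apply, Matrix.toLin'_apply]
    exact A.2 y x
  have hdim : finrank F (Fin 4 → F) = 4 := by simp
  rcases dichotomy (hB hF 4) (frobHom_ne_id hF) (frobHom_frobHom hF) (hB_isSymm hF 4)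
    (hB_nondegenerate hF 4).1 hdim (Matrix.toLin' A.1.1) hT with ⟨v, hv, c, hc⟩ | ⟨W, hW2, hti, hinv⟩
  · left
    refine ⟨v, ?_, c, ?_⟩
    · rwa [hB_apply] at hv
    · rwa [Matrix.toLin'_apply] at hc
  · right
    refine ⟨W, hW2, ?_, ?_⟩
    · intro x hx y hy
      have := hti y hy x hx
      rwa [hB_apply] at this
    · intro x hx
      have := hinv x hx
      rwa [Matrix.toLin'_apply] at this

/-- ASSEMBLY (helper3): S2500 part (4) -/
theorem part4 (q : ℕ) (hq : Fintype.card F = q ^ 2) : Cover2Z (Cfsg.SU 4 F q) := by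
  obtain ⟨ζ, hζ⟩ := Cfsg.Agent.Helper22.Cov2P4.exists_norm_neg_one hq
  refine ⟨stabSU (Submodule.span F {(Pi.single 0 1 : Fin 4 → F)}), stabSU (W0 ζ),
    Cfsg.Agent.Helper41.Cov2P4.center_le_stabSU hq _, Cfsg.Agent.Helper41.Cov2P4.center_le_stabSU hq _,
    Cfsg.Agent.Helper70.Cov2P4.stabH_ne_top hq, Cfsg.Agent.Helper53.Cov2P4.stabK_ne_top hq ζ hζ, ?_⟩
  intro A
  rcases dichotomy_SU hq A with ⟨v, hv, c, hc⟩ | ⟨W, hW2, hti, hinv⟩
  · obtain ⟨x, hx⟩ := Cfsg.Agent.Helper41.Cov2P4.conj_into_H hq A v hv c hc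
    exact ⟨x, Or.inl hx⟩
  · obtain ⟨x, hx⟩ := Cfsg.Agent.Helper22.Cov2P4.conj_into_K hq ζ hζ A W hW2 hti hinv
    exact ⟨x, Or.inr hx⟩

end concrete

end Cfsg.Agent.Helper3.Cov2
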