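import Mathlib
import Cfsg.Agent.S0837
import Cfsg.Agent.Helper13.UGen1
import Cfsg.Agent.Helper43.Cov2.Defs
import Cfsg.Agent.Helper3.Cov2P4Defs
import Cfsg.Agent.Helper3.Cov2P5Defs
import Cfsg.Agent.Helper10.Cov2P55C
import Cfsg.Agent.Helper10.Cov2P55G2
import Cfsg.Agent.Helper22.Cov2P5K2c
import Cfsg.Agent.Helper22.Cov2P5K3
import Cfsg.Agent.Helper24.Cov2P55E
import Cfsg.Agent.Helper24.Cov2P55K2b
import Cfsg.Agent.Helper30.Cov2P55F
import Cfsg.Agent.Helper30.Cov2P55K2a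
import Cfsg.Agent.Helper48.Cov2P5A
import Cfsg.Agent.Helper48.Cov2P5D
import Cfsg.Agent.Helper60.Cov2P55H1
import Cfsg.Agent.Helper60.Cov2P55H2
import Cfsg.Agent.Helper65.Cov2P55B
import Cfsg.Agent.Helper65.Cov2P55I
import Cfsg.Agent.Helper68.Cov2P55G1
import Cfsg.Agent.Helper89.Cov2P5K1
import Cfsg.Agent.Helper89.Cov2P5T

/-!
# S2500 part (5): `SU_3(q)`, `q = 3^a`, is the union of the conjugates of the stabiliser of a
nonisotropic point and the normaliser of a Singer torus.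

Assembly by helper3 of the farm #12490.
-/

set_option autoImplicit false

namespace Cfsg.Agent.Helper3.Cov2

open Polynomial Module Matrix Cfsg.Agent.Helper43.Cov2

variable {F : Type*} [Field F] [Fintype F] {q : ℕ}

variable (L : Type*) [Field L] [Algebra F L] [Finite L]



/-- invariant hermitian forms on `L` are twisted trace forms -/
theorem inv_form (hF : Fintype.card F = q ^ 2) (hL3 : finrank F L = 3) (lam : L)
    (hlam : ∀ c : F, lam ≠ algebraMap F L c) (B' : L → L → F)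
    (hadd1 : ∀ x x' y, B' (x + x') y = B' x y + B' x' y)
    (hsmul1 : ∀ (c : F) x y, B' (c • x) y = c * B' x y)
    (hadd2 : ∀ x y y', B' x (y + y') = B' x y + B' x y')
    (hsmul2 : ∀ (c : F) x y, B' x (c • y) = c ^ q * B' x y)
    (hherm : ∀ x y, B' y x = (B' x y) ^ q)
    (hnd : ∀ x, (∀ y, B' x y = 0) → x = 0)
    (hinv : ∀ x y, B' (lam * x) (lam * y) = B' x y) :
    ∃ r : L, r ≠ 0 ∧ ∀ x y, B' x y = Algebra.trace F L ((r * x) * (r * y) ^ (q ^ 3)) := by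
  obtain ⟨β, hβ⟩ := Cfsg.Agent.Helper30.Cov2P5.inv_form_beta L hF hL3 lam hlam B' hadd1 hsmul1 hadd2 hsmul2 hherm hnd hinv
  have hβ0 : β ≠ 0 := by
    rintro rfl
    have h10 : (1 : L) = 0 := hnd 1 (fun y => by rw [hβ]; simp)
    exact one_ne_zero h10
  have hfix : β ^ (q ^ 3) = β := by
    apply Cfsg.Agent.Helper24.Cov2P5.beta_fixed L hF hL3
    intro x y
    rw [← hβ, ← hβ]
    exact hherm x y
  obtain ⟨r, hr0, hr⟩ := Cfsg.Agent.Helper22.Cov2P5.exists_norm_eq_L L hF hL3 β hβ0 hfix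
  refine ⟨r, hr0, fun x y => ?_⟩
  rw [hβ, ← hr]
  congr 1
  ring

open Cfsg.Agent.Helper13 in
/-- the irreducible case -/
theorem conj_irred (hF : Fintype.card F = q ^ 2) (a : ℕ) (ha : 1 ≤ a) (hq : q = 3 ^ a)
    (hL3 : finrank F L = 3) (ψ : L ≃ₗ[F] (Fin 3 → F))
    (hψ : ∀ x y : L, Cfsg.hermForm 3 F q (ψ x) (ψ y) = hL F L q x y)
    (A : Cfsg.SU 3 F q)
    (hirr : ∀ v : Fin 3 → F, v ≠ 0 → ∀ c : F, (A.1.1 : Matrix (Fin 3) (Fin 3) F) *ᵥ v ≠ c • v) :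
    ∃ x : Cfsg.SU 3 F q, x * A * x⁻¹ ∈ singerSet L q ψ := by
  obtain ⟨lam, θ, hθ⟩ := Cfsg.Agent.Helper89.Cov2P5.exists_theta L hL3 A.1.1 hirr
  have hlam : ∀ c : F, lam ≠ algebraMap F L c := by
    intro c hc
    have h1 := hθ 1
    rw [hc, mul_one, Algebra.algebraMap_eq_smul_one, map_smul] at h1
    exact hirr (θ 1) ((LinearEquiv.map_ne_zero_iff θ).2 one_ne_zero) c h1.symm
  obtain ⟨r, hr0, hr⟩ := inv_form L hF hL3 lam hlam
    (fun x y => Cfsg.hermForm 3 F q (θ x) (θ y))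
    (fun x x' y => by simp only [map_add]; exact hermForm_add_left _ _ _)
    (fun c x y => by simp only [map_smul]; exact hermForm_smul_left _ _ _)
    (fun x y y' => by simp only [map_add]; exact hermForm_add_right hF _ _ _)
    (fun c x y => by simp only [map_smul]; exact hermForm_smul_right _ _ _)
    (fun x y => (hermForm_conj hF _ _).symm)
    (fun x hx => by
      have h0 : θ x = 0 := eq_zero_of_hermForm_eq_zero hF (θ x) (fun y => by
        have := hx (θ.symm y)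
        simpa using this)
      exact (LinearEquiv.map_eq_zero_iff θ).1 h0)
    (fun x y => by
      simp only [hθ]
      exact A.2 _ _)
  exact Cfsg.Agent.Helper22.Cov2P5.conj_irred_of L hF a ha hq hL3 ψ hψ A lam θ hθ r hr0 hr

/-- the unipotent case -/
theorem conj_unip (hF : Fintype.card F = q ^ 2) (a : ℕ) (ha : 1 ≤ a) (hq : q = 3 ^ a)
    (hL3 : finrank F L = 3) (ψ : L ≃ₗ[F] (Fin 3 → F))
    (hψ : ∀ x y : L, Cfsg.hermForm 3 F q (ψ x) (ψ y) = hL F L q x y)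
    (A : Cfsg.SU 3 F q)
    (h1 : ((A.1.1 : Matrix (Fin 3) (Fin 3) F) - 1) ^ 3 = 0)
    (h2 : ((A.1.1 : Matrix (Fin 3) (Fin 3) F) - 1) ^ 2 ≠ 0) :
    ∃ x : Cfsg.SU 3 F q, x * A * x⁻¹ ∈ singerSet L q ψ := by
  obtain ⟨A', hA'S, h1', h2'⟩ := Cfsg.Agent.Helper65.Cov2P5.exists_frob_elt L hF a ha hq hL3 ψ hψ
  obtain ⟨c₀, hc₀⟩ := Cfsg.Agent.Helper89.Cov2P5.exists_trace_one hF
  obtain ⟨v3, hv3⟩ := Cfsg.Agent.Helper60.Cov2P5.regunip_normal_form hF A h1 h2 c₀ hc₀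
  obtain ⟨v3', hv3'⟩ := Cfsg.Agent.Helper60.Cov2P5.regunip_normal_form hF A' h1' h2' c₀ hc₀
  obtain ⟨x, hx⟩ := Cfsg.Agent.Helper60.Cov2P5.regunip_conj_of_normal_form hF a ha hq A A' h1 h1' c₀ v3 v3' hv3 hv3'
  exact ⟨x, by rw [hx]; exact hA'S⟩

/-- S2500 part (5) for a given cubic extension -/
theorem part5_of (hF : Fintype.card F = q ^ 2) (a : ℕ) (ha : 1 ≤ a) (hq : q = 3 ^ a)
    (hL3 : finrank F L = 3) : Cover2Z (Cfsg.SU 3 F q) := by
  obtain ⟨ψ, hψ⟩ := Cfsg.Agent.Helper48.Cov2P5.exists_psi L hF hL3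
  have hc := Cfsg.Agent.Helper30.Cov2P5.center_SU3_eq_bot hF a ha hq
  refine ⟨stabSU (Submodule.span F {(Pi.single 0 1 : Fin 3 → F)}), singerN L q ψ,
    by rw [hc]; exact bot_le, by rw [hc]; exact bot_le, Cfsg.Agent.Helper24.Cov2P5.stabH3_ne_top hF,
    ?_, ?_⟩
  · intro htop
    obtain ⟨A, hA⟩ := Cfsg.Agent.Helper10.Cov2P5.exists_not_mem_singerSet L hF a ha hq hL3 ψ
    exact hA ((Cfsg.Agent.Helper65.Cov2P5.mem_singerN_iff L hF hL3 ψ A).1 (htop ▸ Subgroup.mem_top A))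
  intro A
  by_cases hno : ∀ v : Fin 3 → F, Cfsg.hermForm 3 F q v v ≠ 0 →
      ∀ c : F, (A.1.1 : Matrix (Fin 3) (Fin 3) F) *ᵥ v ≠ c • v
  · have hK : ∃ x : Cfsg.SU 3 F q, x * A * x⁻¹ ∈ singerSet L q ψ := by
      by_cases hirr : ∀ v : Fin 3 → F, v ≠ 0 →
          ∀ c : F, (A.1.1 : Matrix (Fin 3) (Fin 3) F) *ᵥ v ≠ c • v
      · exact conj_irred L hF a ha hq hL3 ψ hψ A hirr
      · push Not at hirr
        obtain ⟨u, hu, c, hAu⟩ := hirr
        exact conj_unip L hF a ha hq hL3 ψ hψ A (Cfsg.Agent.Helper68.Cov2P5.unip_of_eigen hF a ha hq A hno u hu c hAu)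
          (Cfsg.Agent.Helper10.Cov2P5.sq_ne_zero_of_no_nonisotropic hF A hno)
    obtain ⟨x, hx⟩ := hK
    exact ⟨x, Or.inr ((Cfsg.Agent.Helper65.Cov2P5.mem_singerN_iff L hF hL3 ψ _).2 hx)⟩
  · push Not at hno
    obtain ⟨v, hv, c, hc⟩ := hno
    obtain ⟨x, hx⟩ := Cfsg.Agent.Helper48.Cov2P5.conj_into_H3 hF A v hv c hc
    exact ⟨x, Or.inl hx⟩

omit [Fintype F] in
/-- S2500 part (5) -/
theorem part5 [Fintype F] (q a : ℕ) (hq : Fintype.card F = q ^ 2) (ha : 1 ≤ a) (hqa : q = 3 ^ a) :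
    Cover2Z (Cfsg.SU 3 F q) := by
  obtain ⟨p, hp⟩ := CharP.exists F
  haveI : Fact p.Prime := ⟨CharP.char_is_prime F p⟩
  exact part5_of (FiniteField.Extension F p 3) hq a ha hqa (FiniteField.finrank_extension F p 3)

end Cfsg.Agent.Helper3.Cov2
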