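import Mathlib
import Cfsg.Prelude.Def_Solvable
import Cfsg.Prelude.Def_CaseTheorems
import Cfsg.Prelude.Def_Transfer
import Cfsg.Agent.Helper55.DihComplement

/-!
# Groups with an involution whose centralizer is dihedral of order 8 (helper3)

Abstract facts about `C = C_G(z) ≃* D₈` and the Sylow/transfer reductions used for S3035.
-/

set_option autoImplicit false

namespace Cfsg.Agent.Helper3.D8Cent

open Subgroup

section Dihedral

theorem dih4_center : ∀ g : DihedralGroup 4, (∀ h : DihedralGroup 4, g * h = h * g) →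
    g = 1 ∨ g = DihedralGroup.r 2 := by decide

theorem dih4_r2_central : ∀ h : DihedralGroup 4, DihedralGroup.r 2 * h = h * DihedralGroup.r 2 := by
  decide

theorem dih4_noncomm : DihedralGroup.r (1 : ZMod 4) * DihedralGroup.sr 0 ≠
    DihedralGroup.sr 0 * DihedralGroup.r 1 := by decide

theorem dih4_r1_sq : DihedralGroup.r (1 : ZMod 4) * DihedralGroup.r 1 = DihedralGroup.r 2 := by
  decide

theorem dih4_r2_ne_one : DihedralGroup.r (2 : ZMod 4) ≠ 1 := by decide

theorem dih4_card : Nat.card (DihedralGroup 4) = 8 := by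
  rw [DihedralGroup.nat_card]

end Dihedral

section Abstract

variable {G : Type*} [Group G]

/-- The abstract data extracted from `C_G(z) ≃* D₈`. -/
structure Data (z : G) : Prop where
  hz : orderOf z = 2
  card : Nat.card (centralizer ({z} : Set G)) = 8
  cen : ∀ c ∈ centralizer ({z} : Set G), (∀ d ∈ centralizer ({z} : Set G), c * d = d * c) →
    c = 1 ∨ c = z
  noncomm : ∃ a ∈ centralizer ({z} : Set G), ∃ b ∈ centralizer ({z} : Set G), a * b ≠ b * a
  sq : ∃ a ∈ centralizer ({z} : Set G), a * a = z

theorem mem_centralizer_self (z : G) : z ∈ centralizer ({z} : Set G) := by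
  rw [mem_centralizer_iff]
  intro h hh
  rw [Set.mem_singleton_iff] at hh
  rw [hh]

theorem mem_centralizer_singleton {z g : G} : g ∈ centralizer ({z} : Set G) ↔ g * z = z * g := by
  rw [mem_centralizer_iff]
  constructor
  · intro h
    exact (h z (Set.mem_singleton z)).symm
  · intro h x hx
    rw [Set.mem_singleton_iff] at hx
    rw [hx]; exact h.symm

theorem data_of_equiv (z : G) (hz : orderOf z = 2)
    (e : centralizer ({z} : Set G) ≃* DihedralGroup 4) : Data z := by
  have hz1 : z ≠ 1 := by
    intro h; rw [h, orderOf_one] at hz; omega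
  set zC : centralizer ({z} : Set G) := ⟨z, mem_centralizer_self z⟩ with hzC
  -- `e zC` is central and nontrivial, so it is `r 2`
  have hzc : ∀ d : centralizer ({z} : Set G), zC * d = d * zC := by
    intro d
    apply Subtype.ext
    have := mem_centralizer_singleton.1 d.2
    exact this.symm
  have hez : e zC = DihedralGroup.r 2 := by
    have h1 : ∀ h : DihedralGroup 4, e zC * h = h * e zC := by
      intro h
      have := hzc (e.symm h)
      have h2 := congrArg e this
      rw [map_mul, map_mul, e.apply_symm_apply] at h2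
      exact h2
    rcases dih4_center _ h1 with h | h
    · exfalso
      have : zC = 1 := by
        apply e.injective; rw [h, map_one]
      exact hz1 (congrArg Subtype.val this)
    · exact h
  refine ⟨hz, ?_, ?_, ?_, ?_⟩
  · rw [Nat.card_congr e.toEquiv, dih4_card]
  · intro c hc hcomm
    have h1 : ∀ h : DihedralGroup 4, e ⟨c, hc⟩ * h = h * e ⟨c, hc⟩ := by
      intro h
      have h0 : (⟨c, hc⟩ : centralizer ({z} : Set G)) * e.symm h = e.symm h * ⟨c, hc⟩ := by
        apply Subtype.ext
        exact hcomm _ (e.symm h).2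
      have h2 := congrArg e h0
      rw [map_mul, map_mul, e.apply_symm_apply] at h2
      exact h2
    rcases dih4_center _ h1 with h | h
    · left
      have : (⟨c, hc⟩ : centralizer ({z} : Set G)) = 1 := by
        apply e.injective; rw [h, map_one]
      exact congrArg Subtype.val this
    · right
      have : (⟨c, hc⟩ : centralizer ({z} : Set G)) = zC := by
        apply e.injective; rw [h, hez]
      exact congrArg Subtype.val this
  · refine ⟨(e.symm (DihedralGroup.r 1) : G), (e.symm _).2, (e.symm (DihedralGroup.sr 0) : G),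
      (e.symm _).2, ?_⟩
    intro h
    have h0 : e.symm (DihedralGroup.r 1) * e.symm (DihedralGroup.sr 0) =
        e.symm (DihedralGroup.sr 0) * e.symm (DihedralGroup.r 1) := Subtype.ext h
    rw [← map_mul, ← map_mul] at h0
    exact dih4_noncomm (e.symm.injective h0)
  · refine ⟨(e.symm (DihedralGroup.r 1) : G), (e.symm _).2, ?_⟩
    have h0 : e.symm (DihedralGroup.r 1) * e.symm (DihedralGroup.r 1) = zC := by
      rw [← map_mul, dih4_r1_sq, ← hez, e.symm_apply_apply]
    exact congrArg Subtype.val h0

end Abstract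

section Sylow

variable {G : Type*} [Group G] [Finite G]

theorem Data.z_ne_one {z : G} (D : Data z) : z ≠ 1 := by
  intro h; have := D.hz; rw [h, orderOf_one] at this; omega

theorem Data.z_mul_self {z : G} (D : Data z) : z * z = 1 := by
  have := pow_orderOf_eq_one z
  rwa [D.hz, pow_two] at this

theorem Data.isPGroup {z : G} (D : Data z) : IsPGroup 2 (centralizer ({z} : Set G)) :=
  IsPGroup.of_card (n := 3) (by rw [D.card]; norm_num)

/-- The centralizer of `z` is a Sylow 2-subgroup. -/
theorem Data.exists_sylow_eq {z : G} (D : Data z) :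
    ∃ T : Sylow 2 G, (T : Subgroup G) = centralizer ({z} : Set G) := by
  haveI : Fact (Nat.Prime 2) := ⟨Nat.prime_two⟩
  obtain ⟨T, hCT⟩ := D.isPGroup.exists_le_sylow
  refine ⟨T, le_antisymm ?_ hCT⟩
  have hzT : z ∈ (T : Subgroup G) := hCT (mem_centralizer_self z)
  haveI : Nontrivial (T : Subgroup G) := ⟨⟨⟨z, hzT⟩, 1, fun h => D.z_ne_one (congrArg Subtype.val h)⟩⟩
  haveI := T.2.center_nontrivial
  obtain ⟨c, hc⟩ := exists_ne (1 : center (T : Subgroup G))
  have hc1 : ((c : (T : Subgroup G)) : G) ≠ 1 := by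
    intro h
    apply hc
    apply Subtype.ext
    apply Subtype.ext
    exact h
  have hcomm : ∀ t ∈ (T : Subgroup G), ((c : (T : Subgroup G)) : G) * t = t * ((c : (T : Subgroup G)) : G) := by
    intro t ht
    have := mem_center_iff.1 c.2 ⟨t, ht⟩
    exact (congrArg Subtype.val this).symm
  have hcC : ((c : (T : Subgroup G)) : G) ∈ centralizer ({z} : Set G) :=
    mem_centralizer_singleton.2 (hcomm z hzT)
  have hcz : ((c : (T : Subgroup G)) : G) = z := by
    rcases D.cen _ hcC (fun d hd => hcomm d (hCT hd)) with h | h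
    · exact absurd h hc1
    · exact h
  intro t ht
  rw [mem_centralizer_singleton]
  have := hcomm t ht
  rw [hcz] at this
  exact this.symm

end Sylow

section CaseA

variable {G : Type*} [Group G] [Finite G]

/-- All Sylow 2-subgroups have order 8. -/
theorem Data.card_sylow {z : G} (D : Data z) (P : Sylow 2 G) : Nat.card P = 8 := by
  haveI : Fact (Nat.Prime 2) := ⟨Nat.prime_two⟩
  obtain ⟨T, hT⟩ := D.exists_sylow_eq
  rw [Sylow.card_eq_multiplicity, ← Sylow.card_eq_multiplicity T]
  show Nat.card (T : Subgroup G) = 8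
  rw [hT, D.card]

/-- A normal subgroup `N` with `card N * 8 = card G` is an odd-order normal complement of `C`. -/
theorem Data.sup_eq_top_of_card {z : G} (D : Data z) (N : Subgroup G) (hN : N.Normal)
    (hcard : Nat.card N * 8 = Nat.card G) (hodd : Odd (Nat.card N)) :
    centralizer ({z} : Set G) ⊔ Cfsg.oddCore G = ⊤ := by
  have hcop : (Nat.card N).Coprime 2 := (Nat.coprime_two_left.2 hodd).symm
  have hle : N ≤ Cfsg.oddCore G := le_sSup ⟨hN, hcop⟩
  have hc : IsComplement' (centralizer ({z} : Set G)) N := by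
    apply isComplement'_of_coprime
    · rw [D.card, mul_comm]; exact hcard
    · rw [D.card]
      have : (Nat.card N).Coprime (2 ^ 3) := Nat.Coprime.pow_right 3 hcop
      exact this.symm
  have h1 := hc.sup_eq_top
  exact top_le_iff.1 (h1 ▸ sup_le_sup_left hle _)

/-- Case (a): a normal 2-complement gives `G = C_G(z) O(G)`. -/
theorem Data.sup_oddCore_eq_top {z : G} (D : Data z) (h : Cfsg.HasNormalPComplement 2 G) :
    centralizer ({z} : Set G) ⊔ Cfsg.oddCore G = ⊤ := by
  obtain ⟨P, N, hN, hc⟩ := h
  have h1 := hc.card_mul_card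
  rw [D.card_sylow P] at h1
  have hodd : Odd (Nat.card N) := by
    rw [← Nat.not_even_iff_odd, even_iff_two_dvd]
    intro h2
    haveI : Fact (Nat.Prime 2) := ⟨Nat.prime_two⟩
    -- 16 ∣ card G contradicts the Sylow order
    have h16 : 2 ^ 4 ∣ Nat.card G := by
      rw [← h1]
      obtain ⟨k, hk⟩ := h2
      exact ⟨k, by rw [hk]; ring⟩
    have hG : Nat.card G ≠ 0 := Nat.card_pos.ne'
    have h4 := (Nat.Prime.pow_dvd_iff_le_factorization Nat.prime_two hG).1 h16
    have h8 := D.card_sylow P
    rw [Sylow.card_eq_multiplicity] at h8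
    have : (Nat.card G).factorization 2 = 3 := by
      have h3 : (2 : ℕ) ^ (Nat.card G).factorization 2 = 2 ^ 3 := by rw [h8]; norm_num
      exact Nat.pow_right_injective (le_refl 2) h3
    omega
  exact D.sup_eq_top_of_card N hN h1 hodd

end CaseA

section CaseB

variable {G : Type*} [Group G] [Finite G]

theorem Data.factorization_two {z : G} (D : Data z) : (Nat.card G).factorization 2 = 3 := by
  haveI : Fact (Nat.Prime 2) := ⟨Nat.prime_two⟩
  obtain ⟨T, hT⟩ := D.exists_sylow_eq
  have h8 := D.card_sylow T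
  rw [Sylow.card_eq_multiplicity] at h8
  have h3 : (2 : ℕ) ^ (Nat.card G).factorization 2 = 2 ^ 3 := by rw [h8]; norm_num
  exact Nat.pow_right_injective (le_refl 2) h3

theorem Data.not_sixteen_dvd {z : G} (D : Data z) : ¬ 16 ∣ Nat.card G := by
  intro h
  have hG : Nat.card G ≠ 0 := Nat.card_pos.ne'
  have h16 : 2 ^ 4 ∣ Nat.card G := by norm_num; exact h
  have h4 := (Nat.Prime.pow_dvd_iff_le_factorization Nat.prime_two hG).1 h16
  rw [D.factorization_two] at h4
  omega

theorem Data.eight_dvd {z : G} (D : Data z) : 8 ∣ Nat.card G := by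
  rw [← D.card]
  exact Subgroup.card_subgroup_dvd_card _

/-- A normal subgroup `N` of odd order with `card N * 8 = card G` is a normal 2-complement. -/
theorem Data.hasNormalPComplement_of_card {z : G} (D : Data z) (N : Subgroup G) (hN : N.Normal)
    (hcard : Nat.card N * 8 = Nat.card G) (hodd : Odd (Nat.card N)) :
    Cfsg.HasNormalPComplement 2 G := by
  obtain ⟨T, hT⟩ := D.exists_sylow_eq
  refine ⟨T, N, hN, ?_⟩
  have hcop : (Nat.card N).Coprime 2 := (Nat.coprime_two_left.2 hodd).symm
  apply isComplement'_of_coprime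
  · rw [D.card_sylow T]; exact hcard
  · rw [D.card_sylow T]
    exact Nat.Coprime.pow_right 3 hcop

/-- A 2-group `G` has (trivially) a normal 2-complement. -/
theorem Data.hasNormalPComplement_of_card_eq {z : G} (D : Data z) (h : Nat.card G = 8) :
    Cfsg.HasNormalPComplement 2 G := by
  apply D.hasNormalPComplement_of_card ⊥ inferInstance
  · rw [Subgroup.card_bot, h]
  · rw [Subgroup.card_bot]; exact odd_one

/-- Lifting a normal 2-complement from a subgroup of index two. -/
theorem Data.hasNormalPComplement_of_index_two {z : G} (D : Data z) (H : Subgroup G)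
    (hH : H.index = 2) (K₀ : Subgroup H) (hK₀ : K₀.Normal) (hodd : Odd (Nat.card K₀)) (k : ℕ)
    (hk : K₀.index = 2 ^ k) : Cfsg.HasNormalPComplement 2 G := by
  haveI : H.Normal := Subgroup.normal_of_index_eq_two hH
  set K : Subgroup G := K₀.map H.subtype with hKdef
  have hKcard : Nat.card K = Nat.card K₀ :=
    Nat.card_congr (K₀.equivMapOfInjective H.subtype H.subtype_injective).symm.toEquiv
  have hKn : K.Normal := by
    constructor
    intro x hx g
    obtain ⟨y, hy, rfl⟩ := Subgroup.mem_map.1 hx
    have hmem : g * (y : G) * g⁻¹ ∈ H := ‹H.Normal›.conj_mem _ y.2 g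
    refine Subgroup.mem_map.2 ⟨⟨_, hmem⟩, ?_, rfl⟩
    rw [Helper55.mem_iff_odd_orderOf hK₀ hodd hk]
    have h1 : Odd (orderOf y) := (Helper55.mem_iff_odd_orderOf hK₀ hodd hk y).1 hy
    rw [← Subgroup.orderOf_coe] at h1 ⊢
    have : orderOf (g * (y : G) * g⁻¹) = orderOf (y : G) := by
      have := (MulAut.conj g).orderOf_eq (y : G)
      simpa using this
    show Odd (orderOf (g * (y : G) * g⁻¹))
    rw [this]; exact h1
  have h1 : Nat.card K₀ * 2 ^ k = Nat.card H := by
    rw [← hk]; exact Subgroup.card_mul_index K₀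
  have h2 : Nat.card H * 2 = Nat.card G := by
    rw [← hH]; exact Subgroup.card_mul_index H
  have h3 : Nat.card K * 2 ^ (k + 1) = Nat.card G := by
    rw [hKcard, pow_succ, ← mul_assoc, h1, h2]
  have hk2 : k + 1 = 3 := by
    have hG : Nat.card G ≠ 0 := Nat.card_pos.ne'
    have hf := D.factorization_two
    rw [← h3, Nat.factorization_mul (by rw [hKcard]; exact Nat.card_pos.ne') (by positivity)] at hf
    simp only [Finsupp.coe_add, Pi.add_apply] at hf
    rw [Nat.factorization_pow] at hf
    simp only [Finsupp.coe_smul, Pi.smul_apply, smul_eq_mul] at hf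
    have h0 : (Nat.card K).factorization 2 = 0 := by
      apply Nat.factorization_eq_zero_of_not_dvd
      rw [hKcard, ← even_iff_two_dvd, Nat.not_even_iff_odd]
      exact hodd
    rw [h0, Nat.Prime.factorization_self Nat.prime_two] at hf
    omega
  rw [hk2] at h3
  exact D.hasNormalPComplement_of_card K hKn (by rw [← h3]; norm_num) (by rw [hKcard]; exact hodd)

end CaseB

section IndexTwo

variable {G : Type*} [Group G] [Finite G]

theorem Data.z_mem_of_index_two {z : G} (D : Data z) (H : Subgroup G) (hH : H.index = 2) :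
    z ∈ H := by
  obtain ⟨a, -, ha⟩ := D.sq
  rw [← ha]
  exact Subgroup.mul_self_mem_of_index_two hH a

theorem card_mul_two_of_index_two (H : Subgroup G) (hH : H.index = 2) :
    Nat.card H * 2 = Nat.card G := by
  rw [← hH]; exact Subgroup.card_mul_index H

theorem Data.not_le_of_index_two {z : G} (D : Data z) (H : Subgroup G) (hH : H.index = 2) :
    ¬ centralizer ({z} : Set G) ≤ H := by
  intro hle
  have h1 : 8 ∣ Nat.card H := by
    rw [← D.card]
    exact Subgroup.card_dvd_of_le hle
  apply D.not_sixteen_dvd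
  rw [← card_mul_two_of_index_two H hH]
  obtain ⟨k, hk⟩ := h1
  exact ⟨k, by rw [hk]; ring⟩

theorem Data.card_inf {z : G} (D : Data z) (H : Subgroup G) (hH : H.index = 2) :
    Nat.card ↥(centralizer ({z} : Set G) ⊓ H) = 4 := by
  haveI : H.Normal := Subgroup.normal_of_index_eq_two hH
  have h1 : H.relIndex (centralizer ({z} : Set G)) ∣ 2 := by
    rw [← hH]; exact Subgroup.relIndex_dvd_index_of_normal H _
  have h2 : H.relIndex (centralizer ({z} : Set G)) ≠ 1 := by
    rw [Ne, Subgroup.relIndex_eq_one]
    exact D.not_le_of_index_two H hH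
  have h3 : H.relIndex (centralizer ({z} : Set G)) = 2 := by
    rcases (Nat.dvd_prime Nat.prime_two).1 h1 with h | h
    · exact absurd h h2
    · exact h
  have h4 : (centralizer ({z} : Set G) ⊓ H).relIndex (centralizer ({z} : Set G)) = 2 := by
    rw [inf_comm, Subgroup.inf_relIndex_right, h3]
  have h5 := Subgroup.card_mul_index
    ((centralizer ({z} : Set G) ⊓ H).subgroupOf (centralizer ({z} : Set G)))
  rw [D.card] at h5
  have h6 : ((centralizer ({z} : Set G) ⊓ H).subgroupOf (centralizer ({z} : Set G))).index = 2 := h4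
  rw [h6] at h5
  have h7 : Nat.card ↥((centralizer ({z} : Set G) ⊓ H).subgroupOf (centralizer ({z} : Set G))) =
      Nat.card ↥(centralizer ({z} : Set G) ⊓ H) :=
    Nat.card_congr (Subgroup.subgroupOfEquivOfLe inf_le_left).toEquiv
  rw [h7] at h5
  omega

/-- Elements of `C` outside `H` differ by elements of `C ⊓ H`. -/
theorem Data.exists_mul_of_not_mem {z : G} (D : Data z) (H : Subgroup G) (hH : H.index = 2)
    {c d : G} (hc : c ∈ centralizer ({z} : Set G)) (hcH : c ∉ H)
    (hd : d ∈ centralizer ({z} : Set G)) (hdH : d ∉ H) :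
    ∃ s ∈ centralizer ({z} : Set G) ⊓ H, d = c * s := by
  refine ⟨c⁻¹ * d, Subgroup.mem_inf.2 ⟨mul_mem (inv_mem hc) hd, ?_⟩, by group⟩
  rw [Subgroup.mul_mem_iff_of_index_two hH]
  constructor
  · intro h; exact absurd (by simpa using inv_mem h) hcH
  · intro h; exact absurd h hdH

/-- An element of `C` centralizing `C ⊓ H` lies in `C ⊓ H`. -/
theorem Data.mem_inf_of_centralizes {z : G} (D : Data z) (H : Subgroup G) (hH : H.index = 2)
    {c : G} (hc : c ∈ centralizer ({z} : Set G))
    (hcomm : ∀ s ∈ centralizer ({z} : Set G) ⊓ H, c * s = s * c) :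
    c ∈ centralizer ({z} : Set G) ⊓ H := by
  by_contra hcS
  have hcH : c ∉ H := fun h => hcS ⟨hc, h⟩
  have hzS : z ∈ centralizer ({z} : Set G) ⊓ H :=
    ⟨mem_centralizer_self z, D.z_mem_of_index_two H hH⟩
  have hcen : ∀ d ∈ centralizer ({z} : Set G), c * d = d * c := by
    intro d hd
    by_cases hdH : d ∈ H
    · exact hcomm d ⟨hd, hdH⟩
    · obtain ⟨s, hs, rfl⟩ := D.exists_mul_of_not_mem H hH hc hcH hd hdH
      rw [← mul_assoc, mul_assoc c s c, ← hcomm s hs, ← mul_assoc]
  rcases D.cen c hc hcen with h | h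
  · apply hcS; rw [h]; exact one_mem _
  · apply hcS; rw [h]; exact hzS

end IndexTwo

section SylowH

variable {G : Type*} [Group G] [Finite G]

theorem Data.factorization_two_of_index_two {z : G} (D : Data z) (H : Subgroup G)
    (hH : H.index = 2) : (Nat.card H).factorization 2 = 2 := by
  have h1 := card_mul_two_of_index_two H hH
  have hf := D.factorization_two
  rw [← h1, Nat.factorization_mul Nat.card_pos.ne' (by norm_num)] at hf
  simp only [Finsupp.coe_add, Pi.add_apply] at hf
  rw [Nat.Prime.factorization_self Nat.prime_two] at hf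
  omega

theorem Data.card_subgroupOf {z : G} (D : Data z) (H : Subgroup G) (hH : H.index = 2) :
    Nat.card ↥((centralizer ({z} : Set G) ⊓ H).subgroupOf H) = 4 := by
  rw [Nat.card_congr (Subgroup.subgroupOfEquivOfLe inf_le_right).toEquiv]
  exact D.card_inf H hH

/-- `(C ⊓ H)` as a Sylow 2-subgroup of `H`. -/
theorem Data.exists_sylow_of_index_two {z : G} (D : Data z) (H : Subgroup G) (hH : H.index = 2) :
    ∃ P : Sylow 2 H, (P : Subgroup H) = (centralizer ({z} : Set G) ⊓ H).subgroupOf H := by
  haveI : Fact (Nat.Prime 2) := ⟨Nat.prime_two⟩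
  refine ⟨Sylow.ofCard _ ?_, Sylow.coe_ofCard _ _⟩
  rw [D.card_subgroupOf H hH, D.factorization_two_of_index_two H hH]
  norm_num

theorem two_dvd_card_of_index_two {z : G} (D : Data z) (H : Subgroup G) (hH : H.index = 2) :
    (Nat.card H).minFac = 2 := by
  rw [Nat.minFac_eq_two_iff]
  have h4 : 4 ∣ Nat.card H := by
    rw [← D.card_subgroupOf H hH]
    exact Subgroup.card_subgroup_dvd_card _
  exact Dvd.dvd.trans (by norm_num) h4

/-- If `G` has no normal 2-complement then `C ⊓ H` has exponent two. -/
theorem Data.mul_self_of_mem_inf {z : G} (D : Data z) (H : Subgroup G) (hH : H.index = 2)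
    (hnc : ¬ Cfsg.HasNormalPComplement 2 G) {c : G} (hc : c ∈ centralizer ({z} : Set G) ⊓ H) :
    c * c = 1 := by
  by_contra hcc
  haveI : Fact (Nat.Prime 2) := ⟨Nat.prime_two⟩
  obtain ⟨P, hP⟩ := D.exists_sylow_of_index_two H hH
  apply hnc
  -- the element `c` as an element of `P`
  have hcH : c ∈ H := hc.2
  have hcP : (⟨c, hcH⟩ : H) ∈ (P : Subgroup H) := by
    rw [hP, Subgroup.mem_subgroupOf]; exact hc
  have hcardP : Nat.card (P : Subgroup H) = 4 := by rw [hP]; exact D.card_subgroupOf H hH
  have hord : orderOf (⟨⟨c, hcH⟩, hcP⟩ : (P : Subgroup H)) = 4 := by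
    have h1 : orderOf (⟨⟨c, hcH⟩, hcP⟩ : (P : Subgroup H)) ∣ 4 := by
      rw [← hcardP]; exact orderOf_dvd_natCard _
    have h2 : orderOf (⟨⟨c, hcH⟩, hcP⟩ : (P : Subgroup H)) = orderOf c := by
      rw [Subgroup.orderOf_mk, Subgroup.orderOf_mk]
    rw [h2] at h1 ⊢
    have h3 : orderOf c ≠ 1 := by
      intro h; rw [orderOf_eq_one_iff] at h; apply hcc; rw [h, one_mul]
    have h4 : orderOf c ≠ 2 := by
      intro h; apply hcc
      have := pow_orderOf_eq_one c
      rwa [h, pow_two] at this
    have h5 : orderOf c ∈ Nat.divisors 4 := Nat.mem_divisors.2 ⟨h1, by norm_num⟩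
    have key : ∀ n ∈ Nat.divisors 4, n ≠ 1 → n ≠ 2 → n = 4 := by decide
    exact key _ h5 h3 h4
  have hcyc : IsCyclic (P : Subgroup H) :=
    isCyclic_of_orderOf_eq_card _ (by rw [hord, hcardP])
  obtain ⟨K₀, hK₀, hodd, k, hk⟩ := Helper55.exists_normal_two_complement_of_burnside P
    (hcyc.normalizer_le_centralizer (two_dvd_card_of_index_two D H hH))
  exact D.hasNormalPComplement_of_index_two H hH K₀ hK₀ hodd k hk

/-- A normal 2-complement of `H` lifts to `G`. -/
theorem Data.not_hasNormalPComplement_of_index_two {z : G} (D : Data z) (H : Subgroup G)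
    (hH : H.index = 2) (hnc : ¬ Cfsg.HasNormalPComplement 2 G) :
    ¬ Cfsg.HasNormalPComplement 2 H := by
  haveI : Fact (Nat.Prime 2) := ⟨Nat.prime_two⟩
  rintro ⟨P, N, hN, hcomp⟩
  apply hnc
  have h1 := hcomp.card_mul_card
  have hcardP : Nat.card P = 4 := by
    rw [Sylow.card_eq_multiplicity, D.factorization_two_of_index_two H hH]; norm_num
  have hidx : N.index = 2 ^ 2 := by
    rw [hcomp.symm.index_eq_card, hcardP]; norm_num
  have hodd : Odd (Nat.card N) := by
    rw [← Nat.not_even_iff_odd, even_iff_two_dvd]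
    intro h2
    have h8 : 2 ^ 3 ∣ Nat.card H := by
      rw [← h1, hcardP]
      obtain ⟨j, hj⟩ := h2
      exact ⟨j, by rw [hj]; ring⟩
    have := (Nat.Prime.pow_dvd_iff_le_factorization Nat.prime_two Nat.card_pos.ne').1 h8
    rw [D.factorization_two_of_index_two H hH] at this
    omega
  exact D.hasNormalPComplement_of_index_two H hH N hN hodd 2 hidx

end SylowH

section Apply3277

universe u

/-- The statement of S3277, as a hypothesis. -/
def H3277 : Prop := ∀ {G : Type u} [Group G] [Finite G] (x : G) (_ : orderOf x = 2)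
    (_ : Nat.card ↥(Subgroup.centralizer ({x} : Set G)) = 4)
    (_ : ∀ c ∈ Subgroup.centralizer ({x} : Set G), c ^ 2 = 1)
    (_ : ¬ Cfsg.HasNormalPComplement 2 G)
    (_ : ∀ E : Subgroup G, E.Normal → Cfsg.IsElementaryAbelian 2 E →
      Nat.card ↥E ≠ 2 ∧ Nat.card ↥E ≠ 4),
    Nonempty (G ≃* ↥(alternatingGroup (Fin 5)))

variable {G : Type u} [Group G] [Finite G]

theorem centralizer_subtype_eq (H : Subgroup G) (z : G) (hzH : z ∈ H) :
    centralizer ({(⟨z, hzH⟩ : H)} : Set H) = (centralizer ({z} : Set G)).subgroupOf H := by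
  ext c
  rw [mem_centralizer_singleton, Subgroup.mem_subgroupOf, mem_centralizer_singleton]
  constructor
  · intro h; exact congrArg Subtype.val h
  · intro h; exact Subtype.ext h

theorem Data.index_two_dichotomy (h3277 : H3277.{u}) {z : G} (D : Data z) (H : Subgroup G)
    (hH : H.index = 2) (hnc : ¬ Cfsg.HasNormalPComplement 2 G) :
    Nonempty (H ≃* ↥(alternatingGroup (Fin 5))) ∨
      ∃ E : Subgroup H, E.Normal ∧ Cfsg.IsElementaryAbelian 2 E ∧
        (Nat.card E = 2 ∨ Nat.card E = 4) := by
  by_cases hne : ∀ E : Subgroup H, E.Normal → Cfsg.IsElementaryAbelian 2 E →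
      Nat.card ↥E ≠ 2 ∧ Nat.card ↥E ≠ 4
  · left
    have hzH := D.z_mem_of_index_two H hH
    have hceq := centralizer_subtype_eq H z hzH
    refine h3277 (⟨z, hzH⟩ : H) ?_ ?_ ?_ (D.not_hasNormalPComplement_of_index_two H hH hnc) hne
    · rw [Subgroup.orderOf_mk]; exact D.hz
    · rw [hceq, ← Subgroup.inf_subgroupOf_right]
      exact D.card_subgroupOf H hH
    · intro c hc
      rw [hceq, Subgroup.mem_subgroupOf] at hc
      have h1 := D.mul_self_of_mem_inf H hH hnc (c := (c : G)) ⟨hc, c.2⟩
      apply Subtype.ext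
      rw [pow_two]
      exact h1
  · right
    push Not at hne
    obtain ⟨E, hE, hEa, hcard⟩ := hne
    refine ⟨E, hE, hEa, ?_⟩
    by_cases h2 : Nat.card E = 2
    · left; exact h2
    · right; exact hcard h2

end Apply3277

end Cfsg.Agent.Helper3.D8Cent
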