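import Mathlib
import Cfsg.Agent.Helper3.D8Cent
import Cfsg.Agent.S1012

/-!
# `C_G(z) ≃* D₈`, index-two subgroup with a small normal 2-subgroup  ⟹  `G ≃* S₄`  (helper3)
-/

set_option autoImplicit false

namespace Cfsg.Agent.Helper3.D8Cent

open Subgroup

section Listing

variable {X : Type*} [Group X]

/-- Four distinct elements of a subgroup of order four exhaust it. -/
theorem mem_four (T : Subgroup X) (hT : Nat.card T = 4) {a b c d : X}
    (ha : a ∈ T) (hb : b ∈ T) (hc : c ∈ T) (hd : d ∈ T)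
    (hab : a ≠ b) (hac : a ≠ c) (had : a ≠ d) (hbc : b ≠ c) (hbd : b ≠ d) (hcd : c ≠ d) :
    ∀ x ∈ T, x = a ∨ x = b ∨ x = c ∨ x = d := by
  classical
  haveI : Finite T := Nat.finite_of_card_ne_zero (by rw [hT]; norm_num)
  have hfin : (T : Set X).Finite := Set.toFinite _
  have hTcard : hfin.toFinset.card = 4 := by
    rw [← Set.ncard_eq_toFinset_card _ hfin, ← Nat.card_coe_set_eq]
    exact hT
  set F : Finset X := {a, b, c, d} with hF
  have hFcard : F.card = 4 := by
    rw [hF, Finset.card_insert_of_notMem, Finset.card_insert_of_notMem,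
      Finset.card_insert_of_notMem, Finset.card_singleton]
    · simpa using hcd
    · simp [hbc, hbd]
    · simp [hab, hac, had]
  have hsub : F ⊆ hfin.toFinset := by
    intro x hx
    rw [Set.Finite.mem_toFinset]
    rw [hF] at hx
    simp only [Finset.mem_insert, Finset.mem_singleton] at hx
    rcases hx with rfl | rfl | rfl | rfl <;> assumption
  have heq : F = hfin.toFinset :=
    Finset.eq_of_subset_of_card_le hsub (by rw [hTcard, hFcard])
  intro x hx
  have : x ∈ F := by rw [heq, Set.Finite.mem_toFinset]; exact hx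
  rw [hF] at this
  simpa only [Finset.mem_insert, Finset.mem_singleton] using this

/-- A subgroup of order four has an element outside any two given elements. -/
theorem exists_not_mem_pair (T : Subgroup X) (hT : Nat.card T = 4) (a b : X) :
    ∃ s ∈ T, s ≠ a ∧ s ≠ b := by
  classical
  by_contra hcon
  push Not at hcon
  haveI : Finite T := Nat.finite_of_card_ne_zero (by rw [hT]; norm_num)
  have hfin : (T : Set X).Finite := Set.toFinite _
  have hTcard : hfin.toFinset.card = 4 := by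
    rw [← Set.ncard_eq_toFinset_card _ hfin, ← Nat.card_coe_set_eq]
    exact hT
  have hsub : hfin.toFinset ⊆ ({a, b} : Finset X) := by
    intro x hx
    rw [Set.Finite.mem_toFinset] at hx
    simp only [Finset.mem_insert, Finset.mem_singleton]
    by_cases h : x = a
    · exact Or.inl h
    · exact Or.inr (hcon x hx h)
  have := Finset.card_le_card hsub
  have h2 : ({a, b} : Finset X).card ≤ 2 := Finset.card_le_two
  omega

/-- Listing of a four-group through a chosen involution. -/
theorem exists_listing (T : Subgroup X) (hT : Nat.card T = 4) (hsq : ∀ x ∈ T, x * x = 1)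
    {e : X} (heT : e ∈ T) (he1 : e ≠ 1) :
    ∃ s : X, ∀ x ∈ T, x = 1 ∨ x = e ∨ x = s ∨ x = s * e := by
  obtain ⟨s, hsT, hs1, hse⟩ := exists_not_mem_pair T hT 1 e
  refine ⟨s, mem_four T hT (one_mem _) heT hsT (mul_mem hsT heT) (Ne.symm he1) (Ne.symm hs1) ?_
    (Ne.symm hse) ?_ ?_⟩
  · intro h
    -- 1 = s * e, so s = e⁻¹ = e
    have hee := hsq e heT
    have : s = e := by
      have h1 : s * e * e = e := by rw [← h, one_mul]
      rwa [mul_assoc, hee, mul_one] at h1
    exact hse this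
  · intro h
    -- e = s * e, so s = 1
    have : s = 1 := by
      have h1 : s * e * e⁻¹ = e * e⁻¹ := by rw [← h]
      rwa [mul_assoc, mul_inv_cancel, mul_one] at h1
    exact hs1 this
  · intro h
    -- s = s * e, so e = 1
    have : e = 1 := by
      have h1 : s⁻¹ * s = s⁻¹ * (s * e) := by rw [← h]
      rw [inv_mul_cancel, ← mul_assoc, inv_mul_cancel, one_mul] at h1
      exact h1.symm
    exact he1 this

end Listing

section B2

variable {G : Type*} [Group G] [Finite G]

/-- A normal subgroup of order two of `H` (index two in `G`) forces a normal 2-complement. -/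
theorem Data.card_ne_two_of_normal {z : G} (D : Data z) (H : Subgroup G) (hH : H.index = 2)
    (hnc : ¬ Cfsg.HasNormalPComplement 2 G) (E : Subgroup H) (hE : E.Normal)
    (hcard : Nat.card E = 2) : False := by
  haveI : Fact (Nat.Prime 2) := ⟨Nat.prime_two⟩
  obtain ⟨P, hP⟩ := D.exists_sylow_of_index_two H hH
  have hEp : IsPGroup 2 E := IsPGroup.of_card (n := 1) (by rw [hcard, pow_one])
  have hEP : E ≤ P := hEp.le_sylow_of_normal P
  obtain ⟨e, he1, hall⟩ := (Nat.card_eq_two_iff' (1 : E)).1 hcard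
  have he1' : (e : H) ≠ 1 := fun h => he1 (Subtype.ext h)
  have hecen : (e : H) ∈ Subgroup.center H := by
    rw [Subgroup.mem_center_iff]
    intro g
    have h1 : g * e * g⁻¹ ∈ E := hE.conj_mem _ e.2 g
    have h2 : (⟨g * e * g⁻¹, h1⟩ : E) = e := by
      apply hall
      intro h
      apply he1'
      have h' : g * (e : H) * g⁻¹ = 1 := congrArg Subtype.val h
      calc (e : H) = g⁻¹ * (g * (e : H) * g⁻¹) * g := by group
        _ = 1 := by rw [h']; group
    have h3 : g * e * g⁻¹ = e := congrArg Subtype.val h2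
    calc g * e = g * e * g⁻¹ * g := by group
      _ = e * g := by rw [h3]
  have hcardP : Nat.card (P : Subgroup H) = 4 := by rw [hP]; exact D.card_subgroupOf H hH
  have hsq : ∀ x ∈ (P : Subgroup H), x * x = 1 := by
    intro x hx
    rw [hP, Subgroup.mem_subgroupOf] at hx
    have := D.mul_self_of_mem_inf H hH hnc hx
    exact Subtype.ext this
  have heP : (e : H) ∈ (P : Subgroup H) := hEP e.2
  obtain ⟨s, hs⟩ := exists_listing (P : Subgroup H) hcardP hsq heP he1'
  have hNC := Helper55.normalizer_le_centralizer_of_small P (z := (e : H)) (g₀ := (e : H))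
    (s := s) hecen he1' heP hs hsq
  obtain ⟨K₀, hK₀, hodd, k, hk⟩ := Helper55.exists_normal_two_complement_of_burnside P hNC
  exact hnc (D.hasNormalPComplement_of_index_two H hH K₀ hK₀ hodd k hk)

/-- A normal subgroup of order four of `H` makes `C ⊓ H` normal in `G`. -/
theorem Data.inf_normal_of_card_four {z : G} (D : Data z) (H : Subgroup G) (hH : H.index = 2)
    (E : Subgroup H) (hE : E.Normal) (hcard : Nat.card E = 4) :
    (centralizer ({z} : Set G) ⊓ H).Normal := by
  haveI : Fact (Nat.Prime 2) := ⟨Nat.prime_two⟩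
  haveI hHn : H.Normal := Subgroup.normal_of_index_eq_two hH
  obtain ⟨P, hP⟩ := D.exists_sylow_of_index_two H hH
  have hEp : IsPGroup 2 E := IsPGroup.of_card (n := 2) (by rw [hcard]; norm_num)
  have hEP : E ≤ P := hEp.le_sylow_of_normal P
  have hcardP : Nat.card (P : Subgroup H) = 4 := by rw [hP]; exact D.card_subgroupOf H hH
  have hEeq : E = (P : Subgroup H) :=
    Subgroup.eq_of_le_of_card_ge hEP (by rw [hcardP, hcard])
  have hPn : (P : Subgroup H).Normal := hEeq ▸ hE
  have hPc : (P : Subgroup H).Characteristic := P.characteristic_of_normal hPn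
  constructor
  intro s hs g
  have hsH : s ∈ H := hs.2
  have hsP : (⟨s, hsH⟩ : H) ∈ (P : Subgroup H) := by
    rw [hP, Subgroup.mem_subgroupOf]; exact hs
  have h1 : MulAut.conjNormal g (⟨s, hsH⟩ : H) ∈ (P : Subgroup H) := by
    have hfix := hPc.fixed (MulAut.conjNormal g)
    have : (⟨s, hsH⟩ : H) ∈ (P : Subgroup H).comap (MulAut.conjNormal g).toMonoidHom := by
      rw [hfix]; exact hsP
    exact Subgroup.mem_comap.1 this
  rw [hP, Subgroup.mem_subgroupOf, MulAut.conjNormal_apply] at h1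
  exact h1

/-- If `C ⊓ H` is normal in `G` (and `G` has no normal 2-complement) then `|G| = 24`. -/
theorem Data.card_eq_of_inf_normal {z : G} (D : Data z) (H : Subgroup G) (hH : H.index = 2)
    (hnc : ¬ Cfsg.HasNormalPComplement 2 G)
    (hS : (centralizer ({z} : Set G) ⊓ H).Normal) : Nat.card G = 24 := by
  classical
  have hzS : z ∈ centralizer ({z} : Set G) ⊓ H :=
    ⟨mem_centralizer_self z, D.z_mem_of_index_two H hH⟩
  let f : G ⧸ centralizer ({z} : Set G) → ↥(centralizer ({z} : Set G) ⊓ H) := fun q =>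
    Quotient.liftOn' q (fun g => (⟨g * z * g⁻¹, hS.conj_mem z hzS g⟩ :
      ↥(centralizer ({z} : Set G) ⊓ H))) (by
      intro a b hab
      rw [QuotientGroup.leftRel_apply] at hab
      apply Subtype.ext
      have := mem_centralizer_singleton.1 hab
      change a * z * a⁻¹ = b * z * b⁻¹
      calc a * z * a⁻¹ = a * (z * (a⁻¹ * b)) * b⁻¹ := by group
        _ = a * ((a⁻¹ * b) * z) * b⁻¹ := by rw [this]
        _ = b * z * b⁻¹ := by group)
  have hfinj : Function.Injective f := by
    intro q₁ q₂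
    refine Quotient.inductionOn₂' q₁ q₂ ?_
    intro a b hab
    have h1 : a * z * a⁻¹ = b * z * b⁻¹ := congrArg Subtype.val hab
    apply QuotientGroup.eq.2
    rw [mem_centralizer_singleton]
    calc a⁻¹ * b * z = a⁻¹ * (b * z * b⁻¹) * b := by group
      _ = a⁻¹ * (a * z * a⁻¹) * b := by rw [h1]
      _ = z * (a⁻¹ * b) := by group
  have hnot : (1 : ↥(centralizer ({z} : Set G) ⊓ H)) ∉ Set.range f := by
    rintro ⟨q, hq⟩
    revert hq
    refine Quotient.inductionOn' q ?_
    intro a ha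
    have h1 : a * z * a⁻¹ = 1 := congrArg Subtype.val ha
    apply D.z_ne_one
    calc z = a⁻¹ * (a * z * a⁻¹) * a := by group
      _ = 1 := by rw [h1]; group
  haveI : Fintype (G ⧸ centralizer ({z} : Set G)) := Fintype.ofFinite _
  haveI : Fintype ↥(centralizer ({z} : Set G) ⊓ H) := Fintype.ofFinite _
  have hlt := Fintype.card_lt_of_injective_of_notMem f hfinj hnot
  rw [← Nat.card_eq_fintype_card, ← Nat.card_eq_fintype_card, D.card_inf H hH,
    ← Subgroup.index_eq_card] at hlt
  have hmul := Subgroup.card_mul_index (centralizer ({z} : Set G))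
  rw [D.card] at hmul
  have hpos : 0 < (centralizer ({z} : Set G)).index := Nat.pos_of_ne_zero Subgroup.index_ne_zero_of_finite
  have h16 := D.not_sixteen_dvd
  have h8 : Nat.card G ≠ 8 := fun h => hnc (D.hasNormalPComplement_of_card_eq h)
  have hcases : (centralizer ({z} : Set G)).index = 1 ∨ (centralizer ({z} : Set G)).index = 2 ∨
      (centralizer ({z} : Set G)).index = 3 := by omega
  rcases hcases with h | h | h
  · rw [h] at hmul; omega
  · rw [h] at hmul; exfalso; apply h16; rw [← hmul]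
  · rw [h] at hmul; omega

/-- If `C ⊓ H` is normal in `G` then `G` has no element of order six. -/
theorem Data.orderOf_ne_six {z : G} (D : Data z) (H : Subgroup G) (hH : H.index = 2)
    (hS : (centralizer ({z} : Set G) ⊓ H).Normal) (g : G) : orderOf g ≠ 6 := by
  intro hg
  have hzS : z ∈ centralizer ({z} : Set G) ⊓ H :=
    ⟨mem_centralizer_self z, D.z_mem_of_index_two H hH⟩
  have hg6 : g ^ 6 = 1 := by rw [← hg]; exact pow_orderOf_eq_one g
  have hc1 : g ^ 2 ≠ 1 := by
    intro h
    have : orderOf g ∣ 2 := orderOf_dvd_of_pow_eq_one h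
    rw [hg] at this; norm_num at this
  have hu1 : g ^ 3 ≠ 1 := by
    intro h
    have : orderOf g ∣ 3 := orderOf_dvd_of_pow_eq_one h
    rw [hg] at this; norm_num at this
  -- `g ^ 2 ∉ C`
  have hcC : g ^ 2 ∉ centralizer ({z} : Set G) := by
    intro h
    have h8 : (g ^ 2) ^ 8 = 1 := by
      have := Subgroup.orderOf_dvd_natCard _ h
      rw [D.card] at this
      exact orderOf_dvd_iff_pow_eq_one.1 this
    apply hc1
    calc g ^ 2 = (g ^ 6) ^ 3 * ((g ^ 2) ^ 8)⁻¹ := by group
      _ = 1 := by rw [h8, hg6]; simp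
  have hgC : g ∉ centralizer ({z} : Set G) := fun h => hcC (pow_mem h 2)
  have hgiC : g⁻¹ ∉ centralizer ({z} : Set G) := fun h => hgC (by simpa using inv_mem h)
  have hc2C : g ^ 4 ∉ centralizer ({z} : Set G) := by
    intro h
    apply hcC
    have : g ^ 2 = (g ^ 4) ^ 2 * (g ^ 6)⁻¹ := by group
    rw [this, hg6, inv_one, mul_one]; exact pow_mem h 2
  have hconj : ∀ x : G, x * z * x⁻¹ = z → x ∈ centralizer ({z} : Set G) := by
    intro x hx
    rw [mem_centralizer_singleton]
    exact mul_inv_eq_iff_eq_mul.1 hx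
  have hconj1 : ∀ x : G, x * z * x⁻¹ ≠ 1 := by
    intro x hx
    apply D.z_ne_one
    calc z = x⁻¹ * (x * z * x⁻¹) * x := by group
      _ = 1 := by rw [hx]; group
  -- the three conjugates
  have h2S : g ^ 2 * z * (g ^ 2)⁻¹ ∈ centralizer ({z} : Set G) ⊓ H := hS.conj_mem z hzS _
  have h3S : g ^ 4 * z * (g ^ 4)⁻¹ ∈ centralizer ({z} : Set G) ⊓ H := hS.conj_mem z hzS _
  have d12 : z ≠ g ^ 2 * z * (g ^ 2)⁻¹ := fun h => hcC (hconj _ h.symm)
  have d13 : z ≠ g ^ 4 * z * (g ^ 4)⁻¹ := fun h => hc2C (hconj _ h.symm)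
  have d23 : g ^ 2 * z * (g ^ 2)⁻¹ ≠ g ^ 4 * z * (g ^ 4)⁻¹ := by
    intro h
    apply hcC
    apply hconj
    calc g ^ 2 * z * (g ^ 2)⁻¹ = (g ^ 2)⁻¹ * (g ^ 4 * z * (g ^ 4)⁻¹) * g ^ 2 := by group
      _ = (g ^ 2)⁻¹ * (g ^ 2 * z * (g ^ 2)⁻¹) * g ^ 2 := by rw [h]
      _ = z := by group
  have hlist := mem_four (centralizer ({z} : Set G) ⊓ H) (D.card_inf H hH) (one_mem _) hzS h2S h3S
    (Ne.symm D.z_ne_one) (Ne.symm (hconj1 _)) (Ne.symm (hconj1 _)) d12 d13 d23
  -- `u = g ^ 3` lies in `C`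
  have huS : g ^ 3 * z * (g ^ 3)⁻¹ ∈ centralizer ({z} : Set G) ⊓ H := hS.conj_mem z hzS _
  have huC : g ^ 3 ∈ centralizer ({z} : Set G) := by
    rcases hlist _ huS with h | h | h | h
    · exact absurd h (hconj1 _)
    · exact hconj _ h
    · exfalso
      apply hgC
      apply hconj
      calc g * z * g⁻¹ = (g ^ 2)⁻¹ * (g ^ 3 * z * (g ^ 3)⁻¹) * g ^ 2 := by group
        _ = (g ^ 2)⁻¹ * (g ^ 2 * z * (g ^ 2)⁻¹) * g ^ 2 := by rw [h]
        _ = z := by group
    · exfalso
      apply hgiC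
      apply hconj
      calc g⁻¹ * z * g⁻¹⁻¹ = (g ^ 4)⁻¹ * (g ^ 3 * z * (g ^ 3)⁻¹) * g ^ 4 := by group
        _ = (g ^ 4)⁻¹ * (g ^ 4 * z * (g ^ 4)⁻¹) * g ^ 4 := by rw [h]
        _ = z := by group
  have huz : g ^ 3 * z = z * g ^ 3 := mem_centralizer_singleton.1 huC
  -- `u` centralizes `S`
  have hucomm : ∀ k : ℕ, g ^ 3 * (g ^ k * z * (g ^ k)⁻¹) = g ^ k * z * (g ^ k)⁻¹ * g ^ 3 := by
    intro k
    have h1 : g ^ 3 * g ^ k = g ^ k * g ^ 3 := by rw [← pow_add, ← pow_add, add_comm]
    have h2 : (g ^ k)⁻¹ * g ^ 3 = g ^ 3 * (g ^ k)⁻¹ := by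
      rw [inv_mul_eq_iff_eq_mul, ← mul_assoc, h1.symm, mul_assoc, mul_inv_cancel, mul_one]
    calc g ^ 3 * (g ^ k * z * (g ^ k)⁻¹) = (g ^ 3 * g ^ k) * z * (g ^ k)⁻¹ := by group
      _ = g ^ k * (g ^ 3 * z) * (g ^ k)⁻¹ := by rw [h1]; group
      _ = g ^ k * z * (g ^ 3 * (g ^ k)⁻¹) := by rw [huz]; group
      _ = g ^ k * z * (g ^ k)⁻¹ * g ^ 3 := by rw [← h2]; group
  have hucen : ∀ s ∈ centralizer ({z} : Set G) ⊓ H, g ^ 3 * s = s * g ^ 3 := by
    intro s hs
    rcases hlist s hs with h | h | h | h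
    · rw [h, mul_one, one_mul]
    · rw [h]; exact huz
    · rw [h]; exact hucomm 2
    · rw [h]; exact hucomm 4
  have huS' : g ^ 3 ∈ centralizer ({z} : Set G) ⊓ H := D.mem_inf_of_centralizes H hH huC hucen
  -- hence `u = z`
  have hkey : ∀ k : ℕ, g ^ 3 = g ^ k * z * (g ^ k)⁻¹ → g ^ 3 = z := by
    intro k h
    have h1 : g ^ 3 * g ^ k = g ^ k * g ^ 3 := by rw [← pow_add, ← pow_add, add_comm]
    calc g ^ 3 = (g ^ k)⁻¹ * (g ^ k * g ^ 3) := by group
      _ = (g ^ k)⁻¹ * (g ^ 3 * g ^ k) := by rw [h1]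
      _ = (g ^ k)⁻¹ * (g ^ k * z * (g ^ k)⁻¹ * g ^ k) := by rw [← h]
      _ = z := by group
  have huz' : g ^ 3 = z := by
    rcases hlist _ huS' with h | h | h | h
    · exact absurd h hu1
    · exact h
    · exact hkey 2 h
    · exact hkey 4 h
  apply hcC
  rw [mem_centralizer_singleton, ← huz', ← pow_add, ← pow_add]

/-- **Case (b2), order four.**  A normal subgroup of order four of `H` gives `G ≃* S₄`. -/
theorem Data.nonempty_equiv_perm_four {z : G} (D : Data z) (H : Subgroup G) (hH : H.index = 2)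
    (hnc : ¬ Cfsg.HasNormalPComplement 2 G) (E : Subgroup H) (hE : E.Normal)
    (hcard : Nat.card E = 4) : Nonempty (G ≃* Equiv.Perm (Fin 4)) := by
  have hS := D.inf_normal_of_card_four H hH E hE hcard
  exact Cfsg.Agent.S1012.result (D.card_eq_of_inf_normal H hH hnc hS)
    (D.orderOf_ne_six H hH hS)

end B2

end Cfsg.Agent.Helper3.D8Cent
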