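import Mathlib
import Cfsg.Agent.Helper3.D8Cent
import Cfsg.Agent.S2119

/-!
# `C_G(z) ≃* D₈`, index-two subgroup `≃* A₅`  ⟹  `G ≃* S₅`  (helper3)
-/

set_option autoImplicit false

namespace Cfsg.Agent.Helper3.D8Cent

open Subgroup

variable {G : Type*} [Group G] [Finite G]

/-- If the index-two subgroup `H` is isomorphic to `A₅`, then `G ≃* S₅`. -/
theorem Data.nonempty_equiv_perm_five {z : G} (D : Data z) (H : Subgroup G) (hH : H.index = 2)
    (φ : H ≃* ↥(alternatingGroup (Fin 5))) : Nonempty (G ≃* Equiv.Perm (Fin 5)) := by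
  haveI : H.Normal := Subgroup.normal_of_index_eq_two hH
  let Ψ₁ : G →* MulAut H := MulAut.conjNormal
  let Ψ₂ : MulAut H ≃* MulAut ↥(alternatingGroup (Fin 5)) := MulAut.congr φ
  let Ψ₃ : Equiv.Perm (Fin 5) ≃* MulAut ↥(alternatingGroup (Fin 5)) :=
    MulEquiv.ofBijective MulAut.conjNormal (Cfsg.Agent.S2119.result 5 (by norm_num) (by norm_num))
  let Ψ : G →* Equiv.Perm (Fin 5) :=
    (Ψ₃.symm.toMonoidHom.comp Ψ₂.toMonoidHom).comp Ψ₁
  have hzH := D.z_mem_of_index_two H hH
  -- injectivity
  have hinj : Function.Injective Ψ := by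
    rw [injective_iff_map_eq_one]
    intro g hg
    have h1 : Ψ₁ g = 1 := by
      have h2 : Ψ₃.symm (Ψ₂ (Ψ₁ g)) = 1 := hg
      have h3 : Ψ₂ (Ψ₁ g) = 1 := by
        have := congrArg Ψ₃ h2
        rwa [MulEquiv.apply_symm_apply, map_one] at this
      have := congrArg Ψ₂.symm h3
      rwa [MulEquiv.symm_apply_apply, map_one] at this
    -- `g` centralizes `H`
    have hcent : ∀ h ∈ H, g * h = h * g := by
      intro h hh
      have h2 : (Ψ₁ g) ⟨h, hh⟩ = ⟨h, hh⟩ := by rw [h1]; rfl
      have h3 := congrArg Subtype.val h2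
      rw [MulAut.conjNormal_apply] at h3
      calc g * h = g * h * g⁻¹ * g := by group
        _ = h * g := by rw [h3]
    have hgC : g ∈ centralizer ({z} : Set G) := mem_centralizer_singleton.2 (hcent z hzH)
    have hgS : g ∈ centralizer ({z} : Set G) ⊓ H :=
      D.mem_inf_of_centralizes H hH hgC (fun s hs => hcent s hs.2)
    -- `g` is central in `H`, and the centre of `A₅` is trivial
    have hgc : (⟨g, hgS.2⟩ : H) ∈ Subgroup.center H := by
      rw [Subgroup.mem_center_iff]
      intro h
      apply Subtype.ext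
      exact (hcent h h.2).symm
    have hφc : φ ⟨g, hgS.2⟩ ∈ Subgroup.center ↥(alternatingGroup (Fin 5)) := by
      rw [Subgroup.mem_center_iff]
      intro a
      have := Subgroup.mem_center_iff.1 hgc (φ.symm a)
      have h2 := congrArg φ this
      rwa [map_mul, map_mul, MulEquiv.apply_symm_apply] at h2
    rw [alternatingGroup.center_eq_bot (by rw [Nat.card_eq_fintype_card, Fintype.card_fin]; norm_num),
      Subgroup.mem_bot] at hφc
    have : (⟨g, hgS.2⟩ : H) = 1 := by
      apply φ.injective; rw [hφc, map_one]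
    exact congrArg Subtype.val this
  -- cardinalities
  have hcard : Nat.card G = Nat.card (Equiv.Perm (Fin 5)) := by
    rw [← card_mul_two_of_index_two H hH, Nat.card_congr φ.toEquiv, mul_comm,
      two_mul_nat_card_alternatingGroup]
  have hbij : Function.Bijective Ψ := by
    rw [Nat.bijective_iff_injective_and_card]
    exact ⟨hinj, hcard⟩
  exact ⟨MulEquiv.ofBijective Ψ hbij⟩

end Cfsg.Agent.Helper3.D8Cent
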