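import Mathlib
import Cfsg.Agent.Helper3.D8Cent
import Cfsg.Agent.Helper3.D8CentS4
import Cfsg.Agent.Helper3.D8CentS5
import Cfsg.Agent.Helper20.A6Cent
import Cfsg.Agent.S3261
import Cfsg.Agent.S3277
import Cfsg.Agent.S0255

/-!
# Groups with an involution whose centralizer is dihedral of order eight: assembly  (helper3)
-/

set_option autoImplicit false

namespace Cfsg.Agent.Helper3.D8Cent

open Subgroup

theorem orderOf_alpha0 : orderOf Cfsg.Agent.Helper20.A6Cent.alpha0 = 2 := by
  apply orderOf_eq_prime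
  · decide +kernel
  · decide +kernel

theorem support_alpha0 :
    (Cfsg.Agent.Helper20.A6Cent.alpha0 : Equiv.Perm (Fin 6)).support.card = 4 := by
  decide +kernel

universe u

theorem main {G : Type u} [Group G] [Finite G] (z : G) (hz : orderOf z = 2)
    (hC : Nonempty (↥(Subgroup.centralizer ({z} : Set G)) ≃* DihedralGroup 4)) :
    Subgroup.centralizer ({z} : Set G) ⊔ Cfsg.oddCore G = ⊤ ∨
      Nonempty (G ≃* Equiv.Perm (Fin 4)) ∨ Nonempty (G ≃* Equiv.Perm (Fin 5)) ∨
      Nonempty (G ≃* Matrix.SpecialLinearGroup (Fin 3) (ZMod 2)) ∨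
      Nonempty (G ≃* ↥(alternatingGroup (Fin 6))) := by
  obtain ⟨e₀⟩ := hC
  have D := data_of_equiv z hz e₀
  by_cases hnc : Cfsg.HasNormalPComplement 2 G
  · left; exact D.sup_oddCore_eq_top hnc
  right
  by_cases hidx : ∃ H : Subgroup G, H.index = 2
  · obtain ⟨H, hH⟩ := hidx
    rcases D.index_two_dichotomy
      (fun x hx h4 hsq hn hE => Cfsg.Agent.S3277.result x hx h4 hsq hn hE) H hH hnc with
      ⟨⟨φ⟩⟩ | ⟨E, hE, -, h2 | h4⟩
    · right; left; exact D.nonempty_equiv_perm_five H hH φ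
    · exact (D.card_ne_two_of_normal H hH hnc E hE h2).elim
    · left; exact D.nonempty_equiv_perm_four H hH hnc E hE h4
  · push Not at hidx
    right; right
    obtain ⟨T, hT⟩ := D.exists_sylow_eq
    obtain ⟨e₁⟩ := Cfsg.Agent.Helper20.A6Cent.nonempty_cent_alpha0
    have hzT : z ∈ (T : Subgroup G) := by rw [hT]; exact mem_centralizer_self z
    have hcomm : ∀ s ∈ (T : Subgroup G), s * z = z * s := by
      intro s hs
      rw [hT] at hs
      exact mem_centralizer_singleton.1 hs
    rcases Cfsg.Agent.S3261.result hidx Cfsg.Agent.Helper20.A6Cent.alpha0 orderOf_alpha0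
      support_alpha0 z hz T hzT hcomm (e₀.trans e₁.symm) with h | ⟨F, _, _, hF, ⟨ψ⟩⟩
    · right; exact h
    · left
      have hK : Fintype.card (ZMod 2) = 2 := ZMod.card 2
      obtain ⟨χ⟩ := Cfsg.Agent.S0255.result (F := F) (K := ZMod 2) hF hK
      exact ⟨(ψ.trans χ).trans (Cfsg.Agent.Helper96.pslEquivSL hK)⟩

end Cfsg.Agent.Helper3.D8Cent
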