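import Mathlib
import Cfsg.Agent.Helper3.DixonDefs

/-!
# Dixon's theorem (S4467): the arithmetic endgame
-/

set_option autoImplicit false

namespace Cfsg.Agent.Helper3.Dixon

/-- `q² ≡ 1 (mod p)` gives `q ≡ ±1`. -/
theorem int_modEq_of_sq {p q : ℕ} (hp : p.Prime) (h : q ^ 2 ≡ 1 [MOD p]) :
    (q : ℤ) ≡ -1 [ZMOD p] ∨ (q : ℤ) ≡ 1 [ZMOD p] := by
  have h1 : ((q ^ 2 : ℕ) : ℤ) ≡ ((1 : ℕ) : ℤ) [ZMOD p] := Int.natCast_modEq_iff.mpr h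
  have h2 : (p : ℤ) ∣ ((q : ℤ) - 1) * ((q : ℤ) + 1) := by
    have := (Int.modEq_iff_dvd.mp h1.symm)
    have e : ((q ^ 2 : ℕ) : ℤ) - ((1 : ℕ) : ℤ) = ((q : ℤ) - 1) * ((q : ℤ) + 1) := by
      push_cast; ring
    rwa [e] at this
  have hp' : Prime (p : ℤ) := Nat.prime_iff_prime_int.mp hp
  rcases hp'.dvd_or_dvd h2 with h3 | h3
  · right
    exact (Int.modEq_iff_dvd.mpr h3).symm
  · left
    have : (p : ℤ) ∣ (q : ℤ) - (-1) := by simpa using h3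
    exact (Int.modEq_iff_dvd.mpr this).symm

/-- The arithmetic endgame of the quasi-primitive case. -/
theorem good_of_squares {p r t d d₀ n : ℕ} (hp : p.Prime) (hr : r.Prime) (hpr : p ≠ r)
    (hd₀ : d₀ ^ 2 ∣ r ^ t) (hd : d ^ 2 = r ^ t) (hne : d₀ ^ 2 ≠ d ^ 2)
    (hmod : d ^ 2 ≡ d₀ ^ 2 [MOD p]) (hdn : d ∣ n) : Good p n := by
  obtain ⟨m, -, rfl⟩ := (Nat.dvd_prime_pow hr).mp (hd ▸ Dvd.intro_left (d ^ 1) (by ring) : d ∣ r ^ t)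
  obtain ⟨c, -, rfl⟩ := (Nat.dvd_prime_pow hr).mp ((Dvd.intro_left (d₀ ^ 1) (by ring) : d₀ ∣ d₀ ^ 2).trans hd₀)
  have hcm : c ≤ m := by
    have h1 : (r ^ c) ^ 2 ∣ (r ^ m) ^ 2 := hd ▸ hd₀
    rw [← pow_mul, ← pow_mul] at h1
    have := (Nat.pow_dvd_pow_iff_le_right hr.one_lt).mp h1
    omega
  have hcm' : c < m := by
    rcases Nat.lt_or_ge c m with h | h
    · exact h
    · exfalso; apply hne; rw [le_antisymm hcm h]
  have hcop : Nat.Coprime ((r ^ c) ^ 2) p := by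
    apply Nat.Coprime.pow_left
    apply Nat.Coprime.pow_left
    exact (Nat.coprime_primes hr hp).mpr (Ne.symm hpr)
  have h2 : (r ^ c) ^ 2 * (r ^ (m - c)) ^ 2 ≡ (r ^ c) ^ 2 * 1 [MOD p] := by
    have e : (r ^ c) ^ 2 * (r ^ (m - c)) ^ 2 = (r ^ m) ^ 2 := by
      rw [← mul_pow, ← pow_add]
      congr 2
      omega
    rw [e, mul_one]
    exact hmod
  have h3 : (r ^ (m - c)) ^ 2 ≡ 1 [MOD p] :=
    Nat.ModEq.cancel_left_of_coprime hcop.symm h2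
  refine ⟨r ^ (m - c), ?_, ?_, ?_⟩
  · exact ⟨r, m - c, Nat.prime_iff.mp hr, by omega, rfl⟩
  · exact (pow_dvd_pow r (Nat.sub_le m c)).trans hdn
  · rcases int_modEq_of_sq hp h3 with h | h
    · exact Or.inl h
    · exact Or.inr (Or.inr h)

/-- The case `p = r`. -/
theorem good_of_self {p t d n : ℕ} (hp : p.Prime) (hd : d ^ 2 = p ^ t) (h1 : d ≠ 1)
    (hdn : d ∣ n) : Good p n := by
  obtain ⟨m, -, rfl⟩ := (Nat.dvd_prime_pow hp).mp (hd ▸ Dvd.intro_left (d ^ 1) (by ring) : d ∣ p ^ t)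
  have hm : m ≠ 0 := by
    rintro rfl
    exact h1 (pow_zero p)
  refine ⟨p, hp.isPrimePow, (dvd_pow_self p hm).trans hdn, Or.inr (Or.inl ?_)⟩
  exact Int.modEq_zero_iff_dvd.mpr dvd_rfl

end Cfsg.Agent.Helper3.Dixon
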