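import Cfsg.Agent.Helper3.DixonPieces
import Cfsg.Agent.Helper3.DixonArith
import Cfsg.Agent.Helper81.CliffordInd
import Cfsg.Agent.Helper74.CharBasic

/-!
# Dixon's theorem (S4467): assembly
-/

set_option autoImplicit false

namespace Cfsg.Agent.Helper3.Dixon

open Cfsg
open scoped commutatorElement

universe u

/-- A normal subgroup of index prime to `p` contains every Sylow `p`-subgroup. -/
theorem sylow_le_of_not_dvd_index {G : Type u} [Group G] [Finite G] {p : ℕ} [hp : Fact p.Prime]
    (P : Sylow p G) (N : Subgroup G) [N.Normal] (h : ¬ p ∣ N.index) : (P : Subgroup G) ≤ N := by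
  intro x hx
  obtain ⟨k, hk⟩ := P.isPGroup' ⟨x, hx⟩
  have h1 : x ^ (p ^ k) = 1 := by simpa using congrArg Subtype.val hk
  have h2 : orderOf (QuotientGroup.mk' N x) ∣ p ^ k :=
    orderOf_dvd_of_pow_eq_one (by rw [← map_pow, h1, map_one])
  have h3 : orderOf (QuotientGroup.mk' N x) ∣ N.index := by
    rw [Subgroup.index_eq_card]; exact orderOf_dvd_natCard _
  have hcop : Nat.Coprime (p ^ k) N.index :=
    Nat.Coprime.pow_left k ((Nat.Prime.coprime_iff_not_dvd hp.out).mpr h)
  have h4 : orderOf (QuotientGroup.mk' N x) = 1 := Nat.eq_one_of_dvd_coprimes hcop h2 h3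
  exact (QuotientGroup.eq_one_iff x).mp (orderOf_eq_one_iff.mp h4)

/-- A Sylow subgroup contained in a normal subgroup `N` and normal in `N` is normal. -/
theorem sylow_subtype_not_normal {G : Type u} [Group G] [Finite G] {p : ℕ} [Fact p.Prime]
    (P : Sylow p G) (N : Subgroup G) [N.Normal] (hPN : (P : Subgroup G) ≤ N)
    (hP : ¬ (P : Subgroup G).Normal) : ¬ ((P.subtype hPN : Sylow p N) : Subgroup N).Normal := by
  intro hn
  apply hP
  have hc : ((P.subtype hPN : Sylow p N) : Subgroup N).Characteristic :=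
    Sylow.characteristic_of_normal _ hn
  have := @ConjAct.normal_of_characteristic_of_normal G _ N _
    ((P.subtype hPN : Sylow p N) : Subgroup N) hc
  rwa [Sylow.coe_subtype, Subgroup.map_subgroupOf_eq_of_le hPN] at this

/-- The index of `Z(G)` in `E` is a power of `r` when `E / Z(G)` has `r`-power exponent. -/
theorem relIndex_eq_prime_pow {G : Type u} [Group G] [Finite G] {r k : ℕ} [Fact r.Prime]
    (E : Subgroup G) (hexp : ∀ x ∈ E, x ^ (r ^ k) ∈ Subgroup.center G) :
    ∃ t : ℕ, (Subgroup.center G).relIndex E = r ^ t := by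
  have hpg : IsPGroup r (E ⧸ (Subgroup.center G).subgroupOf E) := by
    intro x
    induction x using QuotientGroup.induction_on with
    | H x =>
      refine ⟨k, ?_⟩
      rw [← QuotientGroup.mk_pow, QuotientGroup.eq_one_iff, Subgroup.mem_subgroupOf]
      simpa using hexp x x.2
  obtain ⟨t, ht⟩ := IsPGroup.iff_card.mp hpg
  exact ⟨t, by rw [Subgroup.relIndex, Subgroup.index_eq_card, ht]⟩

section main

variable {G : Type u} [Group G] [Fintype G] {p : ℕ} [Fact p.Prime]

/-- (SUB) a proper normal subgroup containing the Sylow `p`-subgroup: kernel argument,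
deflation, induction. -/
theorem good_of_le_normal (hsolv : Group.IsSolvable G)
    (IH : ∀ (H' : Type u) [Group H'] [Finite H'], Nat.card H' < Nat.card G →
      Group.IsSolvable H' → ∀ φ' : IrrCharacter H',
      (∀ h : H', (φ' : H' → ℂ) h = (φ' : H' → ℂ) 1 → h = 1) →
      ∀ Q' : Sylow p H', ¬ (Q' : Subgroup H').Normal → Good p (charDegree (φ' : H' → ℂ)))
    (χ : IrrCharacter G) (hfaith : ∀ g : G, (χ : G → ℂ) g = (χ : G → ℂ) 1 → g = 1)
    (P : Sylow p G) (hP : ¬ (P : Subgroup G).Normal)
    (N : Subgroup G) [N.Normal] (hN : N ≠ ⊤) (hPN : (P : Subgroup G) ≤ N) :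
    Good p (charDegree (χ : G → ℂ)) := by
  classical
  have hQ := sylow_subtype_not_normal P N hPN hP
  have hψ : IsCharacter N (fun n : N => (χ : G → ℂ) n) :=
    Helper74.isCharacter_restrict N (Helper80.IsIrrCharacter.isCharacter χ.2)
  have hψf : ∀ h : N, (χ : G → ℂ) h = (χ : G → ℂ) ((1 : N) : G) → h = 1 :=
    fun h hh => Subtype.ext (hfaith h hh)
  obtain ⟨φ, hφ, hnn⟩ := exists_constituent_sup_ker_not_normal hψ hψf (P.subtype hPN) hQ
  obtain ⟨e, he⟩ := Helper80.clifford_degree N χ.2 φ.2 hφ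
  have hcard : Nat.card N < Nat.card G := by
    rcases lt_or_eq_of_le (Subgroup.card_le_card_group N) with h | h
    · exact h
    · exact absurd ((Subgroup.card_eq_iff_eq_top N).mp h) hN
  haveI := hsolv
  have hNs : Group.IsSolvable N := inferInstance
  have h1 := good_of_sup_ker_not_normal (H := N) hNs
    (fun H' _ _ hc => IH H' (lt_of_le_of_lt hc hcard)) φ (P.subtype hPN) hnn
  exact h1.mono ⟨e * (Helper15.inertia N (φ : N → ℂ)).index, by rw [he]; ring⟩

/-- Case A: some constituent of some `χ_N` is not invariant. -/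
theorem good_of_inertia_ne_top (hsolv : Group.IsSolvable G)
    (IH : ∀ (H' : Type u) [Group H'] [Finite H'], Nat.card H' < Nat.card G →
      Group.IsSolvable H' → ∀ φ' : IrrCharacter H',
      (∀ h : H', (φ' : H' → ℂ) h = (φ' : H' → ℂ) 1 → h = 1) →
      ∀ Q' : Sylow p H', ¬ (Q' : Subgroup H').Normal → Good p (charDegree (φ' : H' → ℂ)))
    (χ : IrrCharacter G) (hfaith : ∀ g : G, (χ : G → ℂ) g = (χ : G → ℂ) 1 → g = 1)
    (P : Sylow p G) (hP : ¬ (P : Subgroup G).Normal)
    (N : Subgroup G) [N.Normal] [Fintype N] (θ : N → ℂ) (hθ : IsIrrCharacter N θ)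
    (hθχ : classInner (fun n : N => (χ : G → ℂ) n) θ ≠ 0)
    (hT : Helper15.inertia N θ ≠ ⊤) : Good p (charDegree (χ : G → ℂ)) := by
  obtain ⟨e, he⟩ := Helper80.clifford_degree N χ.2 hθ hθχ
  have hTn : (Helper15.inertia N θ).index ∣ charDegree (χ : G → ℂ) :=
    ⟨e * charDegree θ, by rw [he]; ring⟩
  by_cases hpd : p ∣ (Helper15.inertia N θ).normalCore.index
  · exact (Good.of_zero_one (perm_good hsolv Fact.out (Helper15.inertia N θ) hpd)).mono hTn
  · have hPle := sylow_le_of_not_dvd_index P (Helper15.inertia N θ).normalCore hpd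
    have hne : (Helper15.inertia N θ).normalCore ≠ ⊤ :=
      fun h => hT (top_le_iff.mp (h ▸ (Helper15.inertia N θ).normalCore_le))
    exact good_of_le_normal hsolv IH χ hfaith P hP _ hne hPle

/-- Case B: every constituent of every `χ_N` is invariant. -/
theorem good_of_quasiprimitive (hsolv : Group.IsSolvable G)
    (IH : ∀ (H' : Type u) [Group H'] [Finite H'], Nat.card H' < Nat.card G →
      Group.IsSolvable H' → ∀ φ' : IrrCharacter H',
      (∀ h : H', (φ' : H' → ℂ) h = (φ' : H' → ℂ) 1 → h = 1) →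
      ∀ Q' : Sylow p H', ¬ (Q' : Subgroup H').Normal → Good p (charDegree (φ' : H' → ℂ)))
    (χ : IrrCharacter G) (hfaith : ∀ g : G, (χ : G → ℂ) g = (χ : G → ℂ) 1 → g = 1)
    (P : Sylow p G) (hP : ¬ (P : Subgroup G).Normal)
    (hinv : ∀ (N : Subgroup G) [N.Normal] [Fintype N] (θ : N → ℂ), IsIrrCharacter N θ →
      classInner (fun n : N => (χ : G → ℂ) n) θ ≠ 0 → Helper15.inertia N θ = ⊤) :
    Good p (charDegree (χ : G → ℂ)) := by
  classical
  have hp : p.Prime := Fact.out
  have hab : ∀ A : Subgroup G, A.Normal → (∀ x ∈ A, ∀ y ∈ A, x * y = y * x) →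
      A ≤ Subgroup.center G := by
    intro A hA hAc
    haveI := hA
    exact le_center_of_invariant χ hfaith A hAc (fun θ hθ hθχ => hinv A θ hθ hθχ)
  have hnc : Subgroup.center G ≠ ⊤ := by
    intro h
    apply hP
    constructor
    intro n hn g
    have hg : g ∈ Subgroup.center G := h ▸ Subgroup.mem_top g
    have : g * n * g⁻¹ = n := by
      rw [Subgroup.mem_center_iff] at hg
      rw [← hg n, mul_inv_cancel_right]
    rwa [this]
  obtain ⟨E, r, k, hr, hEn, hZE, hEZ, hcomm, hexp, hcen⟩ := exists_class_two hsolv hnc hab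
  haveI := hEn
  haveI : Fact r.Prime := ⟨hr⟩
  have hχ1 : (χ : G → ℂ) 1 ≠ 0 := Helper80.IsIrrCharacter.map_one_ne_zero χ.2
  have hresE : IsCharacter E (fun a : E => (χ : G → ℂ) a) :=
    Helper74.isCharacter_restrict E (Helper80.IsIrrCharacter.isCharacter χ.2)
  obtain ⟨η, hη⟩ := Helper81.exists_irr_constituent hresE (by simpa using hχ1)
  have hsq := sq_eq_relIndex_center χ hfaith E hZE hcomm hcen η η.2 hη
  obtain ⟨e, he⟩ := Helper80.clifford_degree E χ.2 η.2 hη
  have hdn : charDegree (η : E → ℂ) ∣ charDegree (χ : G → ℂ) :=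
    ⟨e * (Helper15.inertia E (η : E → ℂ)).index, by rw [he]; ring⟩
  obtain ⟨t, ht⟩ := relIndex_eq_prime_pow E hexp
  have hne1 : (Subgroup.center G).relIndex E ≠ 1 :=
    fun h => hEZ (Subgroup.relIndex_eq_one.mp h)
  by_cases hpr : p = r
  · subst hpr
    refine good_of_self hp (hsq.trans ht) ?_ hdn
    intro h1
    apply hne1
    rw [← hsq, h1, one_pow]
  · by_cases hPD : (P : Subgroup G) ≤ Subgroup.centralizer (E : Set G)
    · have hDne : Subgroup.centralizer (E : Set G) ≠ ⊤ := by
        intro h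
        exact hEZ (Subgroup.centralizer_eq_top_iff_subset.mp h)
      exact good_of_le_normal hsolv IH χ hfaith P hP _ hDne hPD
    · obtain ⟨g, hgP, hgD⟩ := SetLike.not_le_iff_exists.mp hPD
      have hgord : ∃ j : ℕ, orderOf g = p ^ j := by
        obtain ⟨j, hj⟩ := P.isPGroup' ⟨g, hgP⟩
        have h1 : g ^ (p ^ j) = 1 := by simpa using congrArg Subtype.val hj
        obtain ⟨i, -, hi⟩ := (Nat.dvd_prime_pow hp).mp (orderOf_dvd_of_pow_eq_one h1)
        exact ⟨i, hi⟩
      have hZE₀ : Subgroup.center G ≤ E ⊓ Subgroup.centralizer {g} :=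
        le_inf hZE (Subgroup.center_le_centralizer _)
      have hE₀E : E ⊓ Subgroup.centralizer {g} ≤ E := inf_le_left
      have hcen₀ := center_fix hp hr hpr E hZE hcomm hexp hcen g hgord
      have hcomm₀ : ∀ x ∈ E ⊓ Subgroup.centralizer {g}, ∀ y ∈ E ⊓ Subgroup.centralizer {g},
          ⁅x, y⁆ ∈ Subgroup.center G := fun x hx y hy => hcomm x (hE₀E hx) y (hE₀E hy)
      have hresE₀ : IsCharacter (E ⊓ Subgroup.centralizer {g} : Subgroup G)
          (fun a : (E ⊓ Subgroup.centralizer {g} : Subgroup G) => (χ : G → ℂ) a) :=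
        Helper74.isCharacter_restrict _ (Helper80.IsIrrCharacter.isCharacter χ.2)
      obtain ⟨ψ, hψ⟩ := Helper81.exists_irr_constituent hresE₀ (by simpa using hχ1)
      have hsq₀ := sq_eq_relIndex_center χ hfaith _ hZE₀ hcomm₀ hcen₀ ψ ψ.2 hψ
      have hmod := relIndex_fix_modEq hp hr hpr E hZE hcomm hexp g hgord
      have hmul := Subgroup.relIndex_mul_relIndex _ _ _ hZE₀ hE₀E
      have hdvd : (Subgroup.center G).relIndex (E ⊓ Subgroup.centralizer {g}) ∣
          (Subgroup.center G).relIndex E := ⟨_, hmul.symm⟩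
      have hne : (Subgroup.center G).relIndex (E ⊓ Subgroup.centralizer {g}) ≠
          (Subgroup.center G).relIndex E := by
        intro h
        rw [h] at hmul
        have hpos : 0 < (Subgroup.center G).relIndex E :=
          Nat.pos_of_ne_zero (by
            rw [Subgroup.relIndex]
            exact Subgroup.index_ne_zero_of_finite)
        have h1 : (E ⊓ Subgroup.centralizer {g}).relIndex E = 1 :=
          Nat.eq_of_mul_eq_mul_left hpos (hmul.trans (mul_one _).symm)
        have hle : E ≤ E ⊓ Subgroup.centralizer {g} := Subgroup.relIndex_eq_one.mp h1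
        apply hgD
        rw [Subgroup.mem_centralizer_iff]
        intro y hy
        have h2 : y ∈ Subgroup.centralizer {g} := (hle hy).2
        rw [Subgroup.mem_centralizer_iff] at h2
        exact (h2 g rfl).symm
      refine good_of_squares (d₀ := charDegree (ψ : (E ⊓ Subgroup.centralizer {g} : Subgroup G) → ℂ))
        hp hr hpr ?_ (hsq.trans ht) ?_ ?_ hdn
      · rw [hsq₀, ← ht]; exact hdvd
      · rw [hsq₀, hsq]; exact hne
      · rw [hsq, hsq₀]; exact hmod

end main

/-- **Dixon's theorem**, by strong induction on the group order. -/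
theorem dixon_aux (p : ℕ) [Fact p.Prime] : ∀ (n : ℕ) (G : Type u) [Group G] [Finite G],
    Nat.card G = n → Group.IsSolvable G → ∀ χ : IrrCharacter G,
    (∀ g : G, (χ : G → ℂ) g = (χ : G → ℂ) 1 → g = 1) →
    ∀ P : Sylow p G, ¬ (P : Subgroup G).Normal → Good p (charDegree (χ : G → ℂ)) := by
  intro n
  induction n using Nat.strong_induction_on with
  | _ n ih =>
    intro G _ _ hcard hsolv χ hfaith P hP
    classical
    haveI : Fintype G := Fintype.ofFinite G
    have IH : ∀ (H' : Type u) [Group H'] [Finite H'], Nat.card H' < Nat.card G →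
        Group.IsSolvable H' → ∀ φ' : IrrCharacter H',
        (∀ h : H', (φ' : H' → ℂ) h = (φ' : H' → ℂ) 1 → h = 1) →
        ∀ Q' : Sylow p H', ¬ (Q' : Subgroup H').Normal →
        Good p (charDegree (φ' : H' → ℂ)) :=
      fun H' _ _ hlt => ih (Nat.card H') (hcard ▸ hlt) H' rfl
    by_cases hA : ∃ (N : Subgroup G) (_ : N.Normal) (_ : Fintype N) (θ : N → ℂ),
        IsIrrCharacter N θ ∧ classInner (fun n : N => (χ : G → ℂ) n) θ ≠ 0 ∧
        Helper15.inertia N θ ≠ ⊤
    · obtain ⟨N, hN, hF, θ, hθ, hθχ, hT⟩ := hA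
      exact good_of_inertia_ne_top hsolv IH χ hfaith P hP N θ hθ hθχ hT
    · refine good_of_quasiprimitive hsolv IH χ hfaith P hP ?_
      intro N hN hF θ hθ hθχ
      by_contra hT
      exact hA ⟨N, hN, hF, θ, hθ, hθχ, hT⟩

end Cfsg.Agent.Helper3.Dixon
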