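import Mathlib
import Cfsg.Agent.Helper71.SolvMax
import Cfsg.Agent.Helper53.DixonPB
import Cfsg.Agent.Helper97.DixonPK

/-!
# Dixon's theorem (S4467): the permutation lemma (PS)
-/

set_option autoImplicit false

namespace Cfsg.Agent.Helper3.DixonPS

universe u

/-- The conclusion of the permutation lemma. -/
def Concl (p N : ℕ) : Prop :=
  ∃ q : ℕ, IsPrimePow q ∧ q ∣ N ∧ ((q : ℤ) ≡ 0 [ZMOD p] ∨ (q : ℤ) ≡ 1 [ZMOD p])

theorem Concl.mono {p m n : ℕ} (h : Concl p m) (hmn : m ∣ n) : Concl p n := by
  obtain ⟨q, hq, hqm, hc⟩ := h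
  exact ⟨q, hq, hqm.trans hmn, hc⟩

theorem card_mul_relIndex {G : Type u} [Group G] {H K : Subgroup G} (h : H ≤ K) :
    Nat.card H * H.relIndex K = Nat.card K := by
  have := Subgroup.relIndex_mul_relIndex ⊥ H K bot_le h
  rwa [Subgroup.relIndex_bot_left, Subgroup.relIndex_bot_left] at this

/-- `[K : K ⊓ T] = [T ⊔ K : T]` for `K` normal. -/
theorem relIndex_eq_relIndex_sup {G : Type u} [Group G] [Finite G] (T K : Subgroup G)
    [K.Normal] : T.relIndex K = T.relIndex (T ⊔ K) := by
  have h1 : Nat.card (T ⊓ K : Subgroup G) * T.relIndex K = Nat.card K := by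
    rw [← Subgroup.inf_relIndex_right]; exact card_mul_relIndex inf_le_right
  have h2 : Nat.card (T ⊓ K : Subgroup G) * K.relIndex T = Nat.card T := by
    rw [← Subgroup.inf_relIndex_left]; exact card_mul_relIndex inf_le_left
  have h3 : Nat.card T * T.relIndex (T ⊔ K) = Nat.card (T ⊔ K : Subgroup G) :=
    card_mul_relIndex le_sup_left
  have h4 : Nat.card K * K.relIndex (T ⊔ K) = Nat.card (T ⊔ K : Subgroup G) :=
    card_mul_relIndex le_sup_right
  have h5 : K.relIndex (T ⊔ K) = K.relIndex T := Subgroup.relIndex_sup_right T K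
  rw [h5] at h4
  have hpos : 0 < Nat.card (T ⊓ K : Subgroup G) * K.relIndex T := by
    rw [h2]; exact Nat.card_pos
  apply Nat.eq_of_mul_eq_mul_left hpos
  calc Nat.card (T ⊓ K : Subgroup G) * K.relIndex T * T.relIndex K
      = (Nat.card (T ⊓ K : Subgroup G) * T.relIndex K) * K.relIndex T := by ring
    _ = Nat.card (T ⊔ K : Subgroup G) := by rw [h1, h4]
    _ = Nat.card (T ⊓ K : Subgroup G) * K.relIndex T * T.relIndex (T ⊔ K) := by rw [h2, h3]

/-- The core-free case, given the induction hypothesis. -/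
theorem perm_corefree {p : ℕ} (hp : p.Prime) (N : ℕ)
    (IH : ∀ m < N, ∀ (H : Type u) [Group H] [Finite H], Group.IsSolvable H →
      ∀ S : Subgroup H, S.index = m → p ∣ S.normalCore.index → Concl p m)
    {G : Type u} [Group G] [Finite G] (hsolv : Group.IsSolvable G) (T : Subgroup G)
    (hN : T.index = N) (hcore : T.normalCore = ⊥) (hpd : p ∣ Nat.card G) : Concl p N := by
  haveI := hsolv
  haveI : Nontrivial G := by
    by_contra h
    rw [not_nontrivial_iff_subsingleton] at h
    have : Nat.card G = 1 := Nat.card_eq_one_iff_unique.mpr ⟨h, ⟨1⟩⟩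
    rw [this] at hpd
    exact hp.one_lt.ne' (Nat.dvd_one.mp hpd)
  obtain ⟨r, hr, M, hMn, hM1, hMc, hMr⟩ :=
    Helper71.exists_normal_abelian_pGroup_ne_bot (Q := G)
  haveI := hMn
  have hMab : ∀ x ∈ M, ∀ y ∈ M, x * y = y * x := by
    intro x hx y hy
    have := congrArg Subtype.val (mul_comm' (⟨x, hx⟩ : M) ⟨y, hy⟩)
    simpa using this
  by_cases hT₁ : M ⊔ T = ⊤
  · subst hN
    exact Helper53.Dixon.perm_base hp hr M T hMab hMr hM1 hT₁ hcore hpd
  · have hTT₁ : T ≤ M ⊔ T := le_sup_right
    have hdvd : (M ⊔ T).index ∣ T.index := Subgroup.index_dvd_of_le hTT₁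
    have hMT : ¬ M ≤ T := by
      intro h
      have : M ≤ T.normalCore := Subgroup.normal_le_normalCore.mpr h
      rw [hcore] at this
      exact hM1 (le_bot_iff.mp this)
    have hrel : T.relIndex (M ⊔ T) ≠ 1 := by
      intro h
      exact hMT (le_sup_left.trans (Subgroup.relIndex_eq_one.mp h))
    have hmul : T.relIndex (M ⊔ T) * (M ⊔ T).index = T.index :=
      Subgroup.relIndex_mul_index hTT₁
    have hidx₁ : (M ⊔ T).index ≠ 1 := by
      intro h; exact hT₁ (Subgroup.index_eq_one.mp h)
    have hTpos : 0 < T.index := Nat.pos_of_ne_zero Subgroup.index_ne_zero_of_finite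
    have h₁pos : 0 < (M ⊔ T).index := Nat.pos_of_ne_zero Subgroup.index_ne_zero_of_finite
    have hrpos : 0 < T.relIndex (M ⊔ T) := by
      rcases Nat.eq_zero_or_pos (T.relIndex (M ⊔ T)) with h | h
      · rw [h, zero_mul] at hmul; omega
      · exact h
    by_cases hpd₁ : p ∣ (M ⊔ T).normalCore.index
    · have hlt : (M ⊔ T).index < N := by
        rw [← hN, ← hmul]
        have : 2 ≤ T.relIndex (M ⊔ T) := by omega
        nlinarith
      have := IH _ hlt G hsolv (M ⊔ T) rfl hpd₁
      exact this.mono (hN ▸ hdvd)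
    · have hpK : p ∣ Nat.card (M ⊔ T).normalCore := by
        have h1 := Subgroup.card_mul_index (M ⊔ T).normalCore
        rw [← h1] at hpd
        rcases (Nat.Prime.dvd_mul hp).mp hpd with h | h
        · exact h
        · exact absurd h hpd₁
      have hPK := Helper97.Dixon.dvd_index_core_subgroupOf hp (M ⊔ T).normalCore T hcore hpK
      have hK₁ : (M ⊔ T).normalCore ≤ M ⊔ T := Subgroup.normalCore_le _
      have hle : T ⊔ (M ⊔ T).normalCore ≤ M ⊔ T := sup_le hTT₁ hK₁
      have hidx : (T.subgroupOf (M ⊔ T).normalCore).index = T.relIndex (M ⊔ T).normalCore := rfl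
      have hrel2 : T.relIndex (M ⊔ T).normalCore ∣ T.relIndex (M ⊔ T) := by
        rw [relIndex_eq_relIndex_sup]
        exact ⟨_, (Subgroup.relIndex_mul_relIndex T _ _ le_sup_left hle).symm⟩
      have hlt : T.relIndex (M ⊔ T).normalCore < N := by
        have h1 : T.relIndex (M ⊔ T).normalCore ≤ T.relIndex (M ⊔ T) :=
          Nat.le_of_dvd hrpos hrel2
        have h2 : T.relIndex (M ⊔ T) < N := by
          rw [← hN, ← hmul]
          have : 2 ≤ (M ⊔ T).index := by omega
          nlinarith
        omega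
      have hKs : Group.IsSolvable (M ⊔ T).normalCore := inferInstance
      have := IH _ hlt (M ⊔ T).normalCore hKs (T.subgroupOf (M ⊔ T).normalCore) hidx hPK
      refine this.mono ?_
      rw [← hN, ← hmul]
      exact hrel2.trans (Dvd.intro _ rfl)

/-- The permutation lemma, by strong induction on the index. -/
theorem perm_aux {p : ℕ} (hp : p.Prime) : ∀ (N : ℕ) (G : Type u) [Group G] [Finite G],
    Group.IsSolvable G → ∀ T : Subgroup G, T.index = N → p ∣ T.normalCore.index →
    Concl p N := by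
  intro N
  induction N using Nat.strong_induction_on with
  | _ N ih =>
    intro G _ _ hsolv T hN hpd
    haveI := hsolv
    have hsq : Group.IsSolvable (G ⧸ T.normalCore) := inferInstance
    refine perm_corefree hp N (fun m hm H _ _ hs S hS hpS => ih m hm H hs S hS hpS) hsq
      (T.map (QuotientGroup.mk' T.normalCore)) ?_ ?_ ?_
    · rw [Subgroup.index_map_eq _ (QuotientGroup.mk'_surjective _)
        (by rw [QuotientGroup.ker_mk']; exact T.normalCore_le)]
      exact hN
    · rw [eq_bot_iff]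
      intro x hx
      obtain ⟨y, rfl⟩ := QuotientGroup.mk'_surjective T.normalCore x
      rw [Subgroup.mem_bot, QuotientGroup.mk'_apply, QuotientGroup.eq_one_iff]
      intro g
      have h1 := hx (QuotientGroup.mk' T.normalCore g)
      rw [← map_mul, ← map_inv, ← map_mul] at h1
      obtain ⟨t, ht, hte⟩ := Subgroup.mem_map.mp h1
      have h2 : t⁻¹ * (g * y * g⁻¹) ∈ T.normalCore := by
        rw [← QuotientGroup.eq_one_iff, QuotientGroup.mk_mul, QuotientGroup.mk_inv]
        rw [QuotientGroup.mk'_apply, QuotientGroup.mk'_apply] at hte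
        rw [hte, inv_mul_cancel]
      have h3 := T.mul_mem ht (T.normalCore_le h2)
      rwa [mul_inv_cancel_left] at h3
    · rw [← Subgroup.index_eq_card]; exact hpd

/-- (PS) the permutation lemma. -/
theorem perm_good {G : Type u} [Group G] [Finite G] (hsolv : Group.IsSolvable G) {p : ℕ}
    (hp : p.Prime) (T : Subgroup G) (hpd : p ∣ T.normalCore.index) :
    ∃ q : ℕ, IsPrimePow q ∧ q ∣ T.index ∧ ((q : ℤ) ≡ 0 [ZMOD p] ∨ (q : ℤ) ≡ 1 [ZMOD p]) :=
  perm_aux hp T.index G hsolv T rfl hpd

end Cfsg.Agent.Helper3.DixonPS
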