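import Mathlib
import Cfsg.Prelude.Def_Characters
import Cfsg.Prelude.Def_Blocks
import Cfsg.Agent.Helper3.DixonDefs
import Cfsg.Agent.Helper80.CharLevel
import Cfsg.Agent.Helper80.Pullback
import Cfsg.Agent.Helper80.ItoConv
import Cfsg.Agent.Helper15.CliffordCorr
import Cfsg.Agent.Helper76.CentralType
import Cfsg.Agent.Helper71.SolvMax
import Cfsg.Agent.Helper53.DixonPB
import Cfsg.Agent.Helper97.DixonPK
import Cfsg.Agent.Helper3.DixonPS
import Cfsg.Agent.Helper24.DixonKER
import Cfsg.Agent.Helper24.DixonDEFL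
import Cfsg.Agent.Helper89.DixonCENT
import Cfsg.Agent.Helper68.DixonBSTR
import Cfsg.Agent.Helper33.DixonCT1
import Cfsg.Agent.Helper23.DixonFIX1
import Cfsg.Agent.Helper23.DixonFIX2

/-!
# Pieces for S4467 (Dixon's theorem), restated and closed by the landed proofs of the piece owners

PIECES (statements VERBATIM from tools/helper3_dixon/Skel.lean.txt):
  (PB) perm_base           -- pure group theory
  (PK) dvd_index_core_subgroupOf -- pure group theory
  (PS) perm_good           -- pure group theory, induction, uses (PB),(PK) [helper3, DixonPS]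
  (KER) exists_constituent_sup_ker_not_normal -- characters (kernel = meet of constituent kernels)
  (DEFL) good_of_sup_ker_not_normal -- deflation to H / ker, uses Helper80.Pullback
  (CENT) le_center_of_invariant -- characters (Clifford invariant case, scalar => central)
  (BSTR) exists_class_two  -- pure group theory
  (CT1) sq_eq_relIndex_center -- characters (central type)
  (FIX1) center_fix        -- pure group theory (coprime action by hand)
  (FIX2) relIndex_fix_modEq -- pure group theory (p-group fixed point congruence)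
Assembly (helper3): Case A glue, SUB, Case B glue, main induction.
-/

set_option autoImplicit false

namespace Cfsg.Agent.Helper3.Dixon

open Cfsg
open scoped commutatorElement

universe u

/-! ## Permutation-group part (no characters) -/

/-- (PB) base case: a core-free complement-like subgroup `T` to an abelian normal `r`-subgroup `M`
(`M ⊔ T = ⊤`).  Paper proof: `M ⊓ T` and `C_T(M)` are normal in `M ⊔ T = G`, hence trivial
(core-free); so `T.index = |M| = r^a`.  If `p = r` take `q = r`.  Otherwise `p ∣ |T|`, pick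
`g ∈ T` of order `p`; it acts on `M` by conjugation with fixed points `C_M(g)`, a proper
subgroup of order `r^c`; `r^a ≡ r^c (mod p)` so `q = r^(a-c) ≡ 1`. -/
theorem perm_base {G : Type u} [Group G] [Finite G] {p r : ℕ} (hp : p.Prime) (hr : r.Prime)
    (M T : Subgroup G) [M.Normal] (hMab : ∀ x ∈ M, ∀ y ∈ M, x * y = y * x)
    (hMr : IsPGroup r M) (hM1 : M ≠ ⊥) (hMT : M ⊔ T = ⊤) (hcore : T.normalCore = ⊥)
    (hpd : p ∣ Nat.card G) :
    ∃ q : ℕ, IsPrimePow q ∧ q ∣ T.index ∧ ((q : ℤ) ≡ 0 [ZMOD p] ∨ (q : ℤ) ≡ 1 [ZMOD p]) := by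
  exact Cfsg.Agent.Helper53.Dixon.perm_base hp hr M T hMab hMr hM1 hMT hcore hpd

/-- (PK) if `T` is core-free in `G`, `K ⊴ G` and `p ∣ |K|` then `p` divides the index in `K`
of the `K`-core of `K ⊓ T`.  Paper proof: otherwise the core `K_B` (normal in `K`, of
`p'`-index) contains every `p`-element of `K`; the subgroup generated by all `p`-elements
of `K` is normal in `G` (as `K ⊴ G`) and lies in `T`, hence in `core_G T = ⊥`; so `K` has no
element of order `p`, contradicting Cauchy. -/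
theorem dvd_index_core_subgroupOf {G : Type u} [Group G] [Finite G] {p : ℕ} (hp : p.Prime)
    (K T : Subgroup G) [K.Normal] (hcore : T.normalCore = ⊥) (hpd : p ∣ Nat.card K) :
    p ∣ ((T.subgroupOf K).normalCore).index := by
  exact Cfsg.Agent.Helper97.Dixon.dvd_index_core_subgroupOf hp K T hcore hpd

/-- (PS) **Permutation lemma**: a finite solvable group acting transitively (on `G ⧸ T`) with
`p` dividing the order of the permutation group induced (`G ⧸ core T`) has degree divisible by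
a prime power `q ≡ 0, 1 (mod p)`.  Strong induction on `T.index` over all `(G, T)`:
pass to `G ⧸ core T` (same index, core-free); pick `M` from
`Helper71.exists_normal_abelian_pGroup_ne_bot`; `T₁ = M ⊔ T`.  If `T₁ = ⊤` use (PB).
Else if `p ∣ T₁.normalCore.index` use IH on `(G, T₁)`; else `K = T₁.normalCore` has `p ∣ |K|`,
(PK) + IH on `(K, T.subgroupOf K)` whose index `[K : K ⊓ T] = [K ⊔ T : T]` divides
`[T₁ : T]`, a proper divisor of `T.index`. -/
theorem perm_good {G : Type u} [Group G] [Finite G] (hsolv : Group.IsSolvable G) {p : ℕ}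
    (hp : p.Prime) (T : Subgroup G) (hpd : p ∣ T.normalCore.index) :
    ∃ q : ℕ, IsPrimePow q ∧ q ∣ T.index ∧ ((q : ℤ) ≡ 0 [ZMOD p] ∨ (q : ℤ) ≡ 1 [ZMOD p]) := by
  exact Cfsg.Agent.Helper3.DixonPS.perm_good hsolv hp T hpd

/-! ## Kernel argument and deflation -/

/-- (KER) a faithful character `ψ` of `H` and a non-normal Sylow `p`-subgroup `Q`: some
irreducible constituent `φ` has `Q ⊔ ker φ` not normal.  Paper proof: `ker ψ = ⋂ ker φ_i`
over the constituents; if all `Q ⊔ K_i` are normal then `L = ⋂ (Q ⊔ K_i)` is normal, and for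
`y ∈ L`, `y ^ |Q| ∈ K_i` for all `i` (image of `y` in `H ⧸ K_i` lies in the image of `Q`), so
`y ^ |Q| = 1`: `L` is a `p`-group containing the Sylow `Q`, so `L = Q` is normal. -/
theorem exists_constituent_sup_ker_not_normal {H : Type u} [Group H] [Fintype H] {p : ℕ}
    [Fact p.Prime] {ψ : H → ℂ} (hψ : IsCharacter H ψ) (hfaith : ∀ h : H, ψ h = ψ 1 → h = 1)
    (Q : Sylow p H) (hQ : ¬ (Q : Subgroup H).Normal) :
    ∃ φ : IrrCharacter H, classInner ψ (φ : H → ℂ) ≠ 0 ∧
      ¬ ((Q : Subgroup H) ⊔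
        Helper80.kerChar (φ : H → ℂ) (Helper80.IsIrrCharacter.isCharacter φ.2)).Normal := by
  exact Cfsg.Agent.Helper24.Dixon.exists_constituent_sup_ker_not_normal hψ hfaith Q hQ

/-- (DEFL) deflation step: if `Q ⊔ ker φ` is not normal in `H`, pass to `H ⧸ ker φ`
(`Helper80.IsIrrCharacter.exists_descend`, `Sylow.mapSurjective`) and apply the hypothesis
`IH` to the faithful irreducible character there. -/
theorem good_of_sup_ker_not_normal {H : Type u} [Group H] [Finite H]
    (hsolv : Group.IsSolvable H) {p : ℕ} [Fact p.Prime]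
    (IH : ∀ (H' : Type u) [Group H'] [Finite H'], Nat.card H' ≤ Nat.card H →
      Group.IsSolvable H' → ∀ φ' : IrrCharacter H',
      (∀ h : H', (φ' : H' → ℂ) h = (φ' : H' → ℂ) 1 → h = 1) →
      ∀ Q' : Sylow p H', ¬ (Q' : Subgroup H').Normal → Good p (charDegree (φ' : H' → ℂ)))
    (φ : IrrCharacter H) (Q : Sylow p H)
    (hQ : ¬ ((Q : Subgroup H) ⊔
        Helper80.kerChar (φ : H → ℂ) (Helper80.IsIrrCharacter.isCharacter φ.2)).Normal) :
    Good p (charDegree (φ : H → ℂ)) := by
  exact Cfsg.Agent.Helper24.Dixon.good_of_sup_ker_not_normal hsolv IH φ Q hQ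

/-! ## The quasi-primitive case -/

/-- (CENT) if every irreducible constituent of `χ_A` (`A` abelian normal, `χ` faithful
irreducible) is `G`-invariant then `A` is central.  Paper proof: `χ_A = e • θ`
(`Helper15.restrict_eq_smul_of_invariant`), `θ` linear as `A` is abelian, so
`‖χ a‖ = χ 1` for `a ∈ A`, i.e. `a` acts as a scalar (`Helper74.mem_charCenter_iff`), and a
scalar element of a faithful irreducible representation is central
(`Helper80.mem_center_iff_scalar`). -/
theorem le_center_of_invariant {G : Type u} [Group G] [Fintype G] (χ : IrrCharacter G)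
    (hfaith : ∀ g : G, (χ : G → ℂ) g = (χ : G → ℂ) 1 → g = 1)
    (A : Subgroup G) [A.Normal] [Fintype A] (hA : ∀ x ∈ A, ∀ y ∈ A, x * y = y * x)
    (hinv : ∀ θ : A → ℂ, IsIrrCharacter A θ →
      classInner (fun a : A => (χ : G → ℂ) a) θ ≠ 0 → Helper15.inertia A θ = ⊤) :
    A ≤ Subgroup.center G := by
  exact Cfsg.Agent.Helper89.Dixon.le_center_of_invariant χ hfaith A hA hinv

/-- (BSTR) a finite solvable non-abelian group all of whose abelian normal subgroups are
central has a normal subgroup `E > Z(G)` with `E / Z(G)` an abelian `r`-group and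
`Z(E) = Z(G)`.  Paper proof: `Helper71.exists_normal_abelian_pGroup_ne_bot` in
`G ⧸ center G`, take the preimage; `Z(E)` is characteristic in `E ⊴ G`, abelian, hence
central in `G`. -/
theorem exists_class_two {G : Type u} [Group G] [Finite G] (hsolv : Group.IsSolvable G)
    (hnc : Subgroup.center G ≠ ⊤)
    (hab : ∀ A : Subgroup G, A.Normal → (∀ x ∈ A, ∀ y ∈ A, x * y = y * x) →
      A ≤ Subgroup.center G) :
    ∃ (E : Subgroup G) (r k : ℕ), r.Prime ∧ E.Normal ∧ Subgroup.center G ≤ E ∧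
      ¬ E ≤ Subgroup.center G ∧
      (∀ x ∈ E, ∀ y ∈ E, ⁅x, y⁆ ∈ Subgroup.center G) ∧
      (∀ x ∈ E, x ^ (r ^ k) ∈ Subgroup.center G) ∧
      (∀ x ∈ E, (∀ y ∈ E, x * y = y * x) → x ∈ Subgroup.center G) := by
  exact Cfsg.Agent.Helper68.Dixon.exists_class_two hsolv hnc hab

/-- (CT1) central type: `E ≤ G` with `Z(G) ≤ E`, `[E,E] ≤ Z(G)`, `Z(E) = Z(G)`; any irreducible
constituent `ψ` of `χ_E` (`χ` faithful irreducible) has `ψ(1)² = [E : Z(G)]`.  Paper proof:
`Z(G)` acts by a faithful scalar character `ω` in `χ` (`Helper80.IsIrrCharacter.exists_central_scalar`)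
hence in `ψ` (compare `⟨χ_E, ψ⟩` after translating by `z`); for `x ∈ E ∖ Z(G)` pick `y ∈ E` with
`⁅x,y⁆ ≠ 1`, then `ψ x = 0` by `Helper76.irr_eq_zero_of_commutator`; conclude with
`Helper76.charDegree_sq_eq_index_center_of_vanish` (centre of `E` = `Z(G).subgroupOf E`). -/
theorem sq_eq_relIndex_center {G : Type u} [Group G] [Fintype G] (χ : IrrCharacter G)
    (hfaith : ∀ g : G, (χ : G → ℂ) g = (χ : G → ℂ) 1 → g = 1)
    (E : Subgroup G) [Fintype E] (hZE : Subgroup.center G ≤ E)
    (hcomm : ∀ x ∈ E, ∀ y ∈ E, ⁅x, y⁆ ∈ Subgroup.center G)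
    (hcen : ∀ x ∈ E, (∀ y ∈ E, x * y = y * x) → x ∈ Subgroup.center G)
    (ψ : E → ℂ) (hψ : IsIrrCharacter E ψ)
    (hψχ : classInner (fun a : E => (χ : G → ℂ) a) ψ ≠ 0) :
    charDegree ψ ^ 2 = (Subgroup.center G).relIndex E := by
  exact Cfsg.Agent.Helper33.Dixon.sq_eq_relIndex_center χ hfaith E hZE hcomm hcen ψ hψ hψχ

/-- (FIX1) `Z(C_E(g)) = Z(G)` for a `p`-element `g`, `p ≠ r`.  Paper proof: first,
for `w ∈ E` with `c = ⁅g,w⁆ ∈ Z(G)`: `c ^ orderOf g = 1` and `c ^ (r^k) = ⁅g, w^(r^k)⁆ = 1`, so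
`c = 1` (**fixed-point lemma**).  Now let `x ∈ C_E(g)` commute with `C_E(g)`; `f y = ⁅x,y⁆` is a
hom `E → Z(G)`, constant on `g`-orbits; for `y ∈ E`, `w = ∏_{i < a} g^i y g^{-i}` (`a = orderOf g`)
satisfies `g w g⁻¹ = y⁻¹ w y ≡ w (mod Z(G))` so `w ∈ C_E(g)` by the fixed-point lemma, hence
`1 = f w = (f y)^a`; also `(f y)^(r^k) = f (y^(r^k)) = 1`; so `f y = 1`; conclude by `hcen`. -/
theorem center_fix {G : Type u} [Group G] [Finite G] {p r k : ℕ} (hp : p.Prime) (hr : r.Prime)
    (hpr : p ≠ r) (E : Subgroup G) [E.Normal] (hZE : Subgroup.center G ≤ E)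
    (hcomm : ∀ x ∈ E, ∀ y ∈ E, ⁅x, y⁆ ∈ Subgroup.center G)
    (hexp : ∀ x ∈ E, x ^ (r ^ k) ∈ Subgroup.center G)
    (hcen : ∀ x ∈ E, (∀ y ∈ E, x * y = y * x) → x ∈ Subgroup.center G)
    (g : G) (hg : ∃ j : ℕ, orderOf g = p ^ j) :
    ∀ x ∈ E ⊓ Subgroup.centralizer {g},
      (∀ y ∈ E ⊓ Subgroup.centralizer {g}, x * y = y * x) → x ∈ Subgroup.center G := by
  exact Cfsg.Agent.Helper23.Dixon.center_fix hp hr hpr E hZE hcomm hexp hcen g hg

/-- (FIX2) `[E : Z(G)] ≡ [C_E(g) : Z(G)] (mod p)` for a `p`-element `g`, `p ≠ r`.  Paper proof: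
`⟨g⟩` (a `p`-group) acts by conjugation on `E ⧸ Z(G)`; by the fixed-point lemma above the fixed
cosets are exactly those of `C_E(g)`; `IsPGroup.card_modEq_card_fixedPoints`. -/
theorem relIndex_fix_modEq {G : Type u} [Group G] [Finite G] {p r k : ℕ} (hp : p.Prime)
    (hr : r.Prime) (hpr : p ≠ r) (E : Subgroup G) [E.Normal] (hZE : Subgroup.center G ≤ E)
    (hcomm : ∀ x ∈ E, ∀ y ∈ E, ⁅x, y⁆ ∈ Subgroup.center G)
    (hexp : ∀ x ∈ E, x ^ (r ^ k) ∈ Subgroup.center G)
    (g : G) (hg : ∃ j : ℕ, orderOf g = p ^ j) :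
    (Subgroup.center G).relIndex E ≡
      (Subgroup.center G).relIndex (E ⊓ Subgroup.centralizer {g}) [MOD p] := by
  exact Cfsg.Agent.Helper23.Dixon.relIndex_fix_modEq hp hr hpr E hZE hcomm hexp g hg

end Cfsg.Agent.Helper3.Dixon
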