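import Mathlib
import Cfsg.Agent.Helper3.S3S3Defs
import Cfsg.Prelude.Def_Characters

/-!
# S3701 (helper3): definitions for the `3³ : 2²` configuration

`Vec = (ZMod 3)³` are coordinates on `T`; `Vs` is the group of four sign vectors
(`sa = (-1,-1,1)`, `sb = (-1,1,-1)`), acting on `Vec` by pointwise multiplication.
`HCfg T τ a b`: `τ : Vec → G` is an isomorphism onto `T`, `a`, `b` normalize `T` and act by
`sa`, `sb`, and `N_G(T) = T ∪ Ta ∪ Tb ∪ Tab`.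
-/

set_option autoImplicit false

namespace Cfsg.Agent.Helper3.E27

open Cfsg.Agent.Helper3.S3S3 (pairCount)

abbrev Vec := Fin 3 → ZMod 3

def sa : Vec := ![-1, -1, 1]
def sb : Vec := ![-1, 1, -1]

/-- the four sign vectors `(1,1,1), (-1,-1,1), (-1,1,-1), (1,-1,-1)` -/
def Vs : Finset Vec := {1, sa, sb, sa * sb}

/-- coordinates of `N_G(T) = 3³ : 2²`. -/
structure HCfg {G : Type*} [Group G] (T : Subgroup G) (τ : Vec → G) (a b : G) : Prop where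
  τ_add : ∀ u v, τ (u + v) = τ u * τ v
  τ_inj : Function.Injective τ
  τ_mem : ∀ v, τ v ∈ T
  memT : ∀ t ∈ T, ∃ v, τ v = t
  aN : a ∈ Subgroup.normalizer (T : Set G)
  bN : b ∈ Subgroup.normalizer (T : Set G)
  τ_a : ∀ v, a * τ v * a⁻¹ = τ (sa * v)
  τ_b : ∀ v, b * τ v * b⁻¹ = τ (sb * v)
  memN : ∀ n ∈ Subgroup.normalizer (T : Set G),
    ∃ t ∈ T, n = t ∨ n = t * a ∨ n = t * b ∨ n = t * (a * b)

/-- the character `v ↦ ζ ^ (u ⬝ v)` of `Vec`. -/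
noncomputable def lam (ζ : ℂ) (u v : Vec) : ℂ := ζ ^ (u ⬝ᵥ v).val

/-- the nine orbit representatives: `0`, the regular ones `r i`, and the `P`-type ones `p k`. -/
def r : Fin 5 → Vec := ![![0, 1, 1], ![1, 0, 1], ![1, 1, 0], ![1, 1, 1], ![-1, -1, -1]]
def p : Fin 3 → Vec := ![![1, 0, 0], ![0, 1, 0], ![0, 0, 1]]

/-- the concrete generators in `Perm (Fin 9)` -/
def c1 : Equiv.Perm (Fin 9) := Equiv.swap (0 : Fin 9) 1 * Equiv.swap 1 2
def c2 : Equiv.Perm (Fin 9) := Equiv.swap (3 : Fin 9) 4 * Equiv.swap 4 5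
def c3 : Equiv.Perm (Fin 9) := Equiv.swap (6 : Fin 9) 7 * Equiv.swap 7 8
def s1 : Equiv.Perm (Fin 9) := Equiv.swap (0 : Fin 9) 1 * Equiv.swap 3 4
def s2 : Equiv.Perm (Fin 9) := Equiv.swap (0 : Fin 9) 1 * Equiv.swap 6 7

def H0 : Subgroup (Equiv.Perm (Fin 9)) := Subgroup.closure ({c1, c2, c3, s1, s2} : Set (Equiv.Perm (Fin 9)))

def tau0 (v : Vec) : Equiv.Perm (Fin 9) := c1 ^ (v 0).val * c2 ^ (v 1).val * c3 ^ (v 2).val

end Cfsg.Agent.Helper3.E27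

namespace Cfsg.Agent.Helper3.E27

open scoped ComplexConjugate

/-- `m u χ` is the multiplicity of the character `lam ζ u` of `T ≅ Vec` in `χ|_T`. -/
def IsMult {G : Type*} [Group G] (τ : Vec → G) (ζ : ℂ)
    (m : Vec → Cfsg.IrrCharacter G → ℕ) : Prop :=
  ∀ (u : Vec) (χ : Cfsg.IrrCharacter G),
    (m u χ : ℂ) = (1 / 27 : ℂ) * ∑ v : Vec, (χ : G → ℂ) (τ v) * conj (lam ζ u v)

end Cfsg.Agent.Helper3.E27
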