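import Mathlib
import Cfsg.Agent.Helper3.E27Defs

set_option autoImplicit false
open Cfsg Finset

namespace Cfsg.Agent.Helper3.E27A1a
open Cfsg.Agent.Helper3.E27

set_option maxRecDepth 100000 in
theorem tau0_add : ∀ u v : Vec, tau0 (u + v) = tau0 u * tau0 v := by decide

set_option maxRecDepth 100000 in
theorem tau0_inj' : ∀ u v : Vec, tau0 u = tau0 v → u = v := by decide

theorem s1_sq : s1 * s1 = 1 := by decide
theorem s2_sq : s2 * s2 = 1 := by decide
theorem s1_s2 : s1 * s2 = s2 * s1 := by decide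

set_option maxRecDepth 100000 in
theorem s1_conj : ∀ v : Vec, s1 * tau0 v * s1⁻¹ = tau0 (sa * v) := by decide

set_option maxRecDepth 100000 in
theorem s2_conj : ∀ v : Vec, s2 * tau0 v * s2⁻¹ = tau0 (sb * v) := by decide

theorem c1_mem : c1 ∈ H0 := Subgroup.subset_closure (by simp)
theorem c2_mem : c2 ∈ H0 := Subgroup.subset_closure (by simp)
theorem c3_mem : c3 ∈ H0 := Subgroup.subset_closure (by simp)
theorem s1_mem : s1 ∈ H0 := Subgroup.subset_closure (by simp)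
theorem s2_mem : s2 ∈ H0 := Subgroup.subset_closure (by simp)

theorem tau0_mem (v : Vec) : tau0 v ∈ H0 :=
  H0.mul_mem (H0.mul_mem (H0.pow_mem c1_mem _) (H0.pow_mem c2_mem _)) (H0.pow_mem c3_mem _)

/-- the normal form predicate -/
def NF (g : Equiv.Perm (Fin 9)) : Prop :=
  ∃ v, g = tau0 v ∨ g = tau0 v * s1 ∨ g = tau0 v * s2 ∨ g = tau0 v * (s1 * s2)

theorem s1_inv : s1⁻¹ = s1 := inv_eq_of_mul_eq_one_right s1_sq
theorem s2_inv : s2⁻¹ = s2 := inv_eq_of_mul_eq_one_right s2_sq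

theorem s1_tau (v : Vec) : s1 * tau0 v = tau0 (sa * v) * s1 := by
  rw [← s1_conj v, s1_inv]; simp [mul_assoc, s1_sq]
theorem s2_tau (v : Vec) : s2 * tau0 v = tau0 (sb * v) * s2 := by
  rw [← s2_conj v, s2_inv]; simp [mul_assoc, s2_sq]

theorem tau0_zero : tau0 0 = 1 := by decide

theorem NF_tau_mul {g : Equiv.Perm (Fin 9)} (hg : NF g) (u : Vec) : NF (tau0 u * g) := by
  obtain ⟨v, h | h | h | h⟩ := hg <;> subst h <;> refine ⟨u + v, ?_⟩
  · left; rw [tau0_add]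
  · right; left; rw [tau0_add, mul_assoc]
  · right; right; left; rw [tau0_add, mul_assoc]
  · right; right; right; rw [tau0_add, mul_assoc]

theorem NF_s1_mul {g : Equiv.Perm (Fin 9)} (hg : NF g) : NF (s1 * g) := by
  obtain ⟨v, h | h | h | h⟩ := hg <;> subst h <;> refine ⟨sa * v, ?_⟩
  · right; left; rw [s1_tau]
  · left; rw [← mul_assoc, s1_tau, mul_assoc, s1_sq, mul_one]
  · right; right; right; rw [← mul_assoc, s1_tau, mul_assoc]
  · right; right; left
    rw [← mul_assoc, s1_tau, mul_assoc, ← mul_assoc s1 s1 s2, s1_sq, one_mul]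

theorem NF_s2_mul {g : Equiv.Perm (Fin 9)} (hg : NF g) : NF (s2 * g) := by
  obtain ⟨v, h | h | h | h⟩ := hg <;> subst h <;> refine ⟨sb * v, ?_⟩
  · right; right; left; rw [s2_tau]
  · right; right; right; rw [← mul_assoc, s2_tau, mul_assoc, s1_s2]
  · left; rw [← mul_assoc, s2_tau, mul_assoc, s2_sq, mul_one]
  · right; left
    rw [← mul_assoc, s2_tau, mul_assoc, s1_s2, ← mul_assoc s2 s2 s1, s2_sq, one_mul]

theorem NF_one : NF 1 := ⟨0, Or.inl tau0_zero.symm⟩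

theorem tau0_e0 : tau0 ![1, 0, 0] = c1 := by decide
theorem tau0_e1 : tau0 ![0, 1, 0] = c2 := by decide
theorem tau0_e2 : tau0 ![0, 0, 1] = c3 := by decide

theorem tau0_neg (v : Vec) : (tau0 v)⁻¹ = tau0 (-v) := by
  rw [inv_eq_iff_mul_eq_one, ← tau0_add, add_neg_cancel, tau0_zero]

/-- `NF` is closed under left multiplication by elements of `H0`. -/
theorem NF_mul_of_mem {h : Equiv.Perm (Fin 9)} (hh : h ∈ H0) : ∀ g, NF g → NF (h * g) := by
  refine Subgroup.closure_induction (p := fun h _ => ∀ g, NF g → NF (h * g)) ?_ ?_ ?_ ?_ hh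
  · intro x hx g hg
    simp only [Set.mem_insert_iff, Set.mem_singleton_iff] at hx
    rcases hx with rfl | rfl | rfl | rfl | rfl
    · rw [← tau0_e0]; exact NF_tau_mul hg _
    · rw [← tau0_e1]; exact NF_tau_mul hg _
    · rw [← tau0_e2]; exact NF_tau_mul hg _
    · exact NF_s1_mul hg
    · exact NF_s2_mul hg
  · intro g hg; rwa [one_mul]
  · intro x y _ _ hx hy g hg
    rw [mul_assoc]; exact hx _ (hy _ hg)
  · intro x _ hx g hg
    -- x⁻¹ * g : use finiteness: x⁻¹ = x ^ k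
    obtain ⟨k, hk⟩ : ∃ k : ℕ, x⁻¹ = x ^ k := by
      refine ⟨orderOf x - 1, ?_⟩
      have hpos : 0 < orderOf x := orderOf_pos x
      rw [inv_eq_iff_mul_eq_one, ← pow_succ', Nat.sub_add_cancel hpos, pow_orderOf_eq_one]
    have hpow : ∀ k : ℕ, NF (x ^ k * g) := by
      intro k
      induction k with
      | zero => rwa [pow_zero, one_mul]
      | succ k ih => rw [pow_succ', mul_assoc]; exact hx _ ih
    rw [hk]
    exact hpow k

theorem H0_struct :
    (∀ u v : Vec, tau0 (u + v) = tau0 u * tau0 v) ∧ Function.Injective tau0 ∧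
    (∀ v, tau0 v ∈ H0) ∧ s1 ∈ H0 ∧ s2 ∈ H0 ∧ s1 * s1 = 1 ∧ s2 * s2 = 1 ∧ s1 * s2 = s2 * s1 ∧
    (∀ v, s1 * tau0 v * s1⁻¹ = tau0 (sa * v)) ∧ (∀ v, s2 * tau0 v * s2⁻¹ = tau0 (sb * v)) ∧
    (∀ g ∈ H0, ∃ v, g = tau0 v ∨ g = tau0 v * s1 ∨ g = tau0 v * s2 ∨ g = tau0 v * (s1 * s2)) := by
  refine ⟨tau0_add, fun u v h => tau0_inj' u v h, tau0_mem, s1_mem, s2_mem, s1_sq, s2_sq, s1_s2,
    s1_conj, s2_conj, ?_⟩
  intro g hg
  have := NF_mul_of_mem hg 1 NF_one
  rwa [mul_one] at this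

end Cfsg.Agent.Helper3.E27A1a
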