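import Mathlib
import Cfsg.Statements.S3701
import Cfsg.Agent.Helper3.E27Defs
import Cfsg.Agent.Helper3.S3S3Main
import Cfsg.Agent.Helper3.E27A1a
import Cfsg.Agent.Helper24.E27C2
import Cfsg.Agent.Helper34.E27D1
import Cfsg.Agent.Helper48.E27C1
import Cfsg.Agent.Helper48.E27C3
import Cfsg.Agent.Helper51.E27A5
import Cfsg.Agent.Helper55.E27A6x
import Cfsg.Agent.Helper63.E27B0
import Cfsg.Agent.Helper63.E27B2
import Cfsg.Agent.Helper67.E27N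
import Cfsg.Agent.Helper69.E27A1b
import Cfsg.Agent.Helper76.E27A23
import Cfsg.Agent.Helper79.E27B457
import Cfsg.Agent.Helper81.E27B1
import Cfsg.Agent.Helper91.E27B3
import Cfsg.Agent.Helper91.E27B8

/-!
# S3701 (helper3): glue of the farmed pieces to the skeleton signatures
-/

set_option autoImplicit false
open Cfsg Finset
open scoped ComplexConjugate

namespace Cfsg.Agent.Helper3.E27Glue
open Cfsg.Agent.Helper3.E27 Cfsg.Agent.Helper3.S3S3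

universe u

section A

theorem H0_struct :
    (∀ u v : Vec, tau0 (u + v) = tau0 u * tau0 v) ∧ Function.Injective tau0 ∧
    (∀ v, tau0 v ∈ H0) ∧ s1 ∈ H0 ∧ s2 ∈ H0 ∧ s1 * s1 = 1 ∧ s2 * s2 = 1 ∧ s1 * s2 = s2 * s1 ∧
    (∀ v, s1 * tau0 v * s1⁻¹ = tau0 (sa * v)) ∧ (∀ v, s2 * tau0 v * s2⁻¹ = tau0 (sb * v)) ∧
    (∀ g ∈ H0, ∃ v, g = tau0 v ∨ g = tau0 v * s1 ∨ g = tau0 v * s2 ∨ g = tau0 v * (s1 * s2)) :=
  Cfsg.Agent.Helper3.E27A1a.H0_struct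

variable {G : Type u} [Group G]

theorem exists_hcfg [Finite G] (H : Subgroup G) (hH : Nonempty (↥H ≃* ↥H0))
    (T : Subgroup G) (hTH : T ≤ H) (hT : Nat.card T = 27)
    (hN : Subgroup.normalizer (T : Set G) = H) :
    ∃ (τ : Vec → G) (a b : G), HCfg T τ a b :=
  Cfsg.Agent.Helper69.E27A1b.exists_hcfg' H0_struct H hH T hTH hT hN

theorem sylow_of_hcfg [Finite G] {T : Subgroup G} {τ : Vec → G} {a b : G} (h : HCfg T τ a b) :
    (∃ P : Sylow 3 G, (P : Subgroup G) = T) ∧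
      Nat.card (Subgroup.normalizer (T : Set G)) = 108 :=
  Cfsg.Agent.Helper76.E27.sylow_of_hcfg h

theorem conj_N {T : Subgroup G} {τ : Vec → G} {a b : G} (h : HCfg T τ a b)
    (n : G) (hn : n ∈ Subgroup.normalizer (T : Set G)) :
    ∃ σ ∈ Vs, ∀ v, n * τ v * n⁻¹ = τ (σ * v) :=
  Cfsg.Agent.Helper76.E27.conj_N h n hn

theorem fusion [Finite G] {T : Subgroup G} {τ : Vec → G} {a b : G} (h : HCfg T τ a b)
    (hloc : ∀ t ∈ T, t ≠ 1 →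
      Subgroup.centralizer ({t} : Set G) ≤ Subgroup.normalizer (T : Set G))
    (v v' : Vec) (hv : v ≠ 0) : IsConj (τ v) (τ v') ↔ ∃ σ ∈ Vs, σ * v = v' :=
  Cfsg.Agent.Helper51.E27.fusion h hloc v v' hv

theorem card_centralizer [Finite G] {T : Subgroup G} {τ : Vec → G} {a b : G} (h : HCfg T τ a b)
    (hloc : ∀ t ∈ T, t ≠ 1 →
      Subgroup.centralizer ({t} : Set G) ≤ Subgroup.normalizer (T : Set G))
    (v : Vec) (hv : v ≠ 0) :
    Nat.card (Subgroup.centralizer ({τ v} : Set G)) = 27 * (Vs.filter (fun σ => σ * v = v)).card :=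
  Cfsg.Agent.Helper51.E27.card_centralizer h hloc v hv

theorem pair_counts [Fintype G] [DecidableEq G] {T : Subgroup G} {τ : Vec → G} {a b : G}
    (h : HCfg T τ a b)
    (hloc : ∀ t ∈ T, t ≠ 1 →
      Subgroup.centralizer ({t} : Set G) ≤ Subgroup.normalizer (T : Set G))
    (v : Vec) :
    pairCount (τ (p 0)) (τ (p 2)) (τ v) =
      if v 1 = 0 ∧ v 0 ≠ 0 ∧ v 2 ≠ 0 then 54 * 54 else 0 :=
  Cfsg.Agent.Helper55.E27A6.pair_counts h hloc v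

end A

theorem Vs_sq : ∀ σ ∈ Vs, ∀ v : Vec, σ * (σ * v) = v := by decide

theorem Vs_wsig : ∀ σ ∈ Vs, ∃ i : Fin 4, Cfsg.Agent.Helper76.E27.wsig i = σ := by decide

section B
variable (ζ : ℂ)

theorem lam_facts (hζ : IsPrimitiveRoot ζ 3) :
    (∀ u v v' : Vec, lam ζ u (v + v') = lam ζ u v * lam ζ u v') ∧
    (∀ u : Vec, lam ζ u 0 = 1) ∧ (∀ v : Vec, lam ζ 0 v = 1) ∧
    (∀ σ u v : Vec, lam ζ (σ * u) v = lam ζ u (σ * v)) ∧
    (∀ u v : Vec, conj (lam ζ u v) = lam ζ u (-v)) ∧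
    (∀ u w : Vec, ∑ v : Vec, lam ζ u v * conj (lam ζ w v) = if u = w then 27 else 0) ∧
    (∀ v v' : Vec, ∑ u : Vec, lam ζ u v * conj (lam ζ u v') = if v = v' then 27 else 0) :=
  Cfsg.Agent.Helper63.E27.lam_facts ζ hζ

variable {G : Type u} [Group G] [Fintype G] {T : Subgroup G} {τ : Vec → G} {a b : G}

theorem mult_nat (hζ : IsPrimitiveRoot ζ 3) (h : HCfg T τ a b) (χ : IrrCharacter G) (u : Vec) :
    ∃ n : ℕ, (n : ℂ) = (1 / 27 : ℂ) * ∑ v : Vec, (χ : G → ℂ) (τ v) * conj (lam ζ u v) :=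
  Cfsg.Agent.Helper81.E27.mult_nat ζ hζ h χ u

theorem col_orth [Fintype (IrrCharacter G)] (h : HCfg T τ a b)
    (hloc : ∀ t ∈ T, t ≠ 1 →
      Subgroup.centralizer ({t} : Set G) ≤ Subgroup.normalizer (T : Set G))
    (v v' : Vec) (hv : v ≠ 0) :
    ∑ χ : IrrCharacter G, (χ : G → ℂ) (τ v) * conj ((χ : G → ℂ) (τ v')) =
      27 * ((Vs.filter (fun σ => σ * v = v')).card : ℂ) :=
  Cfsg.Agent.Helper63.E27.col_orth h hloc v v' hv

theorem gram [Fintype (IrrCharacter G)] (hζ : IsPrimitiveRoot ζ 3) (h : HCfg T τ a b)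
    (hloc : ∀ t ∈ T, t ≠ 1 →
      Subgroup.centralizer ({t} : Set G) ≤ Subgroup.normalizer (T : Set G))
    (m : Vec → IrrCharacter G → ℕ) (hm : IsMult τ ζ m) (u u' w w' : Vec) :
    ∑ χ : IrrCharacter G, ((m u χ : ℤ) - m u' χ) * ((m w χ : ℤ) - m w' χ) =
      ∑ σ ∈ Vs, ((if u = σ * w then (1 : ℤ) else 0) - (if u = σ * w' then 1 else 0)
        - (if u' = σ * w then 1 else 0) + (if u' = σ * w' then 1 else 0)) := by
  obtain ⟨-, hzero, -, hswap, -, horth, -⟩ := lam_facts ζ hζ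
  exact Cfsg.Agent.Helper91.E27.gram' ζ hswap hzero horth (fun v v' hv => col_orth h hloc v v' hv)
    m hm u u' w w'

theorem degree_orth [Fintype (IrrCharacter G)] (hζ : IsPrimitiveRoot ζ 3) (h : HCfg T τ a b)
    (m : Vec → IrrCharacter G → ℕ) (hm : IsMult τ ζ m) (u u' : Vec) :
    ∑ χ : IrrCharacter G, (charDegree (χ : G → ℂ) : ℤ) * ((m u χ : ℤ) - m u' χ) = 0 :=
  Cfsg.Agent.Helper79.E27.degree_orth ζ (lam_facts ζ hζ) h m hm u u'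

theorem mult_principal (hζ : IsPrimitiveRoot ζ 3) (h : HCfg T τ a b)
    (m : Vec → IrrCharacter G → ℕ) (hm : IsMult τ ζ m) (u : Vec) :
    m u (Cfsg.Agent.Helper79.principalIrr G) = if u = 0 then 1 else 0 :=
  Cfsg.Agent.Helper79.E27.mult_principal ζ (lam_facts ζ hζ) h m hm u

theorem mult_inv (hζ : IsPrimitiveRoot ζ 3) (h : HCfg T τ a b)
    (m : Vec → IrrCharacter G → ℕ) (hm : IsMult τ ζ m) (σ : Vec) (hσ : σ ∈ Vs) (u : Vec)
    (χ : IrrCharacter G) : m (σ * u) χ = m u χ := by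
  obtain ⟨-, -, -, hswap, -, -, -⟩ := lam_facts ζ hζ
  apply Nat.cast_injective (R := ℂ)
  rw [hm (σ * u) χ, hm u χ]
  congr 1
  obtain ⟨i, rfl⟩ := Vs_wsig σ hσ
  have hcl : ∀ v : Vec, (χ : G → ℂ) (τ (Cfsg.Agent.Helper76.E27.wsig i * v)) = (χ : G → ℂ) (τ v) := by
    intro v
    rw [← Cfsg.Agent.Helper76.E27.HCfg_wrep_conj h i v]
    exact Cfsg.Agent.Helper79.irr_isClassFunction χ _ _
  let e : Vec ≃ Vec :=
    { toFun := fun v => Cfsg.Agent.Helper76.E27.wsig i * v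
      invFun := fun v => Cfsg.Agent.Helper76.E27.wsig i * v
      left_inv := fun v => Vs_sq _ hσ v
      right_inv := fun v => Vs_sq _ hσ v }
  rw [← Equiv.sum_comp e]
  refine Finset.sum_congr rfl (fun v _ => ?_)
  show (χ : G → ℂ) (τ (Cfsg.Agent.Helper76.E27.wsig i * v)) *
      conj (lam ζ (Cfsg.Agent.Helper76.E27.wsig i * u) (Cfsg.Agent.Helper76.E27.wsig i * v)) = _
  rw [hcl v, hswap, Vs_sq _ hσ v]

theorem mult_inversion (hζ : IsPrimitiveRoot ζ 3) (h : HCfg T τ a b)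
    (m : Vec → IrrCharacter G → ℕ) (hm : IsMult τ ζ m) (χ : IrrCharacter G) (v : Vec) :
    (χ : G → ℂ) (τ v) = ∑ u : Vec, (m u χ : ℂ) * lam ζ u v :=
  Cfsg.Agent.Helper79.E27.mult_inversion ζ (lam_facts ζ hζ) h m hm χ v

theorem third_moment [DecidableEq G] [Fintype (IrrCharacter G)] (hζ : IsPrimitiveRoot ζ 3)
    (h : HCfg T τ a b)
    (m : Vec → IrrCharacter G → ℕ) (hm : IsMult τ ζ m) (u w : Vec) (k₁ k₂ : G) :
    ∑ χ : IrrCharacter G, (χ : G → ℂ) k₁ * (χ : G → ℂ) k₂ * ((m u χ : ℂ) - m w χ)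
        / (χ : G → ℂ) 1 =
      (1 / (27 * (Nat.card G : ℂ))) *
        ∑ v : Vec, (lam ζ u v - lam ζ w v) * (pairCount k₁ k₂ (τ v) : ℂ) :=
  Cfsg.Agent.Helper91.E27.third_moment ζ h m hm u w k₁ k₂

theorem exc_values (hζ : IsPrimitiveRoot ζ 3) (h : HCfg T τ a b)
    (m : Vec → IrrCharacter G → ℕ) (hm : IsMult τ ζ m) (χ : IrrCharacter G) (l : Fin 5) (ε : ℤ)
    (hr : ∀ i : Fin 5, (m (r i) χ : ℤ) - m 0 χ = if i = l then ε else 0)
    (hp : ∀ k : Fin 3, (m (p k) χ : ℤ) - m 0 χ = 0) (v : Vec) (hv : v ≠ 0) :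
    (χ : G → ℂ) (τ v) = (ε : ℂ) * ∑ σ ∈ Vs, lam ζ (σ * r l) v :=
  Cfsg.Agent.Helper34.E27D1.exc_values_of ζ (lam_facts ζ hζ) h m hm
    (fun σ hσ u χ => mult_inv ζ hζ h m hm σ hσ u χ)
    (fun χ v => mult_inversion ζ hζ h m hm χ v) χ l ε hr hp v hv

end B

section C
variable {ι : Type*} [Fintype ι] [DecidableEq ι]

theorem star (d : ι → ℕ) (hd : ∀ x, 0 < d x) (a : Fin 5 → ι → ℤ)
    (haa : ∀ i j, ∑ x, a i x * a j x = if i = j then 5 else 4)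
    (hda : ∀ i, ∑ x, (d x : ℤ) * a i x = 0) :
    ∃ (ε : ℤ) (θ : Fin 5 → ι) (D : ℕ) (W : ι → ℤ), (ε = 1 ∨ ε = -1) ∧ Function.Injective θ ∧
      (∀ i, d (θ i) = D) ∧ ∀ i x, a i x = W x + if x = θ i then ε else 0 :=
  Cfsg.Agent.Helper24.E27C2.star d hd a haa hda

theorem star_zero (o : ι) (d : ι → ℕ) (hd : ∀ x, 0 < d x) (hdo : d o = 1)
    (a : Fin 5 → ι → ℤ) (b : Fin 3 → ι → ℤ)
    (haa : ∀ i j, ∑ x, a i x * a j x = if i = j then 5 else 4)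
    (hbb : ∀ k, ∑ x, b k x ^ 2 = 6) (hba : ∀ k i, ∑ x, b k x * a i x = 4)
    (hao : ∀ i, a i o = -1) (hda : ∀ i, ∑ x, (d x : ℤ) * a i x = 0)
    (ε : ℤ) (θ : Fin 5 → ι) (D : ℕ) (W : ι → ℤ) (hε : ε = 1 ∨ ε = -1)
    (hθ : Function.Injective θ) (hD : ∀ i, d (θ i) = D)
    (hW : ∀ i x, a i x = W x + if x = θ i then ε else 0) :
    (∀ i, θ i ≠ o) ∧ (∀ l, W (θ l) = 0) ∧ (∀ k l, b k (θ l) = 0) :=
  Cfsg.Agent.Helper48.E27.star_zero o d hd hdo a b haa hbb hba hao hda ε θ D W hε hθ hD hW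

end C

section N
variable (ζ : ℂ)

theorem orbit_sums (hζ : IsPrimitiveRoot ζ 3) :
    ∑ σ ∈ Vs, lam ζ (σ * r 0) (p 0) = 4 ∧ ∑ σ ∈ Vs, lam ζ (σ * r 0) (p 2) = -2 ∧
    ∑ σ ∈ Vs, lam ζ (σ * r 1) (p 0) = -2 ∧ ∑ σ ∈ Vs, lam ζ (σ * r 1) (p 2) = -2 :=
  Cfsg.Agent.Helper67.E27N.orbit_sums ζ hζ

theorem rhs_sum (hζ : IsPrimitiveRoot ζ 3) :
    ∑ v : Vec, (lam ζ (r 0) v - lam ζ (r 1) v) *
      (if v 1 = 0 ∧ v 0 ≠ 0 ∧ v 2 ≠ 0 then (2916 : ℂ) else 0) = -8748 :=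
  Cfsg.Agent.Helper67.E27N.rhs_sum ζ hζ

end N

end Cfsg.Agent.Helper3.E27Glue
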