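import Mathlib
import Cfsg.Statements.S3701
import Cfsg.Agent.Helper3.E27Defs
import Cfsg.Agent.Helper3.S3S3Main
import Cfsg.Agent.Helper3.E27Glue

set_option autoImplicit false
open Cfsg Finset
open scoped ComplexConjugate

namespace Cfsg.Agent.Helper3.E27Main
open Cfsg.Agent.Helper3.E27 Cfsg.Agent.Helper3.S3S3
open Cfsg.Agent.Helper3.E27Glue

universe u

theorem gram_rr : ∀ i j : Fin 5, ∑ σ ∈ Vs, ((if r i = σ * r j then (1 : ℤ) else 0)
    - (if r i = σ * 0 then 1 else 0) - (if (0 : Vec) = σ * r j then 1 else 0)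
    + (if (0 : Vec) = σ * 0 then 1 else 0)) = if i = j then 5 else 4 := by
  decide

theorem gram_pp : ∀ k : Fin 3, ∑ σ ∈ Vs, ((if p k = σ * p k then (1 : ℤ) else 0)
    - (if p k = σ * 0 then 1 else 0) - (if (0 : Vec) = σ * p k then 1 else 0)
    + (if (0 : Vec) = σ * 0 then 1 else 0)) = 6 := by
  decide

theorem gram_pr : ∀ (k : Fin 3) (i : Fin 5), ∑ σ ∈ Vs, ((if p k = σ * r i then (1 : ℤ) else 0)
    - (if p k = σ * 0 then 1 else 0) - (if (0 : Vec) = σ * r i then 1 else 0)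
    + (if (0 : Vec) = σ * 0 then 1 else 0)) = 4 := by
  decide

theorem r_ne_zero : ∀ i : Fin 5, r i ≠ 0 := by decide
theorem p_ne_zero : ∀ k : Fin 3, p k ≠ 0 := by decide


/-- (D2) the character-theoretic core. -/
theorem card_eq_108 {G : Type u} [Group G] [Fintype G] [DecidableEq G] {T : Subgroup G}
    {τ : Vec → G} {a b : G} (h : HCfg T τ a b)
    (hloc : ∀ t ∈ T, t ≠ 1 →
      Subgroup.centralizer ({t} : Set G) ≤ Subgroup.normalizer (T : Set G)) :
    Nat.card G = 108 := by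
  classical
  have : Finite (IrrCharacter G) := Cfsg.Agent.Helper79.irr_finite
  let _ : Fintype (IrrCharacter G) := Fintype.ofFinite _
  -- the cube root of unity
  obtain ⟨ζ, hζ⟩ : ∃ ζ : ℂ, IsPrimitiveRoot ζ 3 :=
    ⟨_, Complex.isPrimitiveRoot_exp 3 (by norm_num)⟩
  -- multiplicities
  have hex := fun (u : Vec) (χ : IrrCharacter G) => mult_nat ζ hζ h χ u
  choose m hm using hex
  have hm' : IsMult τ ζ m := hm
  -- lattice data
  set o : IrrCharacter G := Cfsg.Agent.Helper79.principalIrr G with ho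
  set d : IrrCharacter G → ℕ := fun χ => charDegree (χ : G → ℂ) with hd
  set A : Fin 5 → IrrCharacter G → ℤ := fun i χ => (m (r i) χ : ℤ) - m 0 χ with hA
  set B : Fin 3 → IrrCharacter G → ℤ := fun k χ => (m (p k) χ : ℤ) - m 0 χ with hB
  have hdpos : ∀ χ, 0 < d χ := fun χ => Cfsg.Agent.Helper79.irr_charDegree_pos χ
  have hdo : d o = 1 := by
    have h1 : ((o : IrrCharacter G) : G → ℂ) 1 = 1 := rfl
    have h2 := Cfsg.Agent.Helper79.irr_one o
    rw [h1] at h2
    exact_mod_cast h2.symm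
  have haa : ∀ i j, ∑ χ, A i χ * A j χ = if i = j then 5 else 4 := by
    intro i j
    rw [← gram_rr i j]
    exact gram ζ hζ h hloc m hm' (r i) 0 (r j) 0
  have hbb : ∀ k, ∑ χ, B k χ ^ 2 = 6 := by
    intro k
    rw [← gram_pp k, ← gram ζ hζ h hloc m hm' (p k) 0 (p k) 0]
    exact Finset.sum_congr rfl (fun χ _ => by ring)
  have hba : ∀ k i, ∑ χ, B k χ * A i χ = 4 := by
    intro k i
    rw [← gram_pr k i]
    exact gram ζ hζ h hloc m hm' (p k) 0 (r i) 0
  have hao : ∀ i, A i o = -1 := by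
    intro i
    simp only [hA, ho, mult_principal ζ hζ h m hm', if_neg (r_ne_zero i), if_true]
    norm_num
  have hda : ∀ i, ∑ χ, (d χ : ℤ) * A i χ = 0 := fun i => degree_orth ζ hζ h m hm' (r i) 0
  obtain ⟨ε, θ, D, W, hε, hθinj, hθD, hstar⟩ := star d hdpos A haa hda
  obtain ⟨hθo, hWθ, hBθ⟩ :=
    star_zero o d hdpos hdo A B haa hbb hba hao hda ε θ D W hε hθinj hθD hstar
  -- values of θ 0, θ 1
  have hrθ : ∀ l i : Fin 5, (m (r i) (θ l) : ℤ) - m 0 (θ l) = if i = l then ε else 0 := by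
    intro l i
    have := hstar i (θ l)
    simp only [hA] at this
    rw [this, hWθ l, zero_add]
    by_cases hil : i = l
    · subst hil; simp
    · have : θ l ≠ θ i := fun hc => hil (hθinj hc).symm
      simp [hil, this]
  have hpθ : ∀ (l : Fin 5) (k : Fin 3), (m (p k) (θ l) : ℤ) - m 0 (θ l) = 0 := fun l k => hBθ k l
  have hval := fun (l : Fin 5) (v : Vec) (hv : v ≠ 0) =>
    exc_values ζ hζ h m hm' (θ l) l ε (hrθ l) (hpθ l) v hv
  obtain ⟨n00, n02, n10, n12⟩ := orbit_sums ζ hζ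
  have v00 := hval 0 (p 0) (p_ne_zero 0)
  have v02 := hval 0 (p 2) (p_ne_zero 2)
  have v10 := hval 1 (p 0) (p_ne_zero 0)
  have v12 := hval 1 (p 2) (p_ne_zero 2)
  rw [n00] at v00; rw [n02] at v02; rw [n10] at v10; rw [n12] at v12
  -- the third moment equation
  have htm := third_moment ζ hζ h m hm' (r 0) (r 1) (τ (p 0)) (τ (p 2))
  have hpc : ∀ v : Vec, (pairCount (τ (p 0)) (τ (p 2)) (τ v) : ℂ) =
      if v 1 = 0 ∧ v 0 ≠ 0 ∧ v 2 ≠ 0 then (2916 : ℂ) else 0 := by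
    intro v
    rw [pair_counts h hloc v]
    split_ifs <;> norm_num
  simp only [hpc] at htm
  rw [rhs_sum ζ hζ] at htm
  have hdiff : ∀ χ : IrrCharacter G, ((m (r 0) χ : ℂ) - m (r 1) χ) =
      (ε : ℂ) * ((if χ = θ 0 then 1 else 0) - (if χ = θ 1 then 1 else 0)) := by
    intro χ
    have h0 := hstar 0 χ
    have h1 := hstar 1 χ
    simp only [hA] at h0 h1
    have : ((m (r 0) χ : ℤ) - m (r 1) χ) =
        ε * ((if χ = θ 0 then 1 else 0) - (if χ = θ 1 then 1 else 0)) := by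
      have e : ((m (r 0) χ : ℤ) - m (r 1) χ) =
          ((m (r 0) χ : ℤ) - m 0 χ) - ((m (r 1) χ : ℤ) - m 0 χ) := by ring
      rw [e, h0, h1]
      split_ifs <;> ring
    have := congrArg (Int.cast : ℤ → ℂ) this
    push_cast at this
    rw [this]
  have hθ01 : θ 0 ≠ θ 1 := fun hc => by have := hθinj hc; simp at this
  have hLHS : ∑ χ : IrrCharacter G, (χ : G → ℂ) (τ (p 0)) * (χ : G → ℂ) (τ (p 2)) *
      ((m (r 0) χ : ℂ) - m (r 1) χ) / (χ : G → ℂ) 1 =
      (ε : ℂ) * (((θ 0 : IrrCharacter G) : G → ℂ) (τ (p 0)) * ((θ 0 : IrrCharacter G) : G → ℂ) (τ (p 2))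
          / ((θ 0 : IrrCharacter G) : G → ℂ) 1
        - ((θ 1 : IrrCharacter G) : G → ℂ) (τ (p 0)) * ((θ 1 : IrrCharacter G) : G → ℂ) (τ (p 2))
          / ((θ 1 : IrrCharacter G) : G → ℂ) 1) := by
    have : ∀ χ : IrrCharacter G, (χ : G → ℂ) (τ (p 0)) * (χ : G → ℂ) (τ (p 2)) *
        ((m (r 0) χ : ℂ) - m (r 1) χ) / (χ : G → ℂ) 1 =
        (ε : ℂ) * ((if χ = θ 0 then (χ : G → ℂ) (τ (p 0)) * (χ : G → ℂ) (τ (p 2)) / (χ : G → ℂ) 1 else 0)
          - (if χ = θ 1 then (χ : G → ℂ) (τ (p 0)) * (χ : G → ℂ) (τ (p 2)) / (χ : G → ℂ) 1 else 0)) := by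
      intro χ
      rw [hdiff χ]
      split_ifs <;> ring
    rw [Finset.sum_congr rfl (fun χ _ => this χ), ← Finset.mul_sum, Finset.sum_sub_distrib,
      Finset.sum_ite_eq', Finset.sum_ite_eq']
    simp
  rw [hLHS, v00, v02, v10, v12] at htm
  have hθ1 : ∀ l, ((θ l : IrrCharacter G) : G → ℂ) 1 = (D : ℂ) := by
    intro l
    rw [Cfsg.Agent.Helper79.irr_one]
    have := hθD l
    simp only [hd] at this
    rw [this]
  rw [hθ1 0, hθ1 1] at htm
  have hDpos : 0 < D := by rw [← hθD 0]; exact hdpos _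
  have hgpos : 0 < Nat.card G := Nat.card_pos
  have hε2 : (ε : ℂ) * ε = 1 := by
    rcases hε with rfl | rfl <;> norm_num
  have hDne : (D : ℂ) ≠ 0 := by exact_mod_cast hDpos.ne'
  have hgne : (Nat.card G : ℂ) ≠ 0 := by exact_mod_cast hgpos.ne'
  -- ε * |G| = 27 * D
  have key : (ε : ℂ) * (Nat.card G : ℂ) = 27 * D := by
    field_simp at htm
    have e3 : (ε : ℂ) ^ 3 = ε := by
      have : (ε : ℂ) ^ 3 = (ε * ε) * ε := by ring
      rw [this, hε2, one_mul]
    linear_combination (-1 / 324 : ℂ) * htm - (Nat.card G : ℂ) * e3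
  have keyZ : ε * (Nat.card G : ℤ) = 27 * D := by exact_mod_cast key
  have hε1 : ε = 1 := by
    rcases hε with rfl | rfl
    · rfl
    · exfalso
      have : (0 : ℤ) < 27 * D := by positivity
      have h2 : (0 : ℤ) < (Nat.card G : ℤ) := by exact_mod_cast hgpos
      linarith
  rw [hε1, one_mul] at keyZ
  have hg27 : Nat.card G = 27 * D := by exact_mod_cast keyZ
  -- five characters of degree D
  have hsix := sum_six_le (f := fun χ : IrrCharacter G => d χ ^ 2) [o, θ 0, θ 1, θ 2, θ 3, θ 4]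
    (by
      have hne : ∀ i j : Fin 5, i ≠ j → θ i ≠ θ j := fun i j hij hc => hij (hθinj hc)
      simp only [List.nodup_cons, List.mem_cons, List.not_mem_nil, or_false, not_or,
        List.nodup_nil, and_true, not_false_eq_true]
      refine ⟨⟨(hθo 0).symm, (hθo 1).symm, (hθo 2).symm, (hθo 3).symm, (hθo 4).symm⟩,
        ⟨hne 0 1 (by decide), hne 0 2 (by decide), hne 0 3 (by decide), hne 0 4 (by decide)⟩,
        ⟨hne 1 2 (by decide), hne 1 3 (by decide), hne 1 4 (by decide)⟩,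
        ⟨hne 2 3 (by decide), hne 2 4 (by decide)⟩, hne 3 4 (by decide)⟩)
  have hsq : ∑ χ : IrrCharacter G, d χ ^ 2 = Nat.card G :=
    Cfsg.Agent.Helper79.sum_charDegree_sq
  rw [hsq] at hsix
  simp only [List.map_cons, List.map_nil, List.sum_cons, List.sum_nil, add_zero, hθD, hdo] at hsix
  -- 108 ∣ |G|
  have h108 : 108 ∣ Nat.card G := by
    rw [← (sylow_of_hcfg h).2]
    exact Subgroup.card_subgroup_dvd_card _
  rw [hg27] at hsix h108 ⊢
  have hD5 : D ≤ 5 := by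
    by_contra hcon
    push_neg at hcon
    nlinarith
  have h4 : 4 ∣ D := by
    have : 27 * 4 ∣ 27 * D := by simpa using h108
    exact Nat.dvd_of_mul_dvd_mul_left (by norm_num) this
  obtain ⟨k, rfl⟩ := h4
  have : k = 1 := by omega
  subst this
  rfl


theorem main {G : Type u} [Group G] [Finite G] (H : Subgroup G)
    (hH : Nonempty (↥H ≃* ↥(Subgroup.closure ({Equiv.swap (0 : Fin 9) 1 * Equiv.swap 1 2, Equiv.swap (3 : Fin 9) 4 * Equiv.swap 4 5, Equiv.swap (6 : Fin 9) 7 * Equiv.swap 7 8,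
        Equiv.swap (0 : Fin 9) 1 * Equiv.swap 3 4, Equiv.swap (0 : Fin 9) 1 * Equiv.swap 6 7} : Set (Equiv.Perm (Fin 9))))))
    (T : Subgroup G) (hTH : T ≤ H) (hT : Nat.card T = 27) (hN : Subgroup.normalizer (T : Set G) = H)
    (hC : ∀ t ∈ T, t ≠ 1 → Subgroup.centralizer ({t} : Set G) ≤ H) : H = ⊤ := by
  classical
  let _ : Fintype G := Fintype.ofFinite G
  obtain ⟨τ, a, b, h⟩ := exists_hcfg H hH T hTH hT hN
  have hloc : ∀ t ∈ T, t ≠ 1 →
      Subgroup.centralizer ({t} : Set G) ≤ Subgroup.normalizer (T : Set G) := by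
    intro t ht ht1; rw [hN]; exact hC t ht ht1
  have hG := card_eq_108 h hloc
  have hN108 := (sylow_of_hcfg h).2
  rw [hN] at hN108
  apply Subgroup.eq_top_of_card_eq
  rw [hN108, hG]

end Cfsg.Agent.Helper3.E27Main
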