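import Cfsg.Agent.Helper74.FSCount
import Cfsg.Agent.Helper78.IrrBasic

/-!
# Frobenius–Schur indicator `-1` forces even degree (helper3)

An irreducible representation with a nondegenerate invariant *alternating* form has even degree.
-/
set_option autoImplicit false
namespace Cfsg.Agent.Helper3.FSOdd
open Cfsg Cfsg.Agent
open scoped Matrix

universe u

theorem even_of_transpose_eq_neg {n : ℕ} {M : Matrix (Fin n) (Fin n) ℂ} (hu : IsUnit M)
    (hM : Mᵀ = -M) : Even n := by
  have hdet : IsUnit M.det := (Matrix.isUnit_iff_isUnit_det M).mp hu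
  have h1 : M.det = (-1 : ℂ) ^ n * M.det := by
    conv_lhs => rw [← Matrix.det_transpose, hM, Matrix.det_neg, Fintype.card_fin]
  have h2 : (-1 : ℂ) ^ n = 1 := by
    have hne : M.det ≠ 0 := hdet.ne_zero
    have : ((-1 : ℂ) ^ n - 1) * M.det = 0 := by rw [sub_mul, one_mul, ← h1, sub_self]
    rcases mul_eq_zero.mp this with h | h
    · exact sub_eq_zero.mp h
    · exact absurd h hne
  by_contra hodd
  rw [Nat.not_even_iff_odd] at hodd
  rw [hodd.neg_one_pow] at h2
  norm_num at h2

variable {G : Type u} [Group G] [Fintype G]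

theorem even_of_fsInd_eq_neg_one {n : ℕ} (ρ : Representation ℂ G (Fin n → ℂ))
    (hρ : ρ.IsIrreducible) (h : Helper74.fsInd ρ = -1) : Even n := by
  have hreal : ∀ g : G, (ρ.character g).im = 0 := by
    rcases Helper74.fsInd_cases hρ with h0 | ⟨_, hr⟩
    · rw [h0] at h; norm_num at h
    · exact hr
  obtain ⟨M, hM0, hM⟩ := Helper74.exists_isInvForm_of_real hρ hreal
  have hu := hM.isUnit hρ hM0
  obtain ⟨c, hc⟩ := hM.eq_smul hρ hu hM.transpose
  have hfs := Helper74.fsInd_eq_of_transpose hρ hM hu hc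
  rw [h] at hfs
  apply even_of_transpose_eq_neg hu
  rw [hc, ← hfs, neg_smul, one_smul]

/-- An irreducible character with Frobenius–Schur indicator `-1` has even degree. -/
theorem even_charDegree_of_fsIndF_eq_neg_one (χ : IrrCharacter G)
    (h : Helper74.fsIndF (χ : G → ℂ) = -1) : Even (charDegree (χ : G → ℂ)) := by
  obtain ⟨n, ρ, hρ, hχ⟩ := χ.2
  rw [← hχ, Helper74.fsIndF_character] at h
  rw [← hχ, Helper78.charDegree_character]
  exact even_of_fsInd_eq_neg_one ρ hρ h

end Cfsg.Agent.Helper3.FSOdd
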