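import Mathlib
import Cfsg.Prelude.Def_Characters

/-!
# Double sums over pairs of involutions, grouped by the involution of `⟨u * v⟩`  (helper3)

Generic counting lemma (P5 of helper79's route to S4482).
-/

set_option autoImplicit false

namespace Cfsg.Agent.Helper3.InvPairs

open Finset

section Cyclic

variable {G : Type*} [Group G]

/-- The only involution of a finite cyclic group `⟨w⟩` of even order is `w ^ (|w| / 2)`. -/
theorem eq_pow_half_of_mem_zpowers [Finite G] {w z : G} (hn : Even (orderOf w))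
    (hz : orderOf z = 2) (hmem : z ∈ Subgroup.zpowers w) : z = w ^ (orderOf w / 2) := by
  rw [← mem_powers_iff_mem_zpowers, Submonoid.mem_powers_iff] at hmem
  obtain ⟨k, rfl⟩ := hmem
  obtain ⟨m, hm⟩ := hn
  have hmpos : 0 < m := by have := orderOf_pos w; omega
  have h2 : (w ^ k) ^ 2 = 1 := by rw [← hz]; exact pow_orderOf_eq_one _
  have h1 : w ^ k ≠ 1 := by
    intro h
    rw [h, orderOf_one] at hz; omega
  rw [← pow_mul, ← orderOf_dvd_iff_pow_eq_one] at h2
  have h1' : ¬ orderOf w ∣ k := by rwa [orderOf_dvd_iff_pow_eq_one]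
  have hhalf : orderOf w / 2 = m := by omega
  rw [hhalf]
  have hmk : m ∣ k := by
    rw [hm] at h2
    have : m * 2 ∣ k * 2 := by rw [show m * 2 = m + m by ring]; exact h2
    exact Nat.dvd_of_mul_dvd_mul_right (by norm_num) this
  obtain ⟨j, rfl⟩ := hmk
  rcases Nat.even_or_odd j with ⟨i, hi⟩ | ⟨i, hi⟩
  · exfalso; apply h1'
    rw [hm, hi]; exact ⟨i, by ring⟩
  · rw [hi, show m * (2 * i + 1) = orderOf w * i + m by rw [hm]; ring, pow_add, pow_mul,
      pow_orderOf_eq_one, one_pow, one_mul]

/-- `w ^ (|w| / 2)` is an involution when `|w|` is even (finite group). -/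
theorem orderOf_pow_half [Finite G] {w : G} (hn : Even (orderOf w)) :
    orderOf (w ^ (orderOf w / 2)) = 2 := by
  obtain ⟨m, hm⟩ := hn
  have hmpos : 0 < m := by have := orderOf_pos w; omega
  have hhalf : orderOf w / 2 = m := by omega
  rw [hhalf, orderOf_pow_of_dvd hmpos.ne' ⟨2, by omega⟩, hm]
  have : m + m = 2 * m := by ring
  rw [this, Nat.mul_div_cancel _ hmpos]

end Cyclic

/-- **P5.** If all involutions of `G` are conjugate to `J` and the class function `Psi` vanishes
on elements of odd order, the sum of `Psi (u * v)` over pairs of involutions is `|Inv|` times the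
partial sum over the pairs with `J ∈ ⟨u * v⟩`. -/
theorem sum_pairs_involutions {G : Type*} [Group G] [Fintype G] [DecidableEq G] (J : G)
    (hJ : orderOf J = 2) (hone : ∀ u : G, orderOf u = 2 → IsConj J u) (Psi : G → ℂ)
    (hcl : Cfsg.IsClassFunction G Psi) (hodd : ∀ g : G, Odd (orderOf g) → Psi g = 0) :
    let Inv := Finset.univ.filter (fun u : G => orderOf u = 2)
    ∑ u ∈ Inv, ∑ v ∈ Inv, Psi (u * v) =
      (Inv.card : ℂ) * ∑ u ∈ Inv, ∑ v ∈ Inv,
        (if J ∈ Subgroup.zpowers (u * v) then Psi (u * v) else 0) := by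
  intro Inv
  have hInv : ∀ u : G, u ∈ Inv ↔ orderOf u = 2 := fun u => by
    simp only [Inv, Finset.mem_filter, Finset.mem_univ, true_and]
  set f : G → G → ℂ := fun z w => if z ∈ Subgroup.zpowers w then Psi w else 0 with hf
  -- each `w` contributes to exactly one involution
  have key1 : ∀ w : G, ∑ z ∈ Inv, f z w = Psi w := by
    intro w
    rcases Nat.even_or_odd (orderOf w) with hev | hod
    · have hz0 : w ^ (orderOf w / 2) ∈ Inv := (hInv _).2 (orderOf_pow_half hev)
      have : ∀ z ∈ Inv, f z w = if z = w ^ (orderOf w / 2) then Psi w else 0 := by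
        intro z hz
        have hz2 := (hInv z).1 hz
        simp only [hf]
        by_cases hzw : z ∈ Subgroup.zpowers w
        · rw [if_pos hzw, if_pos (eq_pow_half_of_mem_zpowers hev hz2 hzw)]
        · rw [if_neg hzw, if_neg]
          intro h
          apply hzw
          rw [h]
          exact Subgroup.npow_mem_zpowers w _
      rw [Finset.sum_congr rfl this, Finset.sum_ite_eq' Inv (w ^ (orderOf w / 2)), if_pos hz0]
    · rw [hodd w hod]
      apply Finset.sum_eq_zero
      intro z _
      simp only [hf, hodd w hod, ite_self]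
  -- conjugation invariance of the partial sums
  have key2 : ∀ z ∈ Inv, ∑ u ∈ Inv, ∑ v ∈ Inv, f z (u * v) = ∑ u ∈ Inv, ∑ v ∈ Inv, f J (u * v) := by
    intro z hz
    obtain ⟨g, hg⟩ := isConj_iff.1 (hone z ((hInv z).1 hz))
    have hmemInv : ∀ u : G, u ∈ Inv ↔ (MulAut.conj g).toEquiv u ∈ Inv := by
      intro u
      rw [hInv, hInv]
      change orderOf u = 2 ↔ orderOf (MulAut.conj g u) = 2
      rw [MulEquiv.orderOf_eq]
    have hfconj : ∀ w : G, f J w = f z (g * w * g⁻¹) := by
      intro w
      simp only [hf]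
      have hiff : z ∈ Subgroup.zpowers (g * w * g⁻¹) ↔ J ∈ Subgroup.zpowers w := by
        have h1 : Subgroup.zpowers (g * w * g⁻¹) =
            (Subgroup.zpowers w).map (MulAut.conj g).toMonoidHom := by
          rw [MonoidHom.map_zpowers]
          rfl
        rw [h1, ← hg]
        exact Subgroup.mem_map_iff_mem (f := (MulAut.conj g).toMonoidHom)
          (MulAut.conj g).injective
      rw [hcl w g]
      by_cases h : J ∈ Subgroup.zpowers w
      · rw [if_pos h, if_pos (hiff.2 h)]
      · rw [if_neg h, if_neg (fun h' => h (hiff.1 h'))]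
    symm
    refine Finset.sum_equiv (MulAut.conj g).toEquiv (fun u => hmemInv u) ?_
    intro u _
    refine Finset.sum_equiv (MulAut.conj g).toEquiv (fun v => hmemInv v) ?_
    intro v _
    rw [hfconj (u * v)]
    congr 1
    change g * (u * v) * g⁻¹ = (g * u * g⁻¹) * (g * v * g⁻¹)
    group
  calc ∑ u ∈ Inv, ∑ v ∈ Inv, Psi (u * v)
      = ∑ u ∈ Inv, ∑ v ∈ Inv, ∑ z ∈ Inv, f z (u * v) := by
        refine Finset.sum_congr rfl fun u _ => Finset.sum_congr rfl fun v _ => ?_
        rw [key1]
    _ = ∑ z ∈ Inv, ∑ u ∈ Inv, ∑ v ∈ Inv, f z (u * v) := by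
        have : ∀ u ∈ Inv, ∑ v ∈ Inv, ∑ z ∈ Inv, f z (u * v) = ∑ z ∈ Inv, ∑ v ∈ Inv, f z (u * v) :=
          fun u _ => Finset.sum_comm
        rw [Finset.sum_congr rfl this, Finset.sum_comm]
    _ = ∑ z ∈ Inv, ∑ u ∈ Inv, ∑ v ∈ Inv, f J (u * v) := Finset.sum_congr rfl key2
    _ = (Inv.card : ℂ) * ∑ u ∈ Inv, ∑ v ∈ Inv, f J (u * v) := by
        rw [Finset.sum_const, nsmul_eq_mul]

end Cfsg.Agent.Helper3.InvPairs
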