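import Cfsg.Agent.Helper76.KleinFourPrincipal
import Cfsg.Agent.Helper74.FSCount
import Cfsg.Agent.Helper81.FSIrr
import Cfsg.Agent.Helper79.PrincipalQuot
import Cfsg.Agent.Helper79.ClassMult
import Cfsg.Agent.Helper78.IrrBasic
import Cfsg.Agent.Helper3.FSOdd
import Cfsg.Agent.Helper16.BlockPart
import Cfsg.Agent.Lib.BurnsidePQ

/-!
# Groups of order `4 g₀` without normal 2-complement: Sylow structure and the Frobenius–Schur
relation in the principal 2-block (helper3)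
-/
set_option autoImplicit false
namespace Cfsg.Agent.Helper3.KleinOrder
open Cfsg Cfsg.Agent
open scoped ComplexConjugate

section Sylow
variable {G : Type*} [Group G] [Finite G]

theorem factorization_two_four_mul_odd (g₀ : ℕ) (hg₀ : Odd g₀) :
    (4 * g₀).factorization 2 = 2 := by
  have h4 : (4 : ℕ) = 2 ^ 2 := by norm_num
  have h0 : g₀.factorization 2 = 0 := by
    apply Nat.factorization_eq_zero_of_not_dvd
    intro h
    exact (Nat.not_even_iff_odd.2 hg₀) (even_iff_two_dvd.2 h)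
  rw [Nat.factorization_mul (by norm_num) hg₀.pos.ne', h4,
    Nat.Prime.factorization_pow Nat.prime_two]
  simp [h0]

/-- A Sylow 2-subgroup of a group of order `4 g₀`, `g₀` odd, has order 4. -/
theorem card_sylow_four (g₀ : ℕ) (hg₀ : Odd g₀) (hG : Nat.card G = 4 * g₀) (P : Sylow 2 G) :
    Nat.card P = 4 := by
  haveI : Fact (Nat.Prime 2) := ⟨Nat.prime_two⟩
  rw [Sylow.card_eq_multiplicity, hG, factorization_two_four_mul_odd g₀ hg₀]
  norm_num

/-- In a group of order `4 g₀` (`g₀` odd) without a normal subgroup of order `g₀`, the Sylow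
2-subgroups have exponent 2 (they are not cyclic, by Burnside's transfer theorem). -/
theorem sylow_exp_two_of_no_normal_complement (g₀ : ℕ) (hg₀ : Odd g₀)
    (hG : Nat.card G = 4 * g₀) (hnc : ¬ ∃ N : Subgroup G, N.Normal ∧ Nat.card N = g₀)
    (P : Sylow 2 G) : ∀ x : P, x * x = 1 := by
  have hP := card_sylow_four g₀ hg₀ hG P
  by_contra hcon
  push Not at hcon
  obtain ⟨x, hx⟩ := hcon
  have hdvd : orderOf x ∣ 4 := by
    exact (orderOf_dvd_natCard x).trans (dvd_of_eq hP)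
  have h4 : orderOf x = 4 := by
    have hle : orderOf x ≤ 4 := Nat.le_of_dvd (by norm_num) hdvd
    have h1 : orderOf x ≠ 1 := by
      intro h
      rw [orderOf_eq_one_iff] at h
      apply hx
      rw [h, one_mul]
    have h2 : orderOf x ≠ 2 := by
      intro h
      apply hx
      have := pow_orderOf_eq_one x
      rwa [h, pow_two] at this
    have h0 : orderOf x ≠ 0 := (orderOf_pos x).ne'
    have h3 : orderOf x ≠ 3 := by
      intro h
      rw [h] at hdvd
      norm_num at hdvd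
    omega
  have hcyc : IsCyclic (P : Subgroup G) :=
    isCyclic_of_orderOf_eq_card x (by rw [h4]; exact hP.symm)
  have hmin : (Nat.card G).minFac = 2 := by
    rw [hG]
    exact (Nat.minFac_eq_two_iff _).2 ⟨2 * g₀, by ring⟩
  have hcomp := IsCyclic.isComplement' hmin hcyc
  apply hnc
  refine ⟨(MonoidHom.transferSylow P (hcyc.normalizer_le_centralizer hmin)).ker,
    MonoidHom.normal_ker _, ?_⟩
  have hmul := hcomp.card_mul_card
  rw [show Nat.card (P : Subgroup G) = 4 from hP, hG] at hmul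
  omega

end Sylow

section Sqrt
variable {G : Type*} [Group G] [Fintype G]

/-- If the Sylow 2-subgroups have exponent 2, no element whose 2-part is an involution is a
square. -/
theorem sqrtCount_eq_zero_of_section (P : Sylow 2 G) (hexp : ∀ x : P, x * x = 1) (J : G)
    (hJ2 : orderOf J = 2) (u z : G) (hp : IsPPart 2 u z) (hc : IsConj J z) :
    Helper74.sqrtCount u = 0 := by
  unfold Helper74.sqrtCount
  rw [Nat.cast_eq_zero, Nat.card_eq_zero]
  left
  constructor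
  rintro ⟨h, hh⟩
  obtain ⟨y, hzy, hcomm, _, hy⟩ := hp
  have hz2 : orderOf z = 2 := by
    obtain ⟨c, hc⟩ := isConj_iff.1 hc
    rw [← hc, ← hJ2]
    exact (MulAut.conj c).orderOf_eq J
  have hzz : z * z = 1 := by
    have := pow_orderOf_eq_one z
    rwa [hz2, pow_two] at this
  have hodd : Odd (orderOf y) := by
    rw [← Nat.not_even_iff_odd, even_iff_two_dvd]
    exact hy
  set w := h ^ orderOf y with hw
  have hww : w * w = z := by
    rw [hw, ← pow_add, ← two_mul, pow_mul, pow_two, hh, ← hzy, hcomm.mul_pow,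
      pow_orderOf_eq_one, mul_one]
    obtain ⟨m, hm⟩ := hodd
    rw [hm, pow_succ, pow_mul, pow_two, hzz, one_pow, one_mul]
  have hz1 : z ≠ 1 := by
    intro h1
    rw [h1, orderOf_one] at hz2
    norm_num at hz2
  have how : orderOf w = 2 ^ (1 + 1) := by
    apply orderOf_eq_prime_pow
    · rw [pow_one, pow_two, hww]
      exact hz1
    · show w ^ 2 ^ 2 = 1
      rw [show (2 : ℕ) ^ 2 = 2 * 2 by norm_num, pow_mul, pow_two w, hww, pow_two, hzz]
  have := Helper76.mul_self_eq_one_of_two_element P hexp w ⟨2, how⟩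
  rw [hww] at this
  exact hz1 this

end Sqrt


section Parity
variable {G : Type*} [Group G]

/-- The degree of a character and its value at an involution have the same parity. -/
theorem exists_degree_sub_involution {χ : G → ℂ} (hχ : IsCharacter G χ) (t : G)
    (ht : orderOf t = 2) : ∃ b : ℕ, χ 1 - χ t = 2 * (b : ℂ) := by
  obtain ⟨n, ρ, rfl⟩ := hχ
  have hfin : IsOfFinOrder t := orderOf_pos_iff.1 (by rw [ht]; norm_num)
  obtain ⟨μ, hμ, hk, _⟩ := Helper3.exists_roots_char_pow ρ t hfin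
  have h1 := hk 1
  have h0 := hk 0
  rw [pow_one] at h1
  rw [pow_zero] at h0
  rw [h0, h1, ← Finset.sum_sub_distrib]
  apply Finset.sum_induction (fun i => μ i ^ 0 - μ i ^ 1) (fun x : ℂ => ∃ b : ℕ, x = 2 * (b : ℂ))
  · rintro a b ⟨m, rfl⟩ ⟨k, rfl⟩
    exact ⟨m + k, by push_cast; ring⟩
  · exact ⟨0, by simp⟩
  · intro i _
    rw [pow_one, pow_zero]
    have h2 := hμ i
    rw [ht] at h2
    have h3 : (μ i - 1) * (μ i + 1) = 0 := by ring_nf; rw [h2]; ring
    rcases mul_eq_zero.1 h3 with h | h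
    · exact ⟨0, by rw [sub_eq_zero.1 h]; simp⟩
    · exact ⟨1, by rw [eq_neg_of_add_eq_zero_left h]; norm_num⟩

end Parity

section Block
variable {G : Type*} [Group G] [Fintype G] {M : Ideal AlgInt}

/-- Sum over the principal block, given its explicit enumeration. -/
theorem finsum_principalBlock_eq (χ₁ χ₂ χ₃ : IrrCharacter G)
    (hB : principalBlock M G = {χ : IrrCharacter G | (χ : G → ℂ) = (fun _ => 1) ∨ χ = χ₁ ∨
      χ = χ₂ ∨ χ = χ₃})
    (hdist : (χ₁ : G → ℂ) ≠ (fun _ => 1) ∧ (χ₂ : G → ℂ) ≠ (fun _ => 1) ∧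
      (χ₃ : G → ℂ) ≠ (fun _ => 1) ∧ χ₁ ≠ χ₂ ∧ χ₁ ≠ χ₃ ∧ χ₂ ≠ χ₃)
    (F : IrrCharacter G → ℂ) :
    ∑ᶠ χ ∈ principalBlock M G, F χ =
      F (Helper79.principalIrr G) + F χ₁ + F χ₂ + F χ₃ := by
  classical
  have hset : principalBlock M G =
      (({Helper79.principalIrr G, χ₁, χ₂, χ₃} : Finset (IrrCharacter G)) :
        Set (IrrCharacter G)) := by
    rw [hB]
    ext χ
    simp only [Set.mem_setOf_eq, Finset.coe_insert, Finset.coe_singleton, Set.mem_insert_iff,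
      Set.mem_singleton_iff]
    constructor
    · rintro (h | h | h | h)
      · left; exact Subtype.ext h
      · right; left; exact h
      · right; right; left; exact h
      · right; right; right; exact h
    · rintro (h | h | h | h)
      · left; rw [h]; rfl
      · right; left; exact h
      · right; right; left; exact h
      · right; right; right; exact h
  rw [hset, finsum_mem_coe_finset]
  have h1 : Helper79.principalIrr G ∉ ({χ₁, χ₂, χ₃} : Finset (IrrCharacter G)) := by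
    simp only [Finset.mem_insert, Finset.mem_singleton]
    rintro (h | h | h)
    · exact hdist.1 (by rw [← h]; rfl)
    · exact hdist.2.1 (by rw [← h]; rfl)
    · exact hdist.2.2.1 (by rw [← h]; rfl)
  have h2 : χ₁ ∉ ({χ₂, χ₃} : Finset (IrrCharacter G)) := by
    simp only [Finset.mem_insert, Finset.mem_singleton]
    rintro (h | h)
    · exact hdist.2.2.2.1 h
    · exact hdist.2.2.2.2.1 h
  rw [Finset.sum_insert h1, Finset.sum_insert h2, Finset.sum_pair hdist.2.2.2.2.2]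
  ring

/-- The degree equation `1 + ε₁x₁ + ε₂x₂ + ε₃x₃ = 0`. -/
theorem degree_equation (hM : IsPModular 2 M) (J : G) (hJ2 : orderOf J = 2)
    (χ₁ χ₂ χ₃ : IrrCharacter G) (ε₁ ε₂ ε₃ : ℤ)
    (hB : principalBlock M G = {χ : IrrCharacter G | (χ : G → ℂ) = (fun _ => 1) ∨ χ = χ₁ ∨
      χ = χ₂ ∨ χ = χ₃})
    (hdist : (χ₁ : G → ℂ) ≠ (fun _ => 1) ∧ (χ₂ : G → ℂ) ≠ (fun _ => 1) ∧
      (χ₃ : G → ℂ) ≠ (fun _ => 1) ∧ χ₁ ≠ χ₂ ∧ χ₁ ≠ χ₃ ∧ χ₂ ≠ χ₃)
    (hval : (χ₁ : G → ℂ) J = ε₁ ∧ (χ₂ : G → ℂ) J = ε₂ ∧ (χ₃ : G → ℂ) J = ε₃) :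
    1 + (charDegree (χ₁ : G → ℂ) : ℤ) * ε₁ + (charDegree (χ₂ : G → ℂ) : ℤ) * ε₂ +
      (charDegree (χ₃ : G → ℂ) : ℤ) * ε₃ = 0 := by
  have h := Helper76.principal_orthogonality_involution_odd (M := M) hM J hJ2 1
    (by rw [orderOf_one]; norm_num)
  rw [finsum_principalBlock_eq χ₁ χ₂ χ₃ hB hdist] at h
  rw [hval.1, hval.2.1, hval.2.2, ← Helper74.charDegree_cast (Helper74.irr_isCharacter χ₁),
    ← Helper74.charDegree_cast (Helper74.irr_isCharacter χ₂),
    ← Helper74.charDegree_cast (Helper74.irr_isCharacter χ₃)] at h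
  have h1 : ((Helper79.principalIrr G : IrrCharacter G) : G → ℂ) 1 = 1 := rfl
  have h2 : ((Helper79.principalIrr G : IrrCharacter G) : G → ℂ) J = 1 := rfl
  rw [h1, h2, one_mul] at h
  exact_mod_cast h

/-- The Frobenius–Schur relation in the principal block. -/
theorem fs_relation (hM : IsPModular 2 M) (P : Sylow 2 G) (hexp : ∀ x : P, x * x = 1) (J : G)
    (hJ2 : orderOf J = 2) (χ₁ χ₂ χ₃ : IrrCharacter G)
    (hB : principalBlock M G = {χ : IrrCharacter G | (χ : G → ℂ) = (fun _ => 1) ∨ χ = χ₁ ∨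
      χ = χ₂ ∨ χ = χ₃})
    (hdist : (χ₁ : G → ℂ) ≠ (fun _ => 1) ∧ (χ₂ : G → ℂ) ≠ (fun _ => 1) ∧
      (χ₃ : G → ℂ) ≠ (fun _ => 1) ∧ χ₁ ≠ χ₂ ∧ χ₁ ≠ χ₃ ∧ χ₂ ≠ χ₃) :
    1 + Helper74.fsIndF (χ₁ : G → ℂ) * (χ₁ : G → ℂ) J +
      Helper74.fsIndF (χ₂ : G → ℂ) * (χ₂ : G → ℂ) J +
      Helper74.fsIndF (χ₃ : G → ℂ) * (χ₃ : G → ℂ) J = 0 := by
  haveI : Fact (Nat.Prime 2) := ⟨Nat.prime_two⟩
  have h := (Cfsg.Agent.S0925.result 2 M hM).1 Helper74.sqrtCount
    Helper74.sqrtCount_isClassFunction J ⟨1, by rw [hJ2, pow_one]⟩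
    (fun u z hp hc => sqrtCount_eq_zero_of_section P hexp J hJ2 u z hp hc)
    (principalBlock M G) (Helper78.isPBlock_principalBlock M G) J J
    ⟨1, mul_one J, Commute.one_right J, ⟨1, by rw [hJ2, pow_one]⟩,
      by rw [orderOf_one]; norm_num⟩ (IsConj.refl J)
  rw [Helper16.blockPart_apply, finsum_principalBlock_eq χ₁ χ₂ χ₃ hB hdist] at h
  simp only [Helper74.classInner_sqrtCount] at h
  have h1 : Helper74.fsIndF ((Helper79.principalIrr G : IrrCharacter G) : G → ℂ) = 1 := by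
    show (Nat.card G : ℂ)⁻¹ * ∑ g : G, (1 : ℂ) = 1
    rw [Finset.sum_const, Finset.card_univ, nsmul_eq_mul, mul_one, ← Nat.card_eq_fintype_card,
      inv_mul_cancel₀]
    exact_mod_cast Nat.card_pos.ne'
  have h2 : ((Helper79.principalIrr G : IrrCharacter G) : G → ℂ) J = 1 := rfl
  rw [h1, h2, one_mul] at h
  exact h

/-- The principal block is closed under complex conjugation. -/
theorem irrConj_mem_principalBlock (χ : IrrCharacter G) (h : χ ∈ principalBlock M G) :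
    Helper74.irrConj χ ∈ principalBlock M G := by
  obtain ⟨k, hk⟩ : ∃ k, Nat.card G = k + 1 := ⟨Nat.card G - 1, by
    have : 0 < Nat.card G := Nat.card_pos
    omega⟩
  have hcop : k.Coprime (Nat.card G) := by
    rw [hk]; simp
  have := Helper79.irrPow_mem_principalBlock k hcop χ h
  have heq : Helper79.irrPow k hcop χ = Helper74.irrConj χ := by
    apply Subtype.ext
    funext g
    rw [Helper74.irrConj_apply, Helper79.irrPow_apply, ← Helper79.irr_inv]
    have hgk : g ^ k = g⁻¹ := by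
      apply eq_inv_of_mul_eq_one_left
      rw [← pow_succ, ← hk, pow_card_eq_one']
    rw [hgk]
  rwa [heq] at this


/-- An irreducible character of odd degree has Frobenius–Schur indicator `0` or `1`, and `0`
exactly when it is not real-valued. -/
theorem fsIndF_of_odd (χ : IrrCharacter G) (hodd : Odd (charDegree (χ : G → ℂ))) :
    (Helper74.fsIndF (χ : G → ℂ) = 0 ∧ Helper74.irrConj χ ≠ χ) ∨
      (Helper74.fsIndF (χ : G → ℂ) = 1 ∧ Helper74.irrConj χ = χ) := by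
  rcases Helper74.fsIndF_cases χ with h | ⟨h | h, hr⟩
  · left
    refine ⟨h, ?_⟩
    intro hc
    rw [Helper74.irrConj_eq_self_iff] at hc
    have := (Helper81.fsInd_ne_zero_iff χ.2).2 hc
    exact this h
  · right
    exact ⟨h, (Helper74.irrConj_eq_self_iff χ).2 hr⟩
  · exfalso
    have := FSOdd.even_charDegree_of_fsIndF_eq_neg_one χ h
    exact (Nat.not_even_iff_odd.2 hodd) this

/-- Odd degree from value `±1` at an involution. -/
theorem odd_charDegree_of_involution_value (χ : IrrCharacter G) (J : G) (hJ2 : orderOf J = 2)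
    (ε : ℤ) (hε : ε = 1 ∨ ε = -1) (hv : (χ : G → ℂ) J = ε) : Odd (charDegree (χ : G → ℂ)) := by
  obtain ⟨b, hb⟩ := exists_degree_sub_involution (Helper74.irr_isCharacter χ) J hJ2
  rw [hv, ← Helper74.charDegree_cast (Helper74.irr_isCharacter χ)] at hb
  have h1 : (charDegree (χ : G → ℂ) : ℤ) - ε = 2 * (b : ℤ) := by exact_mod_cast hb
  rcases hε with h | h
  · rw [h] at h1
    exact ⟨b, by omega⟩
  · rw [h] at h1
    have hpos : 0 < charDegree (χ : G → ℂ) := Helper78.charDegree_pos_of_isIrrCharacter χ.2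
    exact ⟨b - 1, by omega⟩

/-- The shape of the principal block in the `PSL₂(q)`, `q ≡ 3 (mod 8)` case. -/
theorem psl_shape_degrees (hM : IsPModular 2 M) (P : Sylow 2 G) (hexp : ∀ x : P, x * x = 1)
    (J : G) (hJ2 : orderOf J = 2) (χ₁ χ₂ χ₃ : IrrCharacter G) (ε₁ ε₂ ε₃ : ℤ)
    (hB : principalBlock M G = {χ : IrrCharacter G | (χ : G → ℂ) = (fun _ => 1) ∨ χ = χ₁ ∨
      χ = χ₂ ∨ χ = χ₃})
    (hdist : (χ₁ : G → ℂ) ≠ (fun _ => 1) ∧ (χ₂ : G → ℂ) ≠ (fun _ => 1) ∧
      (χ₃ : G → ℂ) ≠ (fun _ => 1) ∧ χ₁ ≠ χ₂ ∧ χ₁ ≠ χ₃ ∧ χ₂ ≠ χ₃)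
    (hε : (ε₁ = 1 ∨ ε₁ = -1) ∧ (ε₂ = 1 ∨ ε₂ = -1) ∧ (ε₃ = 1 ∨ ε₃ = -1))
    (hval : (χ₁ : G → ℂ) J = ε₁ ∧ (χ₂ : G → ℂ) J = ε₂ ∧ (χ₃ : G → ℂ) J = ε₃)
    (hprod : ε₁ * ε₂ * ε₃ = -1) (hε₃ : ε₃ = -1) :
    ε₁ = 1 ∧ ε₂ = 1 ∧ charDegree (χ₂ : G → ℂ) = charDegree (χ₁ : G → ℂ) ∧
      charDegree (χ₃ : G → ℂ) = 2 * charDegree (χ₁ : G → ℂ) + 1 := by
  have hdeg := degree_equation hM J hJ2 χ₁ χ₂ χ₃ ε₁ ε₂ ε₃ hB hdist hval
  have hp1 : 0 < charDegree (χ₁ : G → ℂ) := Helper78.charDegree_pos_of_isIrrCharacter χ₁.2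
  have hp2 : 0 < charDegree (χ₂ : G → ℂ) := Helper78.charDegree_pos_of_isIrrCharacter χ₂.2
  have hp3 : 0 < charDegree (χ₃ : G → ℂ) := Helper78.charDegree_pos_of_isIrrCharacter χ₃.2
  -- signs
  have hsign : ε₁ = 1 ∧ ε₂ = 1 := by
    subst hε₃
    rcases hε.1 with h1 | h1 <;> rcases hε.2.1 with h2 | h2 <;> subst h1 <;> subst h2
    · exact ⟨rfl, rfl⟩
    · norm_num at hprod
    · norm_num at hprod
    · exfalso
      have : (1 : ℤ) ≤ charDegree (χ₁ : G → ℂ) := by exact_mod_cast hp1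
      have : (1 : ℤ) ≤ charDegree (χ₂ : G → ℂ) := by exact_mod_cast hp2
      have : (1 : ℤ) ≤ charDegree (χ₃ : G → ℂ) := by exact_mod_cast hp3
      linarith
  obtain ⟨he1, he2⟩ := hsign
  subst he1 he2 hε₃
  have hx3 : charDegree (χ₃ : G → ℂ) = 1 + charDegree (χ₁ : G → ℂ) + charDegree (χ₂ : G → ℂ) := by
    have : (charDegree (χ₃ : G → ℂ) : ℤ) =
        1 + (charDegree (χ₁ : G → ℂ) : ℤ) + (charDegree (χ₂ : G → ℂ) : ℤ) := by linarith
    exact_mod_cast this
  -- the Frobenius–Schur relation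
  have hfs := fs_relation hM P hexp J hJ2 χ₁ χ₂ χ₃ hB hdist
  rw [hval.1, hval.2.1, hval.2.2] at hfs
  have ho1 := odd_charDegree_of_involution_value χ₁ J hJ2 1 (Or.inl rfl) hval.1
  have ho2 := odd_charDegree_of_involution_value χ₂ J hJ2 1 (Or.inl rfl) hval.2.1
  have ho3 := odd_charDegree_of_involution_value χ₃ J hJ2 (-1) (Or.inr rfl) hval.2.2
  -- membership of conjugates
  have hmem : ∀ χ : IrrCharacter G, χ ∈ principalBlock M G ↔
      ((χ : G → ℂ) = (fun _ => 1) ∨ χ = χ₁ ∨ χ = χ₂ ∨ χ = χ₃) := by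
    intro χ; rw [hB]; rfl
  -- χ₃ is real
  have hreal3 : Helper74.irrConj χ₃ = χ₃ := by
    have hin := irrConj_mem_principalBlock (M := M) χ₃ ((hmem χ₃).2 (Or.inr (Or.inr (Or.inr rfl))))
    have hvJ : (Helper74.irrConj χ₃ : G → ℂ) J = -1 := by
      rw [Helper74.irrConj_apply, hval.2.2]; simp
    rcases (hmem _).1 hin with h | h | h | h
    · rw [h] at hvJ; norm_num at hvJ
    · rw [h, hval.1] at hvJ; norm_num at hvJ
    · rw [h, hval.2.1] at hvJ; norm_num at hvJ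
    · exact h
  have hν3 : Helper74.fsIndF (χ₃ : G → ℂ) = 1 := by
    rcases fsIndF_of_odd χ₃ ho3 with ⟨_, h⟩ | ⟨h, _⟩
    · exact absurd hreal3 h
    · exact h
  rw [hν3] at hfs
  have hν12 : Helper74.fsIndF (χ₁ : G → ℂ) = 0 ∧ Helper74.irrConj χ₁ ≠ χ₁ := by
    rcases fsIndF_of_odd χ₁ ho1 with h | ⟨h, _⟩
    · exact h
    · exfalso
      rw [h] at hfs
      rcases fsIndF_of_odd χ₂ ho2 with ⟨h2, _⟩ | ⟨h2, _⟩
      · rw [h2] at hfs; norm_num at hfs
      · rw [h2] at hfs; norm_num at hfs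
  -- conj χ₁ = χ₂
  have hconj : Helper74.irrConj χ₁ = χ₂ := by
    have hin := irrConj_mem_principalBlock (M := M) χ₁ ((hmem χ₁).2 (Or.inr (Or.inl rfl)))
    have hvJ : (Helper74.irrConj χ₁ : G → ℂ) J = 1 := by
      rw [Helper74.irrConj_apply, hval.1]; simp
    rcases (hmem _).1 hin with h | h | h | h
    · exfalso
      apply hdist.1
      funext g
      have := congrFun h g
      rw [Helper74.irrConj_apply] at this
      have h2 := congrArg (starRingEnd ℂ) this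
      rw [Complex.conj_conj] at h2
      rw [h2]; simp
    · exact absurd h hν12.2
    · exact h
    · rw [h, hval.2.2] at hvJ; norm_num at hvJ
  have hx2 : charDegree (χ₂ : G → ℂ) = charDegree (χ₁ : G → ℂ) := by
    rw [← hconj]
    unfold charDegree
    rw [Helper74.irrConj_apply, Complex.conj_re]
  refine ⟨rfl, rfl, hx2, ?_⟩
  rw [hx3, hx2]; ring


/-- Central character integrality: if `χ(J) = 1` then `χ(1)` divides the class size of `J`. -/
theorem charDegree_dvd_index_centralizer (χ : IrrCharacter G) (J : G)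
    (hv : (χ : G → ℂ) J = 1) :
    charDegree (χ : G → ℂ) ∣ (Subgroup.centralizer ({J} : Set G)).index := by
  have h := Helper78.isIntegral_centralChar χ.2 J
  unfold centralChar at h
  rw [hv, mul_one, ← Helper74.charDegree_cast (Helper74.irr_isCharacter χ)] at h
  exact Lib.dvd_of_isIntegral_natDiv (Helper78.charDegree_pos_of_isIrrCharacter χ.2).ne' h

end Block

/-- The arithmetic behind the order formula. -/
theorem order_arith (x1 x2 x3 : ℕ) (e1 e2 e3 : ℤ) (cJ cP N k : ℕ)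
    (h1 : e1 = 1) (h2 : e2 = 1) (h3 : e3 = -1) (hx2 : x2 = x1) (hx3 : x3 = 2 * x1 + 1)
    (ha : 0 < x1) (hcP : 0 < cP) (hdvd : cP ∣ cJ) (hcJ : 0 < cJ)
    (hN : N = cJ * k) (hak : x1 ∣ k)
    (hform : (N : ℚ) = 8 * (((x1 : ℚ) * x2 * x3) / (((x1 : ℚ) + e1) * ((x2 : ℚ) + e2) *
      ((x3 : ℚ) + e3))) * (cJ : ℚ) ^ 3 / (cP : ℚ) ^ 2) :
    ∃ m : ℕ, 4 * cJ = m * cP * (x3 + 1) ∧ 8 * N = m ^ 3 * cP * (x3 ^ 3 - x3) := by
  subst h1 h2 h3 hx3
  rw [hx2] at hform
  clear hx2 x2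
  rename' x1 => a
  push_cast at hform
  have e : ((2 : ℚ) * a + 1) + (-1) = 2 * a := by ring
  rw [e] at hform
  have haq : (a : ℚ) ≠ 0 := by exact_mod_cast ha.ne'
  have ha1 : (a : ℚ) + 1 ≠ 0 := by positivity
  have hcPq : (cP : ℚ) ≠ 0 := by exact_mod_cast hcP.ne'
  have key : (N : ℚ) * (((a : ℚ) + 1) ^ 2 * (cP : ℚ) ^ 2) = 4 * a * (2 * a + 1) * (cJ : ℚ) ^ 3 := by
    rw [hform]; field_simp; ring
  have keyN : N * ((a + 1) ^ 2 * cP ^ 2) = 4 * a * (2 * a + 1) * cJ ^ 3 := by exact_mod_cast key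
  obtain ⟨r, hr⟩ := hdvd
  obtain ⟨t, ht⟩ := hak
  have hrpos : 0 < r := by
    rcases Nat.eq_zero_or_pos r with h | h
    · rw [h, mul_zero] at hr; omega
    · exact h
  have h5 : t * (a + 1) ^ 2 = (2 * a + 1) * (2 * r) ^ 2 := by
    have hpos : 0 < a * cP ^ 3 * r := by positivity
    apply Nat.eq_of_mul_eq_mul_left hpos
    rw [hN, ht, hr] at keyN
    linear_combination keyN
  have hcop : Nat.Coprime ((a + 1) ^ 2) (2 * a + 1) := by
    apply Nat.Coprime.pow_left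
    have : 2 * a + 1 = a + (a + 1) := by ring
    rw [this, Nat.coprime_add_self_right]
    simp
  have h6 : (a + 1) ^ 2 ∣ (2 * r) ^ 2 := by
    apply hcop.dvd_of_dvd_mul_left
    exact ⟨t, by rw [← h5]; ring⟩
  have h7 : (a + 1) ∣ 2 * r := (Nat.pow_dvd_pow_iff two_ne_zero).1 h6
  obtain ⟨m, hm⟩ := h7
  refine ⟨m, ?_, ?_⟩
  · rw [hr]
    linear_combination (2 * cP) * hm
  · have hq3 : (2 * a + 1) ^ 3 - (2 * a + 1) = (2 * a + 1) * (2 * a) * (2 * a + 2) := by
      apply Nat.sub_eq_of_eq_add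
      ring
    rw [hq3]
    have hpos : 0 < (a + 1) ^ 2 * cP ^ 2 := by positivity
    apply Nat.eq_of_mul_eq_mul_left hpos
    have h8 : 2 * cJ = cP * (a + 1) * m := by rw [hr]; linear_combination cP * hm
    have h9 : 8 * cJ ^ 3 = (cP * (a + 1) * m) ^ 3 := by rw [← h8]; ring
    linear_combination 8 * keyN + (4 * a * (2 * a + 1)) * h9

end Cfsg.Agent.Helper3.KleinOrder
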