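import Mathlib
import Cfsg.Prelude.Def_Characters
import Cfsg.Agent.Helper3.Subrep
import Cfsg.Agent.Helper3.Transport
import Cfsg.Agent.Helper3.EquivOfChar
import Cfsg.Agent.Helper74.CharBasic

/-!
# Characters of representations over a subfield `K` of `ℂ` (helper3)

`IsKChar K G χ`: `χ` is (the image in `ℂ` of) the character of a representation of `G` on
`Fin n → K`.  Such characters are complex characters, are closed under sums, and decompose into
`K`-irreducible characters; `K`-irreducible characters are pairwise orthogonal.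
-/

set_option autoImplicit false
set_option linter.unusedSectionVars false

namespace Cfsg.Agent.Helper3

open Cfsg Module Representation

universe u

section Defs

variable (K : Subfield ℂ) (G : Type u) [Group G]

/-- `χ` is the character of a representation over the subfield `K`. -/
def IsKChar (χ : G → ℂ) : Prop :=
  ∃ (n : ℕ) (ρ : Representation K G (Fin n → K)), ∀ g, χ g = ((ρ.character g : K) : ℂ)

/-- `χ` is the character of an irreducible representation over the subfield `K`. -/
def IsKIrrChar (χ : G → ℂ) : Prop :=
  ∃ (n : ℕ) (ρ : Representation K G (Fin n → K)), ρ.IsIrreducible ∧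
    ∀ g, χ g = ((ρ.character g : K) : ℂ)

end Defs

section Basic

variable {K : Subfield ℂ} {G : Type u} [Group G]

theorem IsKIrrChar.isKChar {χ : G → ℂ} (h : IsKIrrChar K G χ) : IsKChar K G χ := by
  obtain ⟨n, ρ, -, hρ⟩ := h
  exact ⟨n, ρ, hρ⟩

/-- The character of any finite-dimensional `K`-representation is a `K`-character. -/
theorem isKChar_of_rep {W : Type*} [AddCommGroup W] [Module K W] [FiniteDimensional K W]
    (ρ : Representation K G W) : IsKChar K G (fun g => ((ρ.character g : K) : ℂ)) := by
  let e : W ≃ₗ[K] (Fin (finrank K W) → K) := (finBasis K W).equivFun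
  exact ⟨finrank K W, transportRep e ρ, fun g => by rw [char_iso (transportEquiv e ρ)]⟩

theorem isKIrrChar_of_rep {W : Type*} [AddCommGroup W] [Module K W] [FiniteDimensional K W]
    (ρ : Representation K G W) [ρ.IsIrreducible] :
    IsKIrrChar K G (fun g => ((ρ.character g : K) : ℂ)) := by
  let e : W ≃ₗ[K] (Fin (finrank K W) → K) := (finBasis K W).equivFun
  exact ⟨finrank K W, transportRep e ρ, isIrreducible_of_equiv (transportEquiv e ρ),
    fun g => by rw [char_iso (transportEquiv e ρ)]⟩

/-- Base change of a matrix representation over `K` to `ℂ`. -/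
noncomputable def baseChangeRep {n : ℕ} (ρ : Representation K G (Fin n → K)) :
    Representation ℂ G (Fin n → ℂ) where
  toFun g := Matrix.toLin' ((LinearMap.toMatrix' (ρ g)).map (algebraMap K ℂ))
  map_one' := by
    rw [map_one]
    have : LinearMap.toMatrix' (1 : (Fin n → K) →ₗ[K] (Fin n → K)) = 1 :=
      LinearMap.toMatrix'_one
    rw [this, Matrix.map_one _ (map_zero _) (map_one _), Matrix.toLin'_one]
    rfl
  map_mul' g h := by
    rw [map_mul, LinearMap.toMatrix'_mul, Matrix.map_mul, Matrix.toLin'_mul]
    rfl

theorem toMatrix'_baseChangeRep {n : ℕ} (ρ : Representation K G (Fin n → K)) (g : G)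
    (i j : Fin n) :
    LinearMap.toMatrix' (baseChangeRep ρ g) i j =
      ((LinearMap.toMatrix' (ρ g) i j : K) : ℂ) := by
  unfold baseChangeRep
  simp only [MonoidHom.coe_mk, OneHom.coe_mk, LinearMap.toMatrix'_toLin', Matrix.map_apply]
  rfl

theorem baseChangeRep_character {n : ℕ} (ρ : Representation K G (Fin n → K)) (g : G) :
    (baseChangeRep ρ).character g = ((ρ.character g : K) : ℂ) := by
  unfold Representation.character baseChangeRep
  simp only [MonoidHom.coe_mk, OneHom.coe_mk, Matrix.trace_toLin'_eq]
  rw [LinearMap.trace_eq_matrix_trace K (Pi.basisFun K (Fin n)) (ρ g),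
    LinearMap.toMatrix_eq_toMatrix']
  unfold Matrix.trace
  simp only [Matrix.diag_apply, Matrix.map_apply]
  exact (map_sum (algebraMap K ℂ) _ _).symm

/-- `K`-characters are complex characters. -/
theorem IsKChar.isCharacter {χ : G → ℂ} (h : IsKChar K G χ) : IsCharacter G χ := by
  obtain ⟨n, ρ, hρ⟩ := h
  refine ⟨n, baseChangeRep ρ, ?_⟩
  funext g
  rw [baseChangeRep_character, hρ]

theorem isKChar_zero : IsKChar K G (0 : G → ℂ) := by
  refine ⟨0, 1, fun g => ?_⟩
  have h0 : (1 : Representation K G (Fin 0 → K)).character g = 0 := by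
    unfold Representation.character
    rw [LinearMap.trace_eq_matrix_trace K (Pi.basisFun K (Fin 0))]
    simp [Matrix.trace]
  rw [h0]; simp

theorem IsKChar.add {χ ψ : G → ℂ} (hχ : IsKChar K G χ) (hψ : IsKChar K G ψ) :
    IsKChar K G (χ + ψ) := by
  obtain ⟨n, ρ, hρ⟩ := hχ
  obtain ⟨m, σ, hσ⟩ := hψ
  have h := isKChar_of_rep (ρ.prod σ)
  have heq : (fun g => (((ρ.prod σ).character g : K) : ℂ)) = χ + ψ := by
    funext g
    have h1 : (ρ.prod σ).character g = ρ.character g + σ.character g := by
      unfold Representation.character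
      exact LinearMap.trace_prodMap' _ _
    rw [h1, Pi.add_apply, hρ, hσ]
    push_cast
    rfl
  rwa [heq] at h

end Basic

end Cfsg.Agent.Helper3

namespace Cfsg.Agent.Helper3

open Cfsg Module Representation
open scoped ComplexConjugate

universe u

section Decompose

variable {K : Subfield ℂ} {G : Type u} [Group G] [Fintype G]

/-- Every `K`-character is a sum of `K`-irreducible characters. -/
theorem kChar_mem_closure_aux :
    ∀ (n : ℕ) (W : Type) [AddCommGroup W] [Module K W] [FiniteDimensional K W]
      (ρ : Representation K G W), finrank K W = n →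
      (fun g => ((ρ.character g : K) : ℂ)) ∈
        AddSubmonoid.closure {χ : G → ℂ | IsKIrrChar K G χ} := by
  intro n
  induction n using Nat.strong_induction_on with
  | _ n ih =>
    intro W _ _ _ ρ hn
    have hne : NeZero (Nat.card G : K) := ⟨by exact_mod_cast Nat.card_pos.ne'⟩
    by_cases hW : Subsingleton W
    · have h0 : (fun g => ((ρ.character g : K) : ℂ)) = 0 := by
        funext g
        have : ρ.character g = 0 := by
          unfold Representation.character
          rw [LinearMap.trace_eq_matrix_trace K (finBasis K W)]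
          have hfr : finrank K W = 0 := finrank_zero_of_subsingleton
          have : IsEmpty (Fin (finrank K W)) := by rw [hfr]; infer_instance
          simp [Matrix.trace]
        rw [this]; simp
      rw [h0]; exact zero_mem _
    · rw [not_subsingleton_iff_nontrivial] at hW
      have htop : (⊤ : Subrepresentation ρ) ≠ ⊥ := by
        intro h
        obtain ⟨v, hv⟩ := exists_ne (0 : W)
        have h1 : v ∈ (⊤ : Subrepresentation ρ) := Submodule.mem_top
        rw [h] at h1
        exact hv ((Submodule.mem_bot K).mp h1)
      obtain ⟨A, -, hAne, hAirr⟩ := exists_irreducible_le (⊤ : Subrepresentation ρ) htop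
      obtain ⟨A', hA'⟩ := exists_isCompl A
      have hχρ := character_eq_add_of_isCompl A A' hA'
      have hAnt := subrep_nontrivial_of_ne_bot A hAne
      have hlt : finrank K A'.toSubmodule < n := by
        have h1 := Submodule.finrank_add_eq_of_isCompl (isCompl_toSubmodule A A' hA')
        have h2 : 0 < finrank K A.toSubmodule := Module.finrank_pos
        omega
      have h1 := ih _ hlt A'.toSubmodule A'.toRepresentation rfl
      have h2 : (fun g => ((A.toRepresentation.character g : K) : ℂ)) ∈
          AddSubmonoid.closure {χ : G → ℂ | IsKIrrChar K G χ} :=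
        AddSubmonoid.subset_closure (isKIrrChar_of_rep A.toRepresentation)
      have h3 : (fun g => ((ρ.character g : K) : ℂ)) =
          (fun g => ((A.toRepresentation.character g : K) : ℂ)) +
            (fun g => ((A'.toRepresentation.character g : K) : ℂ)) := by
        funext g
        rw [hχρ]
        simp
      rw [h3]
      exact add_mem h2 h1

theorem IsKChar.mem_closure {χ : G → ℂ} (h : IsKChar K G χ) :
    χ ∈ AddSubmonoid.closure {χ : G → ℂ | IsKIrrChar K G χ} := by
  obtain ⟨n, ρ, hρ⟩ := h
  have := kChar_mem_closure_aux (K := K) (G := G) _ (Fin n → K) ρ rfl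
  have heq : (fun g => ((ρ.character g : K) : ℂ)) = χ := by
    funext g; exact (hρ g).symm
  rwa [heq] at this

end Decompose

section Orth

variable {K : Subfield ℂ} {G : Type u} [Group G] [Fintype G]

/-- Orthogonality over `K`: the inner product of two `K`-characters is the dimension of the space
of intertwining maps. -/
theorem classInner_kChar {n m : ℕ} (ρ : Representation K G (Fin n → K))
    (σ : Representation K G (Fin m → K)) :
    classInner (fun g => ((σ.character g : K) : ℂ)) (fun g => ((ρ.character g : K) : ℂ)) =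
      (finrank K (IntertwiningMap ρ σ) : ℂ) := by
  have hne : (Nat.card G : K) ≠ 0 := by exact_mod_cast Nat.card_pos.ne'
  haveI : Invertible (Nat.card G : K) := invertibleOfNonzero hne
  have h := card_inv_mul_sum_char_mul_char_eq_finrank ρ σ
  have h2 := congrArg (algebraMap K ℂ) h
  rw [map_mul, map_inv₀, map_natCast, map_natCast, map_sum] at h2
  rw [← h2]
  unfold classInner
  congr 1
  refine Finset.sum_congr rfl fun g _ => ?_
  rw [map_mul]
  congr 1
  have hc : IsCharacter G (fun g => ((ρ.character g : K) : ℂ)) :=
    IsKChar.isCharacter ⟨n, ρ, fun _ => rfl⟩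
  exact (Helper74.char_inv hc g).symm

/-- Two `K`-irreducible characters are orthogonal or equal. -/
theorem kIrr_orth {ψ ψ' : G → ℂ} (hψ : IsKIrrChar K G ψ) (hψ' : IsKIrrChar K G ψ') :
    classInner ψ' ψ = 0 ∨ ψ' = ψ := by
  obtain ⟨n, ρ, hρirr, hρ⟩ := hψ
  obtain ⟨m, σ, hσirr, hσ⟩ := hψ'
  have e1 : ψ = fun g => ((ρ.character g : K) : ℂ) := funext hρ
  have e2 : ψ' = fun g => ((σ.character g : K) : ℂ) := funext hσ
  rw [e1, e2, classInner_kChar]
  by_cases h0 : finrank K (IntertwiningMap ρ σ) = 0
  · left; rw [h0]; simp
  · right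
    have hpos : 0 < finrank K (IntertwiningMap ρ σ) := Nat.pos_of_ne_zero h0
    obtain ⟨f, hf⟩ := Module.finrank_pos_iff_exists_ne_zero.mp hpos
    have hbij : Function.Bijective f :=
      (IsIrreducible.bijective_or_eq_zero f).resolve_right hf
    have heq := char_iso (IntertwiningMap.ofBijective f hbij)
    rw [heq]

/-- The norm of a `K`-irreducible character is a positive natural number. -/
theorem kIrr_inner_self {ψ : G → ℂ} (hψ : IsKIrrChar K G ψ) :
    ∃ d : ℕ, 0 < d ∧ classInner ψ ψ = d := by
  obtain ⟨n, ρ, hρirr, hρ⟩ := hψ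
  have e1 : ψ = fun g => ((ρ.character g : K) : ℂ) := funext hρ
  rw [e1, classInner_kChar]
  refine ⟨_, ?_, rfl⟩
  apply Module.finrank_pos_iff_exists_ne_zero.mpr
  refine ⟨IntertwiningMap.id ρ, ?_⟩
  intro h
  have hnt : Nontrivial (Subrepresentation ρ) := hρirr.toNontrivial
  obtain ⟨A, B, hAB⟩ := exists_pair_ne (Subrepresentation ρ)
  apply hAB
  apply SetLike.ext
  intro v
  have hv : v = 0 := by
    have := congrArg (fun f : IntertwiningMap ρ ρ => f v) h
    exact this
  rw [hv]
  exact ⟨fun _ => B.toSubmodule.zero_mem, fun _ => A.toSubmodule.zero_mem⟩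

/-- Inner products of elements of the `ℤ`-span of the `K`-irreducible characters with a
`K`-irreducible character `ψ` are integer multiples of the norm of `ψ`. -/
theorem kIrr_inner_dvd {ψ : G → ℂ} (hψ : IsKIrrChar K G ψ) {θ : G → ℂ}
    (hθ : θ ∈ AddSubgroup.closure {χ : G → ℂ | IsKIrrChar K G χ}) :
    ∃ k : ℤ, classInner θ ψ = k * classInner ψ ψ := by
  induction hθ using AddSubgroup.closure_induction with
  | mem θ hθ =>
    rcases kIrr_orth hψ hθ with h | h
    · exact ⟨0, by rw [h]; simp⟩
    · exact ⟨1, by rw [h]; simp⟩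
  | zero =>
    have h0 : classInner (0 : G → ℂ) ψ = 0 := by unfold classInner; simp
    exact ⟨0, by rw [h0]; simp⟩
  | add a b _ _ ha hb =>
    obtain ⟨k, hk⟩ := ha
    obtain ⟨l, hl⟩ := hb
    exact ⟨k + l, by rw [Helper74.classInner_add_left, hk, hl]; push_cast; ring⟩
  | neg a _ ha =>
    obtain ⟨k, hk⟩ := ha
    exact ⟨-k, by rw [Helper74.classInner_neg_left, hk]; push_cast; ring⟩

end Orth

end Cfsg.Agent.Helper3
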