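import Mathlib
import Cfsg.Prelude.Def_Characters
import Cfsg.Agent.Helper3.SplitField
import Cfsg.Agent.Helper3.ScalarIndex
import Cfsg.Agent.Helper15.IndFun

/-!
# Monomial representations over a subfield (helper3)

The function induced from a linear character `lam : E →* ℂˣ` with values in the subfield `K` is
the character of a (monomial) representation over `K`.
-/

set_option autoImplicit false
set_option linter.unusedSectionVars false

namespace Cfsg.Agent.Helper3

open Cfsg Module Representation Cfsg.Agent.Helper15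

universe u

section Monomial

variable {K : Subfield ℂ} {G : Type u} [Group G] [Fintype G] (E : Subgroup G)
  (lam : E →* ℂˣ) (hK : ∀ e : E, ((lam e : ℂˣ) : ℂ) ∈ K)

/-- The linear character with values in `K`, extended by zero to `G`. -/
noncomputable def monoExt (x : G) : K := by
  classical
  exact if h : x ∈ E then ⟨((lam ⟨x, h⟩ : ℂˣ) : ℂ), hK ⟨x, h⟩⟩ else 0

theorem monoExt_of_mem {x : G} (h : x ∈ E) :
    monoExt E lam hK x = ⟨((lam ⟨x, h⟩ : ℂˣ) : ℂ), hK ⟨x, h⟩⟩ := by
  unfold monoExt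
  rw [dif_pos h]

theorem monoExt_of_not_mem {x : G} (h : x ∉ E) : monoExt E lam hK x = 0 := by
  unfold monoExt
  rw [dif_neg h]

theorem monoExt_coe (x : G) :
    ((monoExt E lam hK x : K) : ℂ) = extendByZero E (fun e => ((lam e : ℂˣ) : ℂ)) x := by
  by_cases h : x ∈ E
  · rw [monoExt_of_mem E lam hK h, extendByZero_of_mem E _ h]
  · rw [monoExt_of_not_mem E lam hK h, extendByZero_of_not_mem E _ h]
    rfl

theorem monoExt_one : monoExt E lam hK 1 = 1 := by
  rw [monoExt_of_mem E lam hK E.one_mem]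
  apply Subtype.ext
  have : (⟨1, E.one_mem⟩ : E) = 1 := rfl
  simp [this]

theorem monoExt_mul_of_mem {a : G} (ha : a ∈ E) (b : G) :
    monoExt E lam hK (a * b) = monoExt E lam hK a * monoExt E lam hK b := by
  by_cases hb : b ∈ E
  · rw [monoExt_of_mem E lam hK ha, monoExt_of_mem E lam hK hb,
      monoExt_of_mem E lam hK (E.mul_mem ha hb)]
    apply Subtype.ext
    show ((lam ⟨a * b, E.mul_mem ha hb⟩ : ℂˣ) : ℂ) =
      ((lam ⟨a, ha⟩ : ℂˣ) : ℂ) * ((lam ⟨b, hb⟩ : ℂˣ) : ℂ)
    rw [← Units.val_mul, ← map_mul]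
    rfl
  · have hab : a * b ∉ E := fun h => hb ((Subgroup.mul_mem_cancel_left E ha).mp h)
    rw [monoExt_of_not_mem E lam hK hb, monoExt_of_not_mem E lam hK hab, mul_zero]

variable (S : Set G) (hS : Subgroup.IsComplement S (E : Set G))

include hS in
theorem transversal_eq_of_inv_mul_mem {s t : S} (h : (s : G)⁻¹ * (t : G) ∈ E) : s = t := by
  have h1 : (fun x : S × (E : Set G) => (x.1 : G) * (x.2 : G)) (t, ⟨1, E.one_mem⟩) =
      (fun x : S × (E : Set G) => (x.1 : G) * (x.2 : G)) (s, ⟨(s : G)⁻¹ * (t : G), h⟩) := by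
    simp
  have h2 := hS.1 h1
  exact (congrArg Prod.fst h2).symm

include hS in
theorem transversal_exists (x : G) : ∃ t : S, (t : G)⁻¹ * x ∈ E := by
  obtain ⟨⟨t, e⟩, hte⟩ := hS.2 x
  refine ⟨t, ?_⟩
  have : (t : G)⁻¹ * x = (e : G) := by
    rw [← hte]; simp
  rw [this]
  exact e.2

/-- The monomial matrices. -/
noncomputable def monoMat (g : G) : Matrix S S K :=
  fun s t => monoExt E lam hK ((s : G)⁻¹ * g * (t : G))

variable [Fintype S] [DecidableEq S]

include hS in
theorem monoMat_one : monoMat E lam hK S 1 = 1 := by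
  apply Matrix.ext
  intro s t
  unfold monoMat
  rw [mul_one, Matrix.one_apply]
  by_cases hst : s = t
  · rw [if_pos hst, hst, inv_mul_cancel, monoExt_one]
  · rw [if_neg hst]
    apply monoExt_of_not_mem
    intro h
    exact hst (transversal_eq_of_inv_mul_mem E S hS h)

include hS in
theorem monoMat_mul (g h : G) :
    monoMat E lam hK S (g * h) = monoMat E lam hK S g * monoMat E lam hK S h := by
  apply Matrix.ext
  intro s u
  rw [Matrix.mul_apply]
  unfold monoMat
  obtain ⟨t₀, ht₀⟩ := transversal_exists E S hS (g⁻¹ * (s : G))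
  have ha : (s : G)⁻¹ * g * (t₀ : G) ∈ E := by
    have := E.inv_mem ht₀
    have h2 : ((t₀ : G)⁻¹ * (g⁻¹ * (s : G)))⁻¹ = (s : G)⁻¹ * g * (t₀ : G) := by group
    rwa [h2] at this
  rw [Finset.sum_eq_single t₀]
  · rw [← monoExt_mul_of_mem E lam hK ha]
    congr 1
    group
  · intro t _ htt
    have hnot : (s : G)⁻¹ * g * (t : G) ∉ E := by
      intro hmem
      apply htt
      have h3 : (t₀ : G)⁻¹ * (t : G) ∈ E := by
        have := E.mul_mem (E.inv_mem ha) hmem
        have h4 : ((s : G)⁻¹ * g * (t₀ : G))⁻¹ * ((s : G)⁻¹ * g * (t : G)) =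
            (t₀ : G)⁻¹ * (t : G) := by group
        rwa [h4] at this
      exact (transversal_eq_of_inv_mul_mem E S hS h3).symm
    rw [monoExt_of_not_mem E lam hK hnot, zero_mul]
  · intro h0
    exact absurd (Finset.mem_univ t₀) h0

/-- The monomial representation over `K`. -/
noncomputable def monoRep : Representation K G (S → K) where
  toFun g := Matrix.toLin' (monoMat E lam hK S g)
  map_one' := by
    rw [monoMat_one E lam hK S hS, Matrix.toLin'_one]
    rfl
  map_mul' g h := by
    rw [monoMat_mul E lam hK S hS, Matrix.toLin'_mul]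
    rfl

include hS in
theorem monoRep_character (g : G) :
    (((monoRep E lam hK S hS).character g : K) : ℂ) =
      indFun E (fun e => ((lam e : ℂˣ) : ℂ)) g := by
  have h1 : (monoRep E lam hK S hS).character g = (monoMat E lam hK S g).trace := by
    unfold Representation.character monoRep
    simp only [MonoidHom.coe_mk, OneHom.coe_mk, Matrix.trace_toLin'_eq]
  rw [h1, indFun_apply]
  have hF : ∀ x : G, ∀ e ∈ E,
      extendByZero E (fun e => ((lam e : ℂˣ) : ℂ)) ((x * e)⁻¹ * g * (x * e)) =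
        extendByZero E (fun e => ((lam e : ℂˣ) : ℂ)) (x⁻¹ * g * x) := by
    intro x e he
    have h2 : (x * e)⁻¹ * g * (x * e) = e⁻¹ * (x⁻¹ * g * x) * e := by group
    rw [h2]
    by_cases hy : x⁻¹ * g * x ∈ E
    · have hy' : e⁻¹ * (x⁻¹ * g * x) * e ∈ E := E.mul_mem (E.mul_mem (E.inv_mem he) hy) he
      rw [extendByZero_of_mem E _ hy, extendByZero_of_mem E _ hy']
      have h3 : (⟨e⁻¹ * (x⁻¹ * g * x) * e, hy'⟩ : E) =
          (⟨e, he⟩ : E)⁻¹ * ⟨x⁻¹ * g * x, hy⟩ * ⟨e, he⟩ := rfl
      rw [h3, map_mul, map_mul, map_inv, mul_comm, ← mul_assoc, mul_inv_cancel, one_mul]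
    · have hy' : e⁻¹ * (x⁻¹ * g * x) * e ∉ E := by
        intro h
        apply hy
        have := E.mul_mem (E.mul_mem he h) (E.inv_mem he)
        have h4 : e * (e⁻¹ * (x⁻¹ * g * x) * e) * e⁻¹ = x⁻¹ * g * x := by group
        rwa [h4] at this
      rw [extendByZero_of_not_mem E _ hy, extendByZero_of_not_mem E _ hy']
  have hsum := sum_eq_card_nsmul_sum_transversal E S hS
    (fun x => extendByZero E (fun e => ((lam e : ℂˣ) : ℂ)) (x⁻¹ * g * x)) hF
  rw [hsum]
  have hne : (Nat.card E : ℂ) ≠ 0 := by exact_mod_cast Nat.card_pos.ne'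
  rw [← Nat.cast_smul_eq_nsmul ℂ, smul_eq_mul, ← mul_assoc, inv_mul_cancel₀ hne, one_mul]
  have htr : (monoMat E lam hK S g).trace =
      ∑ i : S, monoExt E lam hK ((i : G)⁻¹ * g * (i : G)) := rfl
  rw [htr]
  rw [show ((∑ i : S, monoExt E lam hK ((i : G)⁻¹ * g * (i : G)) : K) : ℂ) =
    ∑ i : S, ((monoExt E lam hK ((i : G)⁻¹ * g * (i : G)) : K) : ℂ) from
      map_sum (algebraMap K ℂ) _ _]
  refine Finset.sum_congr rfl fun s _ => ?_
  exact monoExt_coe E lam hK _

end Monomial

section Main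

variable {K : Subfield ℂ} {G : Type u} [Group G] [Fintype G]

/-- Functions induced from linear characters with values in `K` are `K`-characters. -/
theorem isKChar_indFun_of_hom (E : Subgroup G) (lam : E →* ℂˣ)
    (hK : ∀ e : E, ((lam e : ℂˣ) : ℂ) ∈ K) :
    IsKChar K G (indFun E (fun e => ((lam e : ℂˣ) : ℂ))) := by
  classical
  obtain ⟨S, hS, -⟩ := Subgroup.exists_isComplement_left E (1 : G)
  haveI : Fintype S := Fintype.ofFinite S
  have h := isKChar_of_rep (monoRep E lam hK S hS)
  have heq : (fun g => (((monoRep E lam hK S hS).character g : K) : ℂ)) =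
      indFun E (fun e => ((lam e : ℂˣ) : ℂ)) := by
    funext g
    exact monoRep_character E lam hK S hS g
  rwa [heq] at h

end Main

end Cfsg.Agent.Helper3
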