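import Mathlib
import Cfsg.Agent.Helper16.PrincipalSection
import Cfsg.Agent.Helper54.PLength
import Cfsg.Agent.Helper80.Pullback
import Cfsg.Statements.S4711

/-!
helper3 PL1 farm (S4711), leaf (FWD): in a group of `p`-length one every member of the principal block restricts
irreducibly to the normalizer of a Sylow `p`-subgroup (`G = N_G(P) O_{p'}(G)` and `O_{p'}(G)` is in the kernel).
-/

set_option autoImplicit false
set_option linter.unusedSectionVars false
set_option linter.unusedVariables false

namespace Cfsg.Agent.Helper3.PL1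

open Cfsg Cfsg.Agent.Helper16

universe u

variable {p : ℕ} [Fact p.Prime] {M : Ideal AlgInt} {G : Type u} [Group G]

/-- (FWD) the forward direction. -/
theorem FWD [Finite G] (hM : IsPModular p M) (P : Sylow p G) (h : PLengthLE p 1 G) :
    ∀ χ ∈ principalBlock M G,
      IsIrrCharacter ↥(Subgroup.normalizer ((P : Subgroup G) : Set G))
        (fun n : ↥(Subgroup.normalizer ((P : Subgroup G) : Set G)) => (χ : G → ℂ) n) := by
  intro χ hχ
  classical
  haveI : Fintype G := Fintype.ofFinite G
  haveI hKn : (pPrimeCore p G).Normal :=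
    @Subgroup.normal_of_characteristic _ _ _ (Cfsg.Agent.Lib.pPrimeCore_characteristic p)
  set π : G →* G ⧸ pPrimeCore p G := QuotientGroup.mk' (pPrimeCore p G) with hπ
  have hπs : Function.Surjective π := QuotientGroup.mk'_surjective _
  have hker : ∀ g, π g = 1 → (χ : G → ℂ) g = (χ : G → ℂ) 1 := by
    intro g hg
    rw [hπ, QuotientGroup.mk'_apply, QuotientGroup.eq_one_iff] at hg
    exact principalBlock_pPrimeCore hM χ hχ g hg
  obtain ⟨ψ, hψ, hψχ⟩ := Helper80.IsIrrCharacter.exists_descend χ.2 π hπs hker
  set ι : ↥(Subgroup.normalizer ((P : Subgroup G) : Set G)) →* G ⧸ pPrimeCore p G :=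
    π.comp (Subgroup.normalizer ((P : Subgroup G) : Set G)).subtype with hι
  have hιs : Function.Surjective ι := by
    intro y
    obtain ⟨g, rfl⟩ := hπs y
    obtain ⟨n, hn, k, hk, rfl⟩ := Helper54.exists_mul_of_pLengthLE_one' h P g
    refine ⟨⟨n, hn⟩, ?_⟩
    show π n = π (n * k)
    rw [map_mul]
    have : π k = 1 := by
      rw [hπ, QuotientGroup.mk'_apply, QuotientGroup.eq_one_iff]
      exact hk
    rw [this, mul_one]
  have := Helper80.IsIrrCharacter.comp_surjective hψ ι hιs
  have heq : (fun n : ↥(Subgroup.normalizer ((P : Subgroup G) : Set G)) => (χ : G → ℂ) n) =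
      fun g => ψ (ι g) := by
    funext n
    exact hψχ n
  rw [heq]
  exact this

end Cfsg.Agent.Helper3.PL1
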