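-- (Q1) for helper88's S5318: SelfNorm and NoStrClosed pass to the quotient by a central subgroup of order prime to p.
import Cfsg.Agent.Helper88.PSL3Fus
import Cfsg.Agent.Helper85.CentralQuot

set_option autoImplicit false

namespace Cfsg.Agent.Helper3.PSL3Q

open Cfsg.Agent.Helper85

theorem quotient_selfNorm_noStrClosed {H : Type*} [Group H] [Finite H] (p : ℕ) [Fact p.Prime]
    (Z : Subgroup H) [Z.Normal] (hZ : Z ≤ Subgroup.center H) (hpZ : (Nat.card Z).Coprime p) (S : Sylow p H)
    (h0 : (S : Subgroup H) ≠ ⊥) (h1 : SelfNorm (S : Subgroup H)) (h2 : NoStrClosed (S : Subgroup H)) :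
    ∃ S' : Sylow p (H ⧸ Z), (S' : Subgroup (H ⧸ Z)) ≠ ⊥ ∧ SelfNorm (S' : Subgroup (H ⧸ Z)) ∧
      NoStrClosed (S' : Subgroup (H ⧸ Z)) := by
  have hp : p.Prime := Fact.out
  have hsurj : Function.Surjective (QuotientGroup.mk' Z) := QuotientGroup.mk'_surjective Z
  refine ⟨S.mapSurjective hsurj, ?_, ?_, ?_⟩
  · -- nontrivial
    rw [Sylow.coe_mapSurjective]
    intro hbot
    apply h0
    rw [Subgroup.eq_bot_iff_forall]
    intro s hs
    have hmem : QuotientGroup.mk' Z s ∈ (S : Subgroup H).map (QuotientGroup.mk' Z) :=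
      Subgroup.mem_map_of_mem _ hs
    rw [hbot, Subgroup.mem_bot] at hmem
    have hsZ : s ∈ Z := by
      have := (QuotientGroup.eq_one_iff (N := Z) s).mp hmem
      exact this
    obtain ⟨k, hk⟩ := S.2 ⟨s, hs⟩
    have hk' : s ^ p ^ k = 1 := by
      have := congrArg Subtype.val hk
      simpa using this
    have hd1 : orderOf s ∣ p ^ k := orderOf_dvd_of_pow_eq_one hk'
    have hd2 : orderOf s ∣ Nat.card Z := by
      have : orderOf (⟨s, hsZ⟩ : Z) ∣ Nat.card Z := orderOf_dvd_natCard _
      rwa [Subgroup.orderOf_mk] at this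
    have hcop : (Nat.card Z).Coprime (p ^ k) := Nat.Coprime.pow_right k hpZ
    have : orderOf s = 1 := Nat.eq_one_of_dvd_coprimes hcop hd2 hd1
    exact orderOf_eq_one_iff.mp this
  · -- SelfNorm
    intro gbar hgbar
    obtain ⟨g, rfl⟩ := hsurj gbar
    have hgN : g ∈ Subgroup.normalizer ((S : Subgroup H) : Set H) := by
      apply Subgroup.mem_normalizer_fintype
      intro x hx
      have hx' : x ∈ (S : Subgroup H) := hx
      have hpx : ∃ k : ℕ, (g * x * g⁻¹) ^ p ^ k = 1 := by
        obtain ⟨k, hk⟩ := S.2 ⟨x, hx'⟩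
        have hk' : x ^ p ^ k = 1 := by
          have := congrArg Subtype.val hk
          simpa using this
        refine ⟨k, ?_⟩
        rw [conj_pow, hk', mul_one, mul_inv_cancel]
      have hmap : QuotientGroup.mk' Z (g * x * g⁻¹) ∈ (S : Subgroup H).map (QuotientGroup.mk' Z) := by
        have hxm : QuotientGroup.mk' Z x ∈ ((S.mapSurjective hsurj : Sylow p (H ⧸ Z)) : Subgroup (H ⧸ Z)) := by
          rw [Sylow.coe_mapSurjective]; exact Subgroup.mem_map_of_mem _ hx'
        have := (Subgroup.mem_normalizer_iff.mp hgbar (QuotientGroup.mk' Z x)).mp hxm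
        rw [Sylow.coe_mapSurjective] at this
        simpa [map_mul, map_inv] using this
      exact mem_of_mk_mem_map S Z hZ hpx hmap
    obtain ⟨s, hs, hsx⟩ := h1 g hgN
    refine ⟨QuotientGroup.mk' Z s, ?_, ?_⟩
    · rw [Sylow.coe_mapSurjective]; exact Subgroup.mem_map_of_mem _ hs
    · intro xbar hxbar
      rw [Sylow.coe_mapSurjective] at hxbar
      obtain ⟨x, hx, rfl⟩ := hxbar
      have := congrArg (QuotientGroup.mk' Z) (hsx x hx)
      simpa [map_mul, map_inv] using this
  · -- NoStrClosed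
    intro T' hT' hcl
    rw [Sylow.coe_mapSurjective] at hT' hcl ⊢
    set T : Subgroup H := (S : Subgroup H) ⊓ T'.comap (QuotientGroup.mk' Z) with hTdef
    have hTS : T ≤ (S : Subgroup H) := inf_le_left
    have hTcl : ∀ t ∈ T, ∀ g : H, g * t * g⁻¹ ∈ (S : Subgroup H) → g * t * g⁻¹ ∈ T := by
      intro t ht g hg
      refine ⟨hg, ?_⟩
      show g * t * g⁻¹ ∈ T'.comap (QuotientGroup.mk' Z)
      rw [Subgroup.mem_comap]
      have htT' : QuotientGroup.mk' Z t ∈ T' := ht.2
      have := hcl _ htT' (QuotientGroup.mk' Z g) (by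
        have : QuotientGroup.mk' Z (g * t * g⁻¹) ∈ (S : Subgroup H).map (QuotientGroup.mk' Z) :=
          Subgroup.mem_map_of_mem _ hg
        simpa [map_mul, map_inv] using this)
      simpa [map_mul, map_inv] using this
    have hmapT : T' = T.map (QuotientGroup.mk' Z) := by
      apply le_antisymm
      · intro t' ht'
        obtain ⟨s, hs, rfl⟩ := hT' ht'
        exact Subgroup.mem_map_of_mem _ ⟨hs, ht'⟩
      · rintro _ ⟨t, ht, rfl⟩
        exact ht.2
    rcases h2 T hTS hTcl with hT | hT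
    · left
      rw [hmapT, hT, Subgroup.map_bot]
    · right
      rw [hmapT, hT]

end Cfsg.Agent.Helper3.PSL3Q
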