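-- (Q2) for helper88's S5318: if the p'-elements of N_G(P) centralize the Sylow p-subgroup P then N_G(P) = P C_G(P).
import Cfsg.Agent.Helper88.PSL3Fus

set_option autoImplicit false

namespace Cfsg.Agent.Helper3.PSL3Q

open Cfsg.Agent.Helper85

/-- a `p`-element normalizing a Sylow `p`-subgroup lies in it. -/
theorem mem_sylow_of_pElt_normalizer {G : Type*} [Group G] (p : ℕ) [Fact p.Prime] (P : Sylow p G)
    {s : G} (hs : s ∈ Subgroup.normalizer ((P : Subgroup G) : Set G)) (hsp : ∃ k : ℕ, s ^ p ^ k = 1) :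
    s ∈ (P : Subgroup G) := by
  have hpg : IsPGroup p (Subgroup.zpowers s) := by
    obtain ⟨k, hk⟩ := hsp
    rintro ⟨y, hy⟩
    obtain ⟨n, rfl⟩ := Subgroup.mem_zpowers_iff.mp hy
    refine ⟨k, Subtype.ext ?_⟩
    simp only [Subgroup.coe_pow, Subgroup.coe_one]
    rw [← zpow_natCast, ← zpow_mul, mul_comm, zpow_mul, zpow_natCast, hk, one_zpow]
  have hle : Subgroup.zpowers s ≤ Subgroup.normalizer ((P : Subgroup G) : Set G) := by
    rw [Subgroup.zpowers_le]; exact hs
  have h1 := (Subgroup.sylow_mem_fixedPoints_iff (Subgroup.zpowers s) (P := P)).mpr hle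
  have h2 := (hpg.sylow_mem_fixedPoints_iff (Q := P)).mp h1
  exact h2 (Subgroup.mem_zpowers s)

theorem selfNorm_of_coprime_centralizes {G : Type*} [Group G] [Finite G] (p : ℕ) [Fact p.Prime] (P : Sylow p G)
    (h : ∀ g ∈ Subgroup.normalizer ((P : Subgroup G) : Set G), (orderOf g).Coprime p →
      g ∈ Subgroup.centralizer ((P : Subgroup G) : Set G)) : SelfNorm (P : Subgroup G) := by
  intro g hg
  have hp : p.Prime := Fact.out
  have hn : 0 < orderOf g := orderOf_pos g
  obtain ⟨k, m, hm, hnm⟩ := Nat.exists_eq_pow_mul_and_not_dvd hn.ne' p hp.ne_one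
  have hcop : Nat.Coprime m (p ^ k) := by
    apply Nat.Coprime.pow_right
    exact (Nat.Coprime.symm ((Nat.Prime.coprime_iff_not_dvd hp).mpr hm))
  -- Bezout
  have hbez : (m : ℤ) * Int.gcdA m (p ^ k) + (p ^ k : ℕ) * Int.gcdB m (p ^ k) = 1 := by
    have := Int.gcd_eq_gcd_ab (m : ℤ) ((p ^ k : ℕ) : ℤ)
    rw [Int.gcd_natCast_natCast, hcop] at this
    simpa using this.symm
  set a := Int.gcdA m (p ^ k)
  set b := Int.gcdB m (p ^ k)
  set s : G := (g ^ m) ^ a with hs
  set c : G := (g ^ (p ^ k)) ^ b with hc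
  have hgsc : g = s * c := by
    rw [hs, hc, ← zpow_natCast g m, ← zpow_natCast g (p ^ k), ← zpow_mul, ← zpow_mul, ← zpow_add, hbez, zpow_one]
  -- normalizer memberships
  have hN : ∀ z : ℤ, g ^ z ∈ Subgroup.normalizer ((P : Subgroup G) : Set G) := fun z =>
    Subgroup.zpow_mem _ hg z
  have hsN : s ∈ Subgroup.normalizer ((P : Subgroup G) : Set G) := by
    rw [hs, ← zpow_natCast g m, ← zpow_mul]; exact hN _
  have hcN : c ∈ Subgroup.normalizer ((P : Subgroup G) : Set G) := by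
    rw [hc, ← zpow_natCast g (p ^ k), ← zpow_mul]; exact hN _
  -- s is a p-element
  have hsp : s ^ p ^ k = 1 := by
    rw [hs, ← zpow_natCast, ← zpow_mul, mul_comm, zpow_mul, zpow_natCast, ← pow_mul, mul_comm, ← hnm,
      pow_orderOf_eq_one, one_zpow]
  have hsP : s ∈ (P : Subgroup G) := mem_sylow_of_pElt_normalizer p P hsN ⟨k, hsp⟩
  -- c has order coprime to p
  have hcm : c ^ m = 1 := by
    rw [hc, ← zpow_natCast, ← zpow_mul, mul_comm, zpow_mul, zpow_natCast, ← pow_mul, ← hnm,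
      pow_orderOf_eq_one, one_zpow]
  have hco : (orderOf c).Coprime p := by
    have hd : orderOf c ∣ m := orderOf_dvd_of_pow_eq_one hcm
    exact Nat.Coprime.coprime_dvd_left hd
      (Nat.Coprime.symm ((Nat.Prime.coprime_iff_not_dvd hp).mpr hm))
  have hcC := h c hcN hco
  refine ⟨s, hsP, ?_⟩
  intro x hx
  have hcx : c * x = x * c := by
    have := Subgroup.mem_centralizer_iff.mp hcC x hx
    exact this.symm
  have : c * x * c⁻¹ = x := by rw [hcx, mul_inv_cancel_right]
  rw [hgsc, mul_inv_rev]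
  calc s * c * x * (c⁻¹ * s⁻¹) = s * (c * x * c⁻¹) * s⁻¹ := by group
    _ = s * x * s⁻¹ := by rw [this]

end Cfsg.Agent.Helper3.PSL3Q
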