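import Mathlib
import Cfsg.Agent.Helper81.RO2
import Cfsg.Agent.Helper81.CliffordInd
import Cfsg.Agent.Helper81.ConjIrr
import Cfsg.Agent.Helper74.FSCount
import Cfsg.Agent.Helper15.ConjChar
import Cfsg.Agent.Helper15.IndChar

/-!
# (SC) and (RC) of board post #3363 (for helper81, statement S4581)

The `cliff` fields of `Cfsg.Agent.Helper81.RO.AdmClass` for the self-normalizing class
`(SNAdm, AnyAdm)` and for the real class `(RealAdm, SignAdm)`.
-/

set_option autoImplicit false
set_option linter.unusedSectionVars false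
set_option linter.unusedVariables false

namespace Cfsg.Agent.Helper3.ROCliff

open Cfsg Cfsg.Agent.Helper81.RO
open scoped ComplexConjugate

universe u

variable {G : Type u} [Group G]

/-- `SelfNorm` passes to subgroups of odd index -/
theorem selfNorm_of_odd_index (h : SelfNorm G) (T : Subgroup G) (hT : Odd T.index) :
    SelfNorm ↥T := by
  intro Q hQ hQidx n hn
  have hQ' : IsPGroup 2 ↥(Q.map T.subtype) := hQ.map T.subtype
  have hidx : ¬ 2 ∣ (Q.map T.subtype).index := by
    rw [Subgroup.index_map_subtype]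
    intro hd
    rcases (Nat.Prime.dvd_mul Nat.prime_two).1 hd with h1 | h1
    · exact hQidx h1
    · exact (Nat.not_even_iff_odd.2 hT) (even_iff_two_dvd.2 h1)
  have h1 := h (Q.map T.subtype) hQ' hidx
  have h2 : T.subtype n ∈ Subgroup.normalizer ((Q.map T.subtype : Subgroup G) : Set G) :=
    Subgroup.le_normalizer_map T.subtype ⟨n, hn, rfl⟩
  obtain ⟨q, hq, hqn⟩ := h1 h2
  have : q = n := Subtype.ext hqn
  rwa [← this]

variable [Fintype G]

theorem extendByZero_conj (H : Subgroup G) (θ : H → ℂ) (g : G) :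
    extendByZero H (fun h => conj (θ h)) g = conj (extendByZero H θ g) := by
  by_cases hg : g ∈ H
  · rw [Cfsg.Agent.Helper15.extendByZero_of_mem H _ hg,
      Cfsg.Agent.Helper15.extendByZero_of_mem H θ hg]
  · rw [Cfsg.Agent.Helper15.extendByZero_of_not_mem H _ hg,
      Cfsg.Agent.Helper15.extendByZero_of_not_mem H θ hg, map_zero]

theorem indFun_conj_fun (H : Subgroup G) (θ : H → ℂ) :
    indFun H (fun h => conj (θ h)) = fun g => conj (indFun H θ g) := by
  funext g
  rw [Cfsg.Agent.Helper15.indFun_apply, Cfsg.Agent.Helper15.indFun_apply, map_mul, map_inv₀,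
    Complex.conj_natCast, map_sum]
  congr 1
  exact Finset.sum_congr rfl fun x _ => extendByZero_conj H θ _

/-- the degree of an induced character -/
theorem charDegree_indFun (T : Subgroup G) {ψ : T → ℂ} (hψ : IsCharacter T ψ) :
    charDegree (indFun T ψ) = T.index * charDegree ψ := by
  have h1 : indFun T ψ 1 = (T.index : ℂ) * ψ 1 := Cfsg.Agent.Helper15.indFun_apply_one T ψ
  have h2 := Cfsg.Agent.Helper74.charDegree_cast hψ
  have h3 := Cfsg.Agent.Helper74.charDegree_cast (Cfsg.Agent.Helper15.isCharacter_indFun T hψ)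
  rw [h1, ← h2] at h3
  exact_mod_cast h3

/-- **(SC)**: the `cliff` field of `AdmClass` for the self-normalizing class. -/
theorem snAdm_cliff (U : Subgroup G) [U.Normal] [Fintype U] (lam : U →* ℂˣ)
    (_hl : AnyAdm U lam) (T : Subgroup G) [Fintype T]
    (hT : T = Cfsg.Agent.Helper15.inertia U (Cfsg.Agent.Helper74.linFun lam)) (hUT : U ≤ T)
    (ψ : T → ℂ) (hψ : IsIrrCharacter T ψ)
    (hψlam : classInner (Cfsg.Agent.Helper15.resTo U T hUT ψ)
      (Cfsg.Agent.Helper74.linFun lam) ≠ 0)
    (hadm : SNAdm G (indFun T ψ)) : SNAdm T ψ := by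
  obtain ⟨hirr, hodd, hsn⟩ := hadm
  rw [charDegree_indFun T (Cfsg.Agent.Helper74.isCharacter_of_isIrr hψ)] at hodd
  exact ⟨hψ, (Nat.odd_mul.1 hodd).2, selfNorm_of_odd_index hsn T (Nat.odd_mul.1 hodd).1⟩

/-- **(RC)**: the `cliff` field of `AdmClass` for the real class. -/
theorem realAdm_cliff (U : Subgroup G) [U.Normal] [Fintype U] (lam : U →* ℂˣ)
    (hl : SignAdm U lam) (T : Subgroup G) [Fintype T]
    (hT : T = Cfsg.Agent.Helper15.inertia U (Cfsg.Agent.Helper74.linFun lam)) (hUT : U ≤ T)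
    (ψ : T → ℂ) (hψ : IsIrrCharacter T ψ)
    (hψlam : classInner (Cfsg.Agent.Helper15.resTo U T hUT ψ)
      (Cfsg.Agent.Helper74.linFun lam) ≠ 0)
    (hadm : RealAdm G (indFun T ψ)) : RealAdm T ψ := by
  obtain ⟨hirr, hreal, hodd⟩ := hadm
  have hψc : IsCharacter T ψ := Cfsg.Agent.Helper74.isCharacter_of_isIrr hψ
  rw [charDegree_indFun T hψc] at hodd
  have hlamirr : IsIrrCharacter U (Cfsg.Agent.Helper74.linFun lam) :=
    Cfsg.Agent.Helper80.isIrrCharacter_of_monoidHom lam
  have hψbar : IsIrrCharacter T (fun t => conj (ψ t)) :=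
    Cfsg.Agent.Helper81.isIrrCharacter_conj hψ
  have hψbarlam : classInner (Cfsg.Agent.Helper15.resTo U T hUT (fun t => conj (ψ t)))
      (Cfsg.Agent.Helper74.linFun lam) ≠ 0 := by
    have h1 := Cfsg.Agent.Helper74.classInner_conj_conj (Cfsg.Agent.Helper15.resTo U T hUT ψ)
      (Cfsg.Agent.Helper74.linFun lam)
    have e2 : (fun u : U => conj (Cfsg.Agent.Helper74.linFun lam u)) =
        Cfsg.Agent.Helper74.linFun lam := funext (fun u => IsSign.conj_eq hl u)
    rw [e2] at h1
    show classInner (fun u : U => conj (Cfsg.Agent.Helper15.resTo U T hUT ψ u))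
      (Cfsg.Agent.Helper74.linFun lam) ≠ 0
    rw [h1]
    intro h0
    apply hψlam
    simpa using h0
  have hind : indFun T (fun t => conj (ψ t)) = indFun T ψ := by
    rw [indFun_conj_fun]
    funext g
    exact hreal g
  have heq := Cfsg.Agent.Helper81.indFun_inertia_injective U hlamirr T hT hUT hψbar hψ
    hψbarlam hψlam hind
  exact ⟨hψ, fun t => congrFun heq t, (Nat.odd_mul.1 hodd).2⟩

end Cfsg.Agent.Helper3.ROCliff
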