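import Mathlib
import Cfsg.Agent.Lib.Hall
import Cfsg.Agent.Helper81.RealN2
import Cfsg.Agent.Helper81.CliffordInd
import Cfsg.Agent.Helper81.GlaubReal
import Cfsg.Agent.Helper80.Pullback
import Cfsg.Agent.Helper74.LinTwist

/-!
# (I5) of board post #3262 (for helper81, statement S4581)

If every irreducible character of odd degree of the finite solvable group `G` is real-valued then
a Sylow `2`-subgroup of `G` is self-normalizing.

Proof: minimal counterexample, `V` a minimal normal subgroup.  The quotient `G ⧸ V` gives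
`N_G(P) ≤ P V`.  If `V` is a `2`-group we are done; otherwise some `1 ≠ v ∈ C_V(P)` exists, `V`
has a `P`-invariant linear character `λ` with `λ v ≠ 1`, it extends to `P V`, the induced
character has odd degree hence an irreducible constituent `χ` of odd degree over `λ`; `χ` real
forces `conj λ = λ ^ g`, `g` can be moved into `N_G(P) ≤ P V ≤ I_G(λ)`, so `λ` is real, so `λ v = 1`.
-/

set_option autoImplicit false
set_option linter.unusedSectionVars false
set_option linter.unusedVariables false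
set_option linter.style.haveILetI false

namespace Cfsg.Agent.Helper3.ROI5

open Cfsg
open scoped ComplexConjugate Pointwise

universe u

/-- a `2`-element of odd order dividing `|V|` is trivial -/
theorem eq_one_of_mem_sylow_of_mem_odd {G : Type u} [Group G] [Finite G] (P : Sylow 2 G)
    (V : Subgroup G) (hVodd : Odd (Nat.card V)) (z : G) (hzP : z ∈ (P : Subgroup G))
    (hzV : z ∈ V) : z = 1 := by
  obtain ⟨k, hk⟩ := (IsPGroup.iff_orderOf.1 P.isPGroup') ⟨z, hzP⟩
  rw [Subgroup.orderOf_mk] at hk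
  have h1 : orderOf z ∣ Nat.card V := by
    have := orderOf_dvd_natCard (⟨z, hzV⟩ : ↥V)
    rwa [Subgroup.orderOf_mk] at this
  have h2 : Nat.Coprime (2 ^ k) (Nat.card V) :=
    Nat.Coprime.pow_left k (Nat.coprime_two_left.2 hVodd)
  rw [← hk] at h2
  have h3 : orderOf z = 1 := Nat.eq_one_of_dvd_coprimes h2 dvd_rfl h1
  exact orderOf_eq_one_iff.1 h3

/-- linear characters of a finite abelian group separate points -/
theorem exists_lin_ne_one {A : Type u} [Group A] [Finite A] (hc : ∀ a b : A, a * b = b * a)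
    {a : A} (ha : a ≠ 1) : ∃ μ : A →* ℂˣ, μ a ≠ 1 := by
  letI : CommGroup A := { (inferInstance : Group A) with mul_comm := hc }
  haveI : NeZero (Monoid.exponent A) := ⟨Monoid.exponent_ne_zero_of_finite⟩
  exact CommGroup.exists_apply_ne_one_of_hasEnoughRootsOfUnity A ℂ ha

/-- a `P`-invariant linear character of `V` which is nontrivial at `v ∈ C_V(P)` -/
theorem exists_invariant_lin {G : Type u} [Group G] [Finite G] (P : Sylow 2 G) (V : Subgroup G)
    [hVn : V.Normal] (hVc : ∀ a ∈ V, ∀ b ∈ V, a * b = b * a) (hVodd : Odd (Nat.card V))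
    (v : G) (hvV : v ∈ V) (hv1 : v ≠ 1) (hvP : ∀ x ∈ (P : Subgroup G), x * v = v * x) :
    ∃ lam : ↥V →* ℂˣ, lam ⟨v, hvV⟩ ≠ 1 ∧
      ∀ x ∈ (P : Subgroup G), ∀ w : ↥V,
        lam ⟨x * w * x⁻¹, hVn.conj_mem w w.2 x⟩ = lam w := by
  classical
  let _ : Fintype ↥(P : Subgroup G) := Fintype.ofFinite _
  have hv1' : (⟨v, hvV⟩ : ↥V) ≠ 1 := fun h => hv1 (congrArg Subtype.val h)
  obtain ⟨μ, hμ⟩ := exists_lin_ne_one (A := ↥V)
    (fun a b => Subtype.ext (hVc a a.2 b b.2)) hv1'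
  let cV : G → (↥V →* ↥V) := fun x => (MulAut.conjNormal x : MulAut ↥V).toMonoidHom
  have hcV : ∀ (x : G) (w : ↥V), cV x w = ⟨x * w * x⁻¹, hVn.conj_mem w w.2 x⟩ := by
    intro x w
    apply Subtype.ext
    exact MulAut.conjNormal_apply x w
  have hcVmul : ∀ (x y : G) (w : ↥V), cV x (cV y w) = cV (x * y) w := by
    intro x y w
    apply Subtype.ext
    rw [hcV, hcV, hcV]
    show x * (y * (w : G) * y⁻¹) * x⁻¹ = x * y * (w : G) * (x * y)⁻¹
    group
  refine ⟨∏ x : ↥(P : Subgroup G), μ.comp (cV (x : G)), ?_, ?_⟩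
  · rw [MonoidHom.finsetProd_apply]
    have h1 : ∀ x ∈ (Finset.univ : Finset ↥(P : Subgroup G)),
        (μ.comp (cV (x : G))) ⟨v, hvV⟩ = μ ⟨v, hvV⟩ := by
      intro x _
      show μ (cV (x : G) ⟨v, hvV⟩) = μ ⟨v, hvV⟩
      congr 1
      rw [hcV]
      apply Subtype.ext
      show (x : G) * v * (x : G)⁻¹ = v
      rw [hvP x x.2, mul_inv_cancel_right]
    rw [Finset.prod_congr rfl h1, Finset.prod_const, Finset.card_univ]
    intro hpow
    have hpow2 : μ ⟨v, hvV⟩ ^ Nat.card ↥V = 1 := by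
      rw [← map_pow, pow_card_eq_one', map_one]
    obtain ⟨k, hk⟩ := IsPGroup.iff_card.1 P.isPGroup'
    have hcop : Nat.Coprime (Fintype.card ↥(P : Subgroup G)) (Nat.card ↥V) := by
      rw [← Nat.card_eq_fintype_card, hk]
      exact Nat.Coprime.pow_left k (Nat.coprime_two_left.2 hVodd)
    have := pow_gcd_eq_one.2 ⟨hpow, hpow2⟩
    rw [hcop, pow_one] at this
    exact hμ this
  · intro y hy w
    rw [MonoidHom.finsetProd_apply, MonoidHom.finsetProd_apply]
    rw [← hcV]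
    have h1 : ∀ x : ↥(P : Subgroup G), (μ.comp (cV (x : G))) (cV y w) =
        (μ.comp (cV ((x * ⟨y, hy⟩ : ↥(P : Subgroup G)) : G))) w := by
      intro x
      show μ (cV (x : G) (cV y w)) = μ (cV ((x : G) * y) w)
      rw [hcVmul]
    rw [Finset.prod_congr rfl (fun x _ => h1 x)]
    exact Fintype.prod_equiv (Equiv.mulRight (⟨y, hy⟩ : ↥(P : Subgroup G))) _ _ (fun x => rfl)

/-- a `P`-invariant linear character of `V` extends to `P V` when `P ∩ V = 1` -/
theorem exists_extension {G : Type u} [Group G] (P V : Subgroup G) [hVn : V.Normal]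
    (hPV : ∀ z, z ∈ P → z ∈ V → z = 1) (lam : ↥V →* ℂˣ)
    (hinv : ∀ x ∈ P, ∀ w : ↥V, lam ⟨x * w * x⁻¹, hVn.conj_mem w w.2 x⟩ = lam w) :
    ∃ lamh : ↥(P ⊔ V) →* ℂˣ,
      ∀ w : ↥V, lamh ⟨w, (le_sup_right : V ≤ P ⊔ V) w.2⟩ = lam w := by
  classical
  have hdec : ∀ y : ↥(P ⊔ V), ∃ p : ↥P, ∃ w : ↥V, (p : G) * (w : G) = (y : G) := by
    intro y
    obtain ⟨p, hp, w, hw, e⟩ := Subgroup.mem_sup_of_normal_right.1 y.2
    exact ⟨⟨p, hp⟩, ⟨w, hw⟩, e⟩
  choose pp ww hpw using hdec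
  have huniq : ∀ (p p' : ↥P) (w w' : ↥V), (p : G) * w = p' * w' → w = w' := by
    intro p p' w w' e
    have h1 : (p' : G)⁻¹ * p = w' * (w : G)⁻¹ := by
      calc (p' : G)⁻¹ * p = (p' : G)⁻¹ * ((p : G) * w) * (w : G)⁻¹ := by group
        _ = (p' : G)⁻¹ * ((p' : G) * w') * (w : G)⁻¹ := by rw [e]
        _ = w' * (w : G)⁻¹ := by group
    have h2 : (p' : G)⁻¹ * p = 1 :=
      hPV _ (P.mul_mem (P.inv_mem p'.2) p.2) (by rw [h1]; exact V.mul_mem w'.2 (V.inv_mem w.2))
    rw [h2] at h1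
    apply Subtype.ext
    have : (w' : G) = w := by
      have := congrArg (fun z => z * (w : G)) h1
      simpa using this.symm
    exact this.symm
  have hmul : ∀ y1 y2 : ↥(P ⊔ V), lam (ww (y1 * y2)) = lam (ww y1) * lam (ww y2) := by
    intro y1 y2
    have hmem : ((pp y2 : G))⁻¹ * (ww y1 : G) * ((pp y2 : G))⁻¹⁻¹ ∈ V :=
      hVn.conj_mem (ww y1) (ww y1).2 _
    have e : ((pp (y1 * y2) : ↥P) : G) * (ww (y1 * y2) : G) =
        ((pp y1 * pp y2 : ↥P) : G) *
          ((⟨((pp y2 : G))⁻¹ * (ww y1 : G) * ((pp y2 : G))⁻¹⁻¹, hmem⟩ * ww y2 : ↥V) : G) := by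
      rw [hpw]
      show ((y1 : G) * (y2 : G)) = ((pp y1 : G) * (pp y2 : G)) *
        (((pp y2 : G))⁻¹ * (ww y1 : G) * ((pp y2 : G))⁻¹⁻¹ * (ww y2 : G))
      rw [← hpw y1, ← hpw y2]
      group
    rw [huniq _ _ _ _ e, map_mul]
    congr 1
    exact hinv _ (P.inv_mem (pp y2).2) (ww y1)
  refine ⟨MonoidHom.mk' (fun y => lam (ww y)) hmul, ?_⟩
  intro w
  show lam (ww ⟨w, _⟩) = lam w
  congr 1
  have e : ((pp ⟨w, (le_sup_right : V ≤ P ⊔ V) w.2⟩ : ↥P) : G) *
      (ww ⟨w, (le_sup_right : V ≤ P ⊔ V) w.2⟩ : G) = ((1 : ↥P) : G) * (w : G) := by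
    rw [hpw]
    simp
  exact huniq _ _ _ _ e

/-- a character of odd degree has an irreducible constituent of odd degree -/
theorem exists_odd_constituent {G : Type u} [Group G] [Fintype G] {Θ : G → ℂ}
    (hΘ : IsCharacter G Θ) (k : ℕ) (hk : Odd k) (hΘ1 : Θ 1 = (k : ℂ)) :
    ∃ χ : IrrCharacter G, Odd (charDegree (χ : G → ℂ)) ∧ classInner Θ (χ : G → ℂ) ≠ 0 := by
  classical
  let _ := Cfsg.Agent.Helper74.irrFintype G
  choose m hm using fun ψ : IrrCharacter G => Cfsg.Agent.Helper74.isCharacter_inner_irr_nat hΘ ψ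
  have hdec := Cfsg.Agent.Helper74.isCharacter_eq_sum_irr hΘ
  have h1 : (k : ℂ) = ∑ ψ : IrrCharacter G, ((m ψ * charDegree (ψ : G → ℂ) : ℕ) : ℂ) := by
    rw [← hΘ1]
    conv_lhs => rw [hdec]
    rw [Finset.sum_apply]
    refine Finset.sum_congr rfl (fun ψ _ => ?_)
    rw [Pi.smul_apply, smul_eq_mul, hm ψ, Nat.cast_mul,
      Cfsg.Agent.Helper74.charDegree_cast (Cfsg.Agent.Helper74.irr_isCharacter ψ)]
  have h2 : k = ∑ ψ : IrrCharacter G, m ψ * charDegree (ψ : G → ℂ) := by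
    have : (k : ℂ) = ((∑ ψ : IrrCharacter G, m ψ * charDegree (ψ : G → ℂ) : ℕ) : ℂ) := by
      rw [h1, Nat.cast_sum]
    exact_mod_cast this
  by_contra hcon
  push Not at hcon
  have h3 : Even (∑ ψ : IrrCharacter G, m ψ * charDegree (ψ : G → ℂ)) := by
    apply Finset.even_sum
    intro ψ _
    by_cases hodd : Odd (charDegree (ψ : G → ℂ))
    · have := hcon ψ hodd
      rw [hm ψ] at this
      have hm0 : m ψ = 0 := by exact_mod_cast this
      rw [hm0, zero_mul]
      exact Even.zero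
    · exact Even.mul_left (Nat.not_odd_iff_even.1 hodd) _
  rw [← h2] at h3
  exact (Nat.not_even_iff_odd.2 hk) h3

/-- the character-theoretic core -/
theorem core {G : Type u} [Group G] [Finite G] (P : Sylow 2 G) (V : Subgroup G) [hVn : V.Normal]
    (hVc : ∀ a ∈ V, ∀ b ∈ V, a * b = b * a) (hVodd : Odd (Nat.card V))
    (hN : Subgroup.normalizer ((P : Subgroup G) : Set G) ≤ (P : Subgroup G) ⊔ V)
    (v : G) (hvV : v ∈ V) (hv1 : v ≠ 1) (hvP : ∀ x ∈ (P : Subgroup G), x * v = v * x)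
    (h : ∀ χ : IrrCharacter G, Odd (charDegree (χ : G → ℂ)) →
      ∀ g : G, ((χ : G → ℂ) g).im = 0) : False := by
  classical
  let _ : Fintype G := Fintype.ofFinite G
  let _ := Cfsg.Agent.Helper74.irrFintype ↥((P : Subgroup G) ⊔ V)
  have hPV := eq_one_of_mem_sylow_of_mem_odd P V hVodd
  obtain ⟨lam, hlamv, hinv⟩ := exists_invariant_lin P V hVc hVodd v hvV hv1 hvP
  obtain ⟨lamh, hext⟩ := exists_extension (P : Subgroup G) V hPV lam hinv
  have hVH : V ≤ (P : Subgroup G) ⊔ V := le_sup_right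
  have hPH : (P : Subgroup G) ≤ (P : Subgroup G) ⊔ V := le_sup_left
  -- the induced character
  have hlamhc : IsCharacter ↥((P : Subgroup G) ⊔ V) (Cfsg.Agent.Helper74.linFun lamh) :=
    Cfsg.Agent.Helper74.linFun_isCharacter lamh
  have hΘ : IsCharacter G (indFun ((P : Subgroup G) ⊔ V) (Cfsg.Agent.Helper74.linFun lamh)) :=
    Cfsg.Agent.Helper15.isCharacter_indFun _ hlamhc
  have hΘ1 : indFun ((P : Subgroup G) ⊔ V) (Cfsg.Agent.Helper74.linFun lamh) 1 =
      ((((P : Subgroup G) ⊔ V).index : ℕ) : ℂ) := by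
    rw [Cfsg.Agent.Helper15.indFun_apply_one]
    simp [Cfsg.Agent.Helper74.linFun]
  have hidx : Odd ((P : Subgroup G) ⊔ V).index := by
    have h1 : ((P : Subgroup G) ⊔ V).index ∣ (P : Subgroup G).index :=
      Subgroup.index_dvd_of_le hPH
    have h2 : ¬ 2 ∣ (P : Subgroup G).index := P.not_dvd_index
    exact Odd.of_dvd_nat (Nat.odd_iff.2 (Nat.two_dvd_ne_zero.1 h2)) h1
  obtain ⟨χ, hχodd, hχΘ⟩ := exists_odd_constituent hΘ _ hidx hΘ1
  have hχc : IsCharacter G (χ : G → ℂ) := Cfsg.Agent.Helper74.irr_isCharacter χ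
  have hχcf : IsClassFunction G (χ : G → ℂ) :=
    Cfsg.Agent.Helper74.isClassFunction_of_isCharacter hχc
  -- Frobenius reciprocity
  have h6 : classInner (fun t : ↥((P : Subgroup G) ⊔ V) => (χ : G → ℂ) t)
      (Cfsg.Agent.Helper74.linFun lamh) ≠ 0 := by
    rw [Cfsg.Agent.Helper15.frobenius_reciprocity _ _ _ hχcf] at hχΘ
    intro h0
    apply hχΘ
    rw [← Cfsg.Agent.Helper15.classInner_conj_symm, h0, map_zero]
  -- restriction to `V`
  have hlamc : IsCharacter ↥V (Cfsg.Agent.Helper74.linFun lam) :=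
    Cfsg.Agent.Helper74.linFun_isCharacter lam
  obtain ⟨m, f, e, hm, hf, he, hsum⟩ :=
    Cfsg.Agent.Helper81.exists_nat_inner_restrict V ((P : Subgroup G) ⊔ V) hVH hχc hlamc
  have hm0 : m ⟨Cfsg.Agent.Helper74.linFun lamh,
      Cfsg.Agent.Helper80.isIrrCharacter_of_monoidHom lamh⟩ ≠ 0 := by
    intro h0
    apply h6
    have := hm ⟨Cfsg.Agent.Helper74.linFun lamh,
      Cfsg.Agent.Helper80.isIrrCharacter_of_monoidHom lamh⟩
    rw [h0] at this
    simpa using this
  have hres : Cfsg.Agent.Helper15.resTo V ((P : Subgroup G) ⊔ V) hVH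
      (Cfsg.Agent.Helper74.linFun lamh) = Cfsg.Agent.Helper74.linFun lam := by
    funext w
    rw [Cfsg.Agent.Helper15.resTo_apply]
    show ((lamh ⟨w, _⟩ : ℂˣ) : ℂ) = ((lam w : ℂˣ) : ℂ)
    rw [hext w]
  have hf0 : f ⟨Cfsg.Agent.Helper74.linFun lamh,
      Cfsg.Agent.Helper80.isIrrCharacter_of_monoidHom lamh⟩ = 1 := by
    have h1 := hf ⟨Cfsg.Agent.Helper74.linFun lamh,
      Cfsg.Agent.Helper80.isIrrCharacter_of_monoidHom lamh⟩
    rw [hres] at h1
    have h2 : classInner (Cfsg.Agent.Helper74.linFun lam) (Cfsg.Agent.Helper74.linFun lam) = 1 := by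
      have := Cfsg.Agent.Helper74.irr_orthonormal
        (⟨Cfsg.Agent.Helper74.linFun lam,
          Cfsg.Agent.Helper80.isIrrCharacter_of_monoidHom lam⟩ : IrrCharacter ↥V)
        ⟨Cfsg.Agent.Helper74.linFun lam, Cfsg.Agent.Helper80.isIrrCharacter_of_monoidHom lam⟩
      simpa using this
    rw [h2] at h1
    exact_mod_cast h1.symm
  have he0 : e ≠ 0 := by
    rw [hsum]
    intro h0
    have := (Finset.sum_eq_zero_iff.1 h0) ⟨Cfsg.Agent.Helper74.linFun lamh,
      Cfsg.Agent.Helper80.isIrrCharacter_of_monoidHom lamh⟩ (Finset.mem_univ _)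
    rw [hf0, mul_one] at this
    exact hm0 this
  have h7 : classInner (fun n : ↥V => (χ : G → ℂ) n) (Cfsg.Agent.Helper74.linFun lam) ≠ 0 := by
    rw [he]
    exact_mod_cast he0
  -- `χ` is real, so the inverse of `lam` is also a constituent
  have hχreal : ∀ g, conj ((χ : G → ℂ) g) = (χ : G → ℂ) g :=
    fun g => Complex.conj_eq_iff_im.2 (h χ hχodd g)
  have hconj : (fun w : ↥V => conj (Cfsg.Agent.Helper74.linFun lam w)) =
      Cfsg.Agent.Helper74.linFun lam⁻¹ := by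
    funext w
    exact Cfsg.Agent.Helper74.monoidHom_conj_eq_inv lam w
  have h8 : classInner (fun n : ↥V => (χ : G → ℂ) n) (Cfsg.Agent.Helper74.linFun lam⁻¹) ≠ 0 := by
    have h1 := Cfsg.Agent.Helper74.classInner_conj_conj (fun n : ↥V => (χ : G → ℂ) n)
      (Cfsg.Agent.Helper74.linFun lam)
    rw [hconj] at h1
    have e2 : (fun n : ↥V => conj ((χ : G → ℂ) n)) = fun n : ↥V => (χ : G → ℂ) n := by
      funext n
      exact hχreal n
    rw [e2] at h1
    rw [h1]
    intro h0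
    apply h7
    simpa using h0
  -- Clifford
  obtain ⟨g, hg0⟩ := Cfsg.Agent.Helper15.exists_conj_of_constituents V χ.2
    (Cfsg.Agent.Helper80.isIrrCharacter_of_monoidHom lam)
    (Cfsg.Agent.Helper80.isIrrCharacter_of_monoidHom lam⁻¹) h7 h8
  have hg : Cfsg.Agent.Helper74.linFun lam⁻¹ =
      Cfsg.Agent.Helper15.conjFun V g (Cfsg.Agent.Helper74.linFun lam) := hg0
  have hPT : (P : Subgroup G) ≤
      Cfsg.Agent.Helper15.inertia V (Cfsg.Agent.Helper74.linFun lam) := by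
    intro x hx
    rw [Cfsg.Agent.Helper15.mem_inertia_iff]
    intro w
    show ((lam ⟨x * w * x⁻¹, _⟩ : ℂˣ) : ℂ) = ((lam w : ℂˣ) : ℂ)
    rw [hinv x hx w]
  have hPT' : (P : Subgroup G) ≤ Cfsg.Agent.Helper15.inertia V
      (Cfsg.Agent.Helper15.conjFun V g (Cfsg.Agent.Helper74.linFun lam)) := by
    rw [← hg]
    intro x hx
    rw [Cfsg.Agent.Helper15.mem_inertia_iff]
    intro w
    show (((lam⁻¹) ⟨x * w * x⁻¹, _⟩ : ℂˣ) : ℂ) = (((lam⁻¹) w : ℂˣ) : ℂ)
    rw [MonoidHom.inv_apply, MonoidHom.inv_apply, hinv x hx w]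
  obtain ⟨n, hnN, hn⟩ := Cfsg.Agent.Helper81.exists_normalizer_conj V P
    (Cfsg.Agent.Helper74.linFun lam) hPT g hPT'
  have hVT : V ≤ Cfsg.Agent.Helper15.inertia V (Cfsg.Agent.Helper74.linFun lam) :=
    Cfsg.Agent.Helper15.le_inertia V (Cfsg.Agent.Helper74.isClassFunction_of_isCharacter hlamc)
  have hnT : n ∈ Cfsg.Agent.Helper15.inertia V (Cfsg.Agent.Helper74.linFun lam) :=
    (sup_le hPT hVT) (hN hnN)
  rw [Cfsg.Agent.Helper15.mem_inertia] at hnT
  rw [hn, hnT] at hg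
  have hv2 : (((lam⁻¹) ⟨v, hvV⟩ : ℂˣ) : ℂ) = ((lam ⟨v, hvV⟩ : ℂˣ) : ℂ) :=
    congrFun hg ⟨v, hvV⟩
  have hv3 : lam ⟨v, hvV⟩ ^ 2 = 1 := by
    have h1 : (lam ⟨v, hvV⟩)⁻¹ = lam ⟨v, hvV⟩ := by
      apply Units.ext
      rw [← MonoidHom.inv_apply]
      exact hv2
    rw [sq]
    nth_rewrite 1 [← h1]
    exact inv_mul_cancel _
  have hv4 : lam ⟨v, hvV⟩ ^ Nat.card ↥V = 1 := by
    rw [← map_pow, pow_card_eq_one', map_one]
  have h9 := pow_gcd_eq_one.2 ⟨hv3, hv4⟩
  rw [(Nat.coprime_two_left.2 hVodd : Nat.gcd 2 (Nat.card ↥V) = 1), pow_one] at h9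
  exact hlamv h9

theorem main_aux : ∀ (n : ℕ) (G : Type u) [Group G] [Finite G] [Group.IsSolvable G],
    Nat.card G = n → ∀ P : Sylow 2 G,
      (∀ χ : IrrCharacter G, Odd (charDegree (χ : G → ℂ)) → ∀ g : G, ((χ : G → ℂ) g).im = 0) →
      Subgroup.normalizer ((P : Subgroup G) : Set G) = (P : Subgroup G) := by
  intro n
  induction n using Nat.strong_induction_on with
  | _ n ih =>
  intro G _ _ _ hn P h
  by_cases hsub : Subsingleton G
  · apply le_antisymm _ Subgroup.le_normalizer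
    intro g _
    rw [Subsingleton.elim g 1]
    exact Subgroup.one_mem _
  have hnt : Nontrivial G := not_subsingleton_iff_nontrivial.mp hsub
  obtain ⟨V, hVn, hVbot, hVmin⟩ := Cfsg.Agent.Lib.exists_minimal_normal (G := G)
  haveI := hVn
  obtain ⟨hVab, r, hr, hVr⟩ := Cfsg.Agent.S0043.result V hVbot hVmin
  haveI : Fact r.Prime := ⟨hr⟩
  have hVcard : 1 < Nat.card V := by
    rcases Nat.lt_or_ge 1 (Nat.card V) with h1 | h1
    · exact h1
    · exfalso
      have hpos : 0 < Nat.card V := Nat.card_pos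
      exact hVbot (Subgroup.card_eq_one.1 (by omega))
  have hcard : Nat.card (G ⧸ V) < n := by
    rw [← hn, ← Subgroup.index_eq_card, ← V.card_mul_index]
    have hpos : 0 < V.index := Nat.pos_of_ne_zero Subgroup.index_ne_zero_of_finite
    nlinarith
  have hq : ∀ ψ : IrrCharacter (G ⧸ V), Odd (charDegree (ψ : G ⧸ V → ℂ)) →
      ∀ g : G ⧸ V, ((ψ : G ⧸ V → ℂ) g).im = 0 := by
    intro ψ hodd g
    obtain ⟨g, rfl⟩ := QuotientGroup.mk_surjective g
    have hdeg : charDegree ((Cfsg.Agent.Helper80.irrQuotientEquiv V ψ).1 : G → ℂ) =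
        charDegree (ψ : G ⧸ V → ℂ) := by
      unfold charDegree
      rw [Cfsg.Agent.Helper80.irrQuotientEquiv_apply]
      rfl
    have := h (Cfsg.Agent.Helper80.irrQuotientEquiv V ψ).1 (by rw [hdeg]; exact hodd) g
    rwa [Cfsg.Agent.Helper80.irrQuotientEquiv_apply] at this
  have hIH := ih _ hcard (G ⧸ V) rfl (P.mapSurjective (QuotientGroup.mk'_surjective V)) hq
  have hN : Subgroup.normalizer ((P : Subgroup G) : Set G) ≤ (P : Subgroup G) ⊔ V := by
    intro g hg
    have h1 : QuotientGroup.mk' V g ∈ Subgroup.normalizer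
        (((P : Subgroup G).map (QuotientGroup.mk' V) : Subgroup (G ⧸ V)) : Set (G ⧸ V)) :=
      Subgroup.le_normalizer_map (QuotientGroup.mk' V) ⟨g, hg, rfl⟩
    rw [Sylow.coe_mapSurjective] at hIH
    rw [hIH] at h1
    have h2 : g ∈ ((P : Subgroup G).map (QuotientGroup.mk' V)).comap (QuotientGroup.mk' V) := h1
    rw [Subgroup.comap_map_eq, QuotientGroup.ker_mk'] at h2
    exact h2
  apply le_antisymm _ Subgroup.le_normalizer
  by_cases h2V : 2 ∣ Nat.card V
  · have hr2 : r = 2 := by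
      obtain ⟨x, hx⟩ := exists_prime_orderOf_dvd_card' 2 h2V
      have h1 : (x : G) ^ r = 1 := hVr x x.2
      have h2 : orderOf (x : G) = 2 := by rw [Subgroup.orderOf_coe]; exact hx
      have h3 : 2 ∣ r := by rw [← h2]; exact orderOf_dvd_of_pow_eq_one h1
      exact ((Nat.prime_dvd_prime_iff_eq Nat.prime_two hr).1 h3).symm
    have hV2 : IsPGroup 2 V := by
      intro x
      refine ⟨1, ?_⟩
      apply Subtype.ext
      have := hVr x x.2
      rw [hr2] at this
      simpa using this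
    have hVP : V ≤ (P : Subgroup G) := hV2.le_sylow_of_normal P
    exact hN.trans (sup_le le_rfl hVP)
  · have hVodd : Odd (Nat.card V) := Nat.odd_iff.2 (Nat.two_dvd_ne_zero.1 h2V)
    intro g hg
    by_contra hgP
    obtain ⟨p, hp, v, hv, rfl⟩ := Subgroup.mem_sup_of_normal_right.1 (hN hg)
    have hvN : v ∈ Subgroup.normalizer ((P : Subgroup G) : Set G) := by
      have e : v = p⁻¹ * (p * v) := by group
      rw [e]
      exact Subgroup.mul_mem _ (Subgroup.inv_mem _ (Subgroup.le_normalizer hp)) hg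
    have hv1 : v ≠ 1 := by
      rintro rfl
      exact hgP (by simpa using hp)
    have hPV : ∀ z, z ∈ (P : Subgroup G) → z ∈ V → z = 1 := by
      intro z hzP hzV
      obtain ⟨k, hk⟩ := (IsPGroup.iff_orderOf.1 P.isPGroup') ⟨z, hzP⟩
      rw [Subgroup.orderOf_mk] at hk
      have h1 : orderOf z ∣ Nat.card V := by
        have := orderOf_dvd_natCard (⟨z, hzV⟩ : ↥V)
        rwa [Subgroup.orderOf_mk] at this
      have h2 : Nat.Coprime (2 ^ k) (Nat.card V) :=
        Nat.Coprime.pow_left k (Nat.coprime_two_left.2 hVodd)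
      rw [← hk] at h2
      have h3 : orderOf z = 1 := Nat.eq_one_of_dvd_coprimes h2 dvd_rfl h1
      exact orderOf_eq_one_iff.1 h3
    have hvP : ∀ x ∈ (P : Subgroup G), x * v = v * x := by
      intro x hx
      have h1 : v * x * v⁻¹ ∈ (P : Subgroup G) := (Subgroup.mem_normalizer_iff.1 hvN x).1 hx
      have h2 : v * (x * v⁻¹ * x⁻¹) ∈ V :=
        V.mul_mem hv (hVn.conj_mem v⁻¹ (V.inv_mem hv) x)
      have e : v * (x * v⁻¹ * x⁻¹) = v * x * v⁻¹ * x⁻¹ := by group
      rw [e] at h2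
      have h3 := hPV _ ((P : Subgroup G).mul_mem h1 ((P : Subgroup G).inv_mem hx)) h2
      calc x * v = (v * x * v⁻¹ * x⁻¹)⁻¹ * (v * x) := by group
        _ = v * x := by rw [h3, inv_one, one_mul]
    have hVc : ∀ a ∈ V, ∀ b ∈ V, a * b = b * a := by
      intro a ha b hb
      exact congrArg Subtype.val (hVab.is_comm.comm ⟨a, ha⟩ ⟨b, hb⟩)
    exact core P V hVc hVodd hN v hv hv1 hvP h

/-- **(I5)**: if all irreducible characters of odd degree of the solvable group `G` are real then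
a Sylow `2`-subgroup of `G` is self-normalizing. -/
theorem normalizer_eq_of_all_odd_real {G : Type u} [Group G] [Finite G] [Group.IsSolvable G]
    (P : Sylow 2 G)
    (h : ∀ χ : IrrCharacter G, Odd (charDegree (χ : G → ℂ)) → ∀ g : G, ((χ : G → ℂ) g).im = 0) :
    Subgroup.normalizer ((P : Subgroup G) : Set G) = (P : Subgroup G) :=
  main_aux _ G rfl P h

end Cfsg.Agent.Helper3.ROI5
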