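import Mathlib
import Cfsg.Agent.Helper81.RO0

/-!
# Real odd-degree characters: transport of sign characters along `ConjSign` (helper3, for helper81)

(N1) of board post #3262: `oddMult_of_conjSign` and `exists_conjSign`.
-/

set_option autoImplicit false
set_option linter.unusedSectionVars false
set_option linter.unusedVariables false

namespace Cfsg.Agent.Helper3.RON1

open Cfsg Cfsg.Agent.Helper81.RO
open scoped ComplexConjugate

universe u

/-- summation along a surjective homomorphism -/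
theorem sum_comp_surj {A B : Type*} [Group A] [Group B] [Fintype A] [Fintype B]
    (φ : A →* B) (hφ : Function.Surjective φ) (F : B → ℂ) :
    ∑ a : A, F (φ a) = (Nat.card φ.ker : ℂ) * ∑ b : B, F b := by
  classical
  rw [← Finset.sum_fiberwise (s := Finset.univ) (g := fun a => φ a) (f := fun a => F (φ a)),
    Finset.mul_sum]
  refine Finset.sum_congr rfl (fun b _ => ?_)
  have h1 : ∀ a ∈ Finset.univ.filter (fun a : A => φ a = b), F (φ a) = F b := by
    intro a ha
    rw [(Finset.mem_filter.mp ha).2]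
  rw [Finset.sum_congr rfl h1, Finset.sum_const, nsmul_eq_mul]
  congr 1
  have h2 := MonoidHom.card_fiber_eq_of_mem_range φ (x := b) (y := 1)
    (by obtain ⟨a, ha⟩ := hφ b; exact ⟨a, ha⟩) ⟨1, map_one φ⟩
  rw [h2]
  have h3 : Nat.card φ.ker = (Finset.univ.filter (fun a : A => φ a = 1)).card := by
    rw [Nat.card_eq_fintype_card, Fintype.card_subtype]
    congr 1
    ext a
    simp [MonoidHom.mem_ker]
  rw [h3]

variable {S G : Type u}

/-- if conjugation by `n` maps the (finite) image of `ι` into itself, it maps it onto itself -/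
theorem exists_preimage_conj [Group S] [Finite S] [Group G] (ι : S →* G) (n : G)
    (hn : ∀ s, ∃ s', ι s' = n * ι s * n⁻¹) : ∀ s', ∃ s, ι s' = n * ι s * n⁻¹ := by
  haveI : Finite ↥ι.range := Finite.of_surjective ι.rangeRestrict ι.rangeRestrict_surjective
  have hmem : ∀ x : ↥ι.range, n * (x : G) * n⁻¹ ∈ ι.range := by
    rintro ⟨_, s, rfl⟩
    obtain ⟨s', hs'⟩ := hn s
    exact ⟨s', hs'⟩
  let f : ↥ι.range → ↥ι.range := fun x => ⟨n * (x : G) * n⁻¹, hmem x⟩
  have hinj : Function.Injective f := by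
    intro x y hxy
    have h1 : n * (x : G) * n⁻¹ = n * (y : G) * n⁻¹ := congrArg Subtype.val hxy
    apply Subtype.ext
    have h2 := congrArg (fun z => n⁻¹ * z * n) h1
    simpa [mul_assoc] using h2
  have hsurj : Function.Surjective f := Finite.injective_iff_surjective.1 hinj
  intro s'
  obtain ⟨⟨_, s, rfl⟩, hx⟩ := hsurj ⟨ι s', s', rfl⟩
  exact ⟨s, (congrArg Subtype.val hx).symm⟩

theorem exists_conjSign [Group S] [Finite S] [Group G] (ι : S →* G) (n : G)
    (hn : ∀ s, ∃ s', ι s' = n * ι s * n⁻¹) (ν : S →* ℂˣ) (hker : ∀ s, ι s = 1 → ν s = 1) :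
    ∃ ν' : S →* ℂˣ, (∀ s s', ι s' = n * ι s * n⁻¹ → ν' s' = ν s) ∧ (IsSign ν → IsSign ν') := by
  have hpre := exists_preimage_conj ι n hn
  choose τ hτ using hpre
  have key0 : ∀ s1 s2, ι s1 = ι s2 → ν s1 = ν s2 := by
    intro s1 s2 h
    have h1 : ι (s1⁻¹ * s2) = 1 := by rw [map_mul, map_inv, h, inv_mul_cancel]
    have h2 := hker _ h1
    rw [map_mul, map_inv] at h2
    exact (inv_mul_eq_one.mp h2)
  have key : ∀ s s', ι s' = n * ι s * n⁻¹ → ν (τ s') = ν s := by
    intro s s' h
    apply key0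
    have h1 : n * ι (τ s') * n⁻¹ = n * ι s * n⁻¹ := by rw [← hτ s', h]
    have h2 := congrArg (fun z => n⁻¹ * z * n) h1
    simpa [mul_assoc] using h2
  refine ⟨MonoidHom.mk' (fun s' => ν (τ s')) ?_, ?_, ?_⟩
  · intro a b
    show ν (τ (a * b)) = ν (τ a) * ν (τ b)
    rw [← map_mul]
    apply key
    rw [map_mul, map_mul, hτ a, hτ b]
    group
  · intro s s' h
    exact key s s' h
  · intro hsign s'
    exact hsign (τ s')

theorem oddMult_of_conjSign [Group S] [Fintype S] [Group G] [Fintype G] (ι : S →* G)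
    {χ : G → ℂ} (hχ : IsClassFunction G χ) (ν ν' : S →* ℂˣ) (h : ConjSign ι ν ν')
    (hm : OddMult ι χ ν) : OddMult ι χ ν' := by
  classical
  obtain ⟨n, hn, hνν'⟩ := h
  obtain ⟨m, hmodd, hm⟩ := hm
  refine ⟨m, hmodd, ?_⟩
  rw [← hm]
  unfold classInner
  congr 1
  have hpre := exists_preimage_conj ι n hn
  have hφ : Function.Surjective ι.rangeRestrict := ι.rangeRestrict_surjective
  have key1 : ∀ s1 s2, ι s1 = ι s2 → ν s1 = ν s2 := by
    intro s1 s2 h12
    obtain ⟨t, ht⟩ := hn s1
    have h1 := hνν' s1 t ht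
    have h2 := hνν' s2 t (by rw [← h12]; exact ht)
    rw [← h1, ← h2]
  have key2 : ∀ s1 s2, ι s1 = ι s2 → ν' s1 = ν' s2 := by
    intro s1 s2 h12
    obtain ⟨t, ht⟩ := hpre s1
    have h1 := hνν' t s1 ht
    have h2 := hνν' t s2 (by rw [← h12]; exact ht)
    rw [h1, h2]
  have hsp : ∀ x : ↥ι.range, ι (Function.surjInv hφ x) = (x : G) := by
    intro x
    have := Function.surjInv_eq hφ x
    exact congrArg Subtype.val this
  have h1 : ∀ s, χ (ι s) * conj (Helper74.linFun ν s) =
      (fun x : ↥ι.range => χ (x : G) * conj (Helper74.linFun ν (Function.surjInv hφ x)))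
        (ι.rangeRestrict s) := by
    intro s
    show _ = χ (ι s) * conj (Helper74.linFun ν (Function.surjInv hφ (ι.rangeRestrict s)))
    have : ν s = ν (Function.surjInv hφ (ι.rangeRestrict s)) :=
      key1 _ _ (hsp (ι.rangeRestrict s)).symm
    simp only [Helper74.linFun_apply, this]
  have h2 : ∀ s, χ (ι s) * conj (Helper74.linFun ν' s) =
      (fun x : ↥ι.range => χ (x : G) * conj (Helper74.linFun ν' (Function.surjInv hφ x)))
        (ι.rangeRestrict s) := by
    intro s
    show _ = χ (ι s) * conj (Helper74.linFun ν' (Function.surjInv hφ (ι.rangeRestrict s)))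
    have : ν' s = ν' (Function.surjInv hφ (ι.rangeRestrict s)) :=
      key2 _ _ (hsp (ι.rangeRestrict s)).symm
    simp only [Helper74.linFun_apply, this]
  rw [Finset.sum_congr rfl (fun s _ => h1 s), Finset.sum_congr rfl (fun s _ => h2 s)]
  have e1 := sum_comp_surj ι.rangeRestrict hφ
    (fun x : ↥ι.range => χ (x : G) * conj (Helper74.linFun ν (Function.surjInv hφ x)))
  have e2 := sum_comp_surj ι.rangeRestrict hφ
    (fun x : ↥ι.range => χ (x : G) * conj (Helper74.linFun ν' (Function.surjInv hφ x)))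
  rw [e1, e2]
  congr 1
  -- conjugation by `n` as a permutation of the image
  have hmem : ∀ x : ↥ι.range, n * (x : G) * n⁻¹ ∈ ι.range := by
    rintro ⟨_, s, rfl⟩
    obtain ⟨s', hs'⟩ := hn s
    exact ⟨s', hs'⟩
  have hinj : Function.Injective (fun x : ↥ι.range => (⟨n * (x : G) * n⁻¹, hmem x⟩ : ↥ι.range)) := by
    intro x y hxy
    have h1 : n * (x : G) * n⁻¹ = n * (y : G) * n⁻¹ := congrArg Subtype.val hxy
    apply Subtype.ext
    have h2 := congrArg (fun z => n⁻¹ * z * n) h1
    simpa [mul_assoc] using h2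
  have hbij : Function.Bijective
      (fun x : ↥ι.range => (⟨n * (x : G) * n⁻¹, hmem x⟩ : ↥ι.range)) :=
    ⟨hinj, Finite.injective_iff_surjective.1 hinj⟩
  rw [← Equiv.sum_comp (Equiv.ofBijective _ hbij)
    (fun x : ↥ι.range => χ (x : G) * conj (Helper74.linFun ν' (Function.surjInv hφ x)))]
  refine Finset.sum_congr rfl (fun x _ => ?_)
  show χ (n * (x : G) * n⁻¹) * conj (Helper74.linFun ν'
      (Function.surjInv hφ (⟨n * (x : G) * n⁻¹, hmem x⟩ : ↥ι.range))) =
    χ (x : G) * conj (Helper74.linFun ν (Function.surjInv hφ x))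
  rw [hχ (x : G) n]
  have h3 : ν' (Function.surjInv hφ (⟨n * (x : G) * n⁻¹, hmem x⟩ : ↥ι.range)) =
      ν (Function.surjInv hφ x) := by
    apply hνν'
    rw [hsp, hsp]
  simp only [Helper74.linFun_apply, h3]

end Cfsg.Agent.Helper3.RON1
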