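import Mathlib
import Cfsg.Prelude.Def_Characters

/-!
# The regular character (helper3)
-/

set_option autoImplicit false

namespace Cfsg.Agent.Helper3

open Module Representation

/-- The character of the left regular representation. -/
theorem leftRegular_character {G : Type*} [Group G] [Fintype G] [DecidableEq G] (g : G) :
    (Representation.leftRegular ℂ G).character g = if g = 1 then (Nat.card G : ℂ) else 0 := by
  rw [Representation.character, LinearMap.trace_eq_matrix_trace ℂ (MonoidAlgebra.basis G ℂ),
    Matrix.trace]
  have h : ∀ x : G, Matrix.diag ((LinearMap.toMatrix (MonoidAlgebra.basis G ℂ)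
      (MonoidAlgebra.basis G ℂ)) ((Representation.leftRegular ℂ G) g)) x =
      if g = 1 then 1 else 0 := by
    intro x
    rw [Matrix.diag_apply, LinearMap.toMatrix_apply, MonoidAlgebra.basis_apply,
      Representation.ofMulAction_single]
    change (MonoidAlgebra.single (g • x) (1 : ℂ)).coeff x = _
    rw [MonoidAlgebra.coeff_single, Finsupp.single_apply, smul_eq_mul]
    by_cases hg : g = 1
    · simp [hg]
    · rw [if_neg hg, if_neg]
      intro h
      apply hg
      exact mul_eq_right.mp h
  simp only [h]
  split_ifs with hg
  · simp [Nat.card_eq_fintype_card]
  · simp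

end Cfsg.Agent.Helper3
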