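import Mathlib
import Cfsg.Agent.Helper77.Res.Defs
import Cfsg.Agent.Helper87.FusionBasic
import Cfsg.Agent.Helper87.FusionFrobenius
import Cfsg.Agent.Helper31.ResGL

/-!
# S5289 swarm piece (G2) `transport_pearl` (helper3 for helper77, #14084): the core lemma takes the glue piece (GL)
as a hypothesis; the verbatim statement then uses helper31's landed (GL).
-/

set_option autoImplicit false

universe u

namespace Cfsg.Agent.Helper3.Res

open Subgroup Cfsg.Agent.Helper77.Res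

variable {Ω : Type u} [Group Ω] {p : ℕ} [hp : Fact p.Prime]

/-- a subgroup closed under conjugation by the elements of `K` is normalized by `K` -/
theorem g2_le_normalizer_of_conj_mem {K H : Subgroup Ω} (h : ∀ k ∈ K, ∀ y ∈ H, k * y * k⁻¹ ∈ H) :
    K ≤ Subgroup.normalizer (H : Set Ω) := by
  intro k hk
  rw [Subgroup.mem_normalizer_iff]
  intro y
  constructor
  · exact h k hk y
  · intro hy
    have := h k⁻¹ (K.inv_mem hk) _ hy
    simpa [mul_assoc] using this

section glue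
variable {S : Subgroup Ω} [Finite S]

open Cfsg Cfsg.FusionSystem

theorem transport_pearl_core (hS : IsPGroup p S) (F : FusionSystem S) (hF : F.IsSaturated p)
    (hGL : ∀ Q : Subgroup Ω, F.IsFullyAutomized p Q → F.IsReceptive Q → centralizerIn S Q ≤ Q → Q ≠ S →
      Cfg p (normalizerIn S Q) Q (F.autGroup Q) (F.autGroup (normalizerIn S Q)))
    (P : Subgroup Ω) (hPn : F.IsFullyNormalized P) (hPc : F.IsCentric P)
    (hpearl : Pearl p (normalizerIn S P) P (F.autGroup (normalizerIn S P))) (hTS : normalizerIn S P ≠ S) :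
    ∃ (T' P' : Subgroup Ω),
      Cfg p (normalizerIn S T') T' (F.autGroup T') (F.autGroup (normalizerIn S T')) ∧
      Nat.card T' = p ^ 3 ∧ (∀ x ∈ T', x ^ p = 1) ∧ (∃ a ∈ T', ∃ b ∈ T', a * b ≠ b * a) ∧
      P' ≤ T' ∧ Nat.card P' = p ^ 2 ∧ (∃ s ∈ normalizerIn S T', ∃ x ∈ P', s * x * s⁻¹ ∉ P') ∧
      ∃ ψ ∈ F.autGroup T', ∃ a : ℕ, a ^ 2 % p ≠ 1 ∧ (orderOf ψ).Coprime p ∧
        ∀ x : T', (x : Ω) ∈ P' → ((ψ x : T') : Ω) ∈ P' ∧
          ∀ t ∈ T', (((x : Ω) ^ a)⁻¹ * ((ψ x : T') : Ω)) * t = t * (((x : Ω) ^ a)⁻¹ * ((ψ x : T') : Ω)) := by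
  classical
  obtain ⟨hPcard, hTcard, hTexp, ψ, hψ, a, ha, hcop, hψP⟩ := hpearl
  have hPS : P ≤ S := hPc.1
  have hTS' : normalizerIn S P ≤ S := inf_le_left
  have hTnorm : normalizerIn S P ≤ Subgroup.normalizer (P : Set Ω) := inf_le_right
  have hPT : P ≤ normalizerIn S P := Cfsg.Agent.Helper87.le_normalizerIn hPS
  obtain ⟨T', hconj, hTa, hTr⟩ := hF (normalizerIn S P) hTS'
  obtain ⟨e, he⟩ := (Cfsg.Agent.Helper87.isConj_iff F (normalizerIn S P) T').mp hconj
  have hT'S : T' ≤ S := he.le_right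
  have hf : T'.subtype.comp e.toMonoidHom ∈ F.Hom (normalizerIn S P) := he
  have hfinj : Function.Injective (T'.subtype.comp e.toMonoidHom) := F.injective_of_mem hf
  have hfapp : ∀ y : normalizerIn S P, (T'.subtype.comp e.toMonoidHom) y = ((e y : T') : Ω) := fun y => rfl
  -- membership in P'
  have hmemP' : ∀ z : Ω, z ∈ (P.subgroupOf (normalizerIn S P)).map (T'.subtype.comp e.toMonoidHom) ↔
      ∃ y : normalizerIn S P, (y : Ω) ∈ P ∧ ((e y : T') : Ω) = z := by
    intro z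
    rw [Subgroup.mem_map]
    constructor
    · rintro ⟨y, hy, rfl⟩
      exact ⟨y, Subgroup.mem_subgroupOf.mp hy, rfl⟩
    · rintro ⟨y, hy, rfl⟩
      exact ⟨y, Subgroup.mem_subgroupOf.mpr hy, rfl⟩
  -- cardinalities
  have hT'card : Nat.card T' = p ^ 3 := by
    rw [← hTcard]; exact (Nat.card_congr e.toEquiv).symm
  have hP'card : Nat.card ((P.subgroupOf (normalizerIn S P)).map (T'.subtype.comp e.toMonoidHom)) = p ^ 2 := by
    rw [Subgroup.card_map_of_injective hfinj, ← hPcard]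
    exact Nat.card_congr (Subgroup.subgroupOfEquivOfLe hPT).toEquiv
  have hP'T' : (P.subgroupOf (normalizerIn S P)).map (T'.subtype.comp e.toMonoidHom) ≤ T' := by
    intro z hz
    obtain ⟨y, -, rfl⟩ := (hmemP' z).mp hz
    exact (e y).2
  -- `P` and `P'` are `F`-conjugate
  have hPP' : F.IsConj P ((P.subgroupOf (normalizerIn S P)).map (T'.subtype.comp e.toMonoidHom)) := by
    refine ⟨(T'.subtype.comp e.toMonoidHom).comp (Subgroup.inclusion hPT),
      Cfsg.Agent.Helper87.restrict_mem F hf hPT, ?_⟩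
    ext z
    rw [hmemP', MonoidHom.mem_range]
    constructor
    · rintro ⟨y, rfl⟩
      exact ⟨Subgroup.inclusion hPT y, y.2, rfl⟩
    · rintro ⟨y, hy, rfl⟩
      exact ⟨⟨(y : Ω), hy⟩, rfl⟩
  have hPPself : F.IsConj P P := ⟨P.subtype, Cfsg.Agent.Helper87.subtype_mem F hPS, Subgroup.range_subtype P⟩
  -- `T` is nonabelian
  have hp1 : 1 < p := hp.out.one_lt
  have hTna : ∃ a ∈ normalizerIn S P, ∃ b ∈ normalizerIn S P, a * b ≠ b * a := by
    by_contra hcon
    push Not at hcon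
    have h1 : normalizerIn S P ≤ centralizerIn S P := by
      intro t ht
      refine ⟨hTS' ht, ?_⟩
      show t ∈ Subgroup.centralizer (P : Set Ω)
      rw [Subgroup.mem_centralizer_iff]
      intro x hx
      exact hcon x (hPT hx) t ht
    have h2 : normalizerIn S P ≤ P := h1.trans (hPc.2 P hPPself)
    have h3 : P = normalizerIn S P := le_antisymm hPT h2
    rw [← h3, hPcard] at hTcard
    have := Nat.pow_right_injective (hp1 : 2 ≤ p) hTcard
    omega
  have hT'ne : T' ≠ S := by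
    intro h
    apply hTS
    refine Subgroup.eq_of_le_of_card_ge hTS' ?_
    rw [hTcard, ← hT'card, h]
  have hcent : centralizerIn S T' ≤ T' := by
    refine le_trans ?_ ((hPc.2 _ hPP').trans hP'T')
    exact inf_le_inf_left S (Subgroup.centralizer_le hP'T')
  -- `T' ≤ N_S(P')`
  have hT'N : T' ≤ normalizerIn S ((P.subgroupOf (normalizerIn S P)).map (T'.subtype.comp e.toMonoidHom)) := by
    refine le_inf hT'S (g2_le_normalizer_of_conj_mem ?_)
    intro k hk z hz
    obtain ⟨y, hy, rfl⟩ := (hmemP' z).mp hz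
    rw [hmemP']
    refine ⟨e.symm ⟨k, hk⟩ * y * (e.symm ⟨k, hk⟩)⁻¹, ?_, ?_⟩
    · have hn := hTnorm (e.symm ⟨k, hk⟩).2
      rw [Subgroup.mem_normalizer_iff] at hn
      have := (hn (y : Ω)).mp hy
      simpa using this
    · simp
  have hNfin : Finite (normalizerIn S ((P.subgroupOf (normalizerIn S P)).map (T'.subtype.comp e.toMonoidHom))) :=
    Cfsg.Agent.Helper87.finite_of_le inf_le_left
  have hNeq : T' = normalizerIn S ((P.subgroupOf (normalizerIn S P)).map (T'.subtype.comp e.toMonoidHom)) := by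
    refine Subgroup.eq_of_le_of_card_ge hT'N ?_
    rw [hT'card, ← hTcard]
    exact hPn.2 _ hPP'
  have hlt : T' < normalizerIn S T' :=
    Cfsg.Agent.Helper87.lt_normalizerIn hS (lt_of_le_of_ne hT'S hT'ne)
  have hψiso := (Cfsg.Agent.Helper87.mem_autGroup_iff F hTS' ψ).mp hψ
  refine ⟨T', (P.subgroupOf (normalizerIn S P)).map (T'.subtype.comp e.toMonoidHom),
    hGL T' hTa hTr hcent hT'ne, hT'card, ?_, ?_, hP'T', hP'card, ?_, MulAut.congr e ψ, ?_, a, ha, ?_, ?_⟩
  · -- exponent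
    intro x hx
    have h1 : (e.symm ⟨x, hx⟩) ^ p = 1 := Subtype.ext (by
      have := hTexp _ (e.symm ⟨x, hx⟩).2
      simpa using this)
    have h2 : (⟨x, hx⟩ : T') ^ p = 1 := by
      have := congrArg e h1
      simpa using this
    have := congrArg Subtype.val h2
    simpa using this
  · -- nonabelian
    obtain ⟨a1, ha1, b1, hb1, hab⟩ := hTna
    refine ⟨(e ⟨a1, ha1⟩ : T'), (e ⟨a1, ha1⟩).2, (e ⟨b1, hb1⟩ : T'), (e ⟨b1, hb1⟩).2, ?_⟩
    intro h
    apply hab
    have h' : e ⟨a1, ha1⟩ * e ⟨b1, hb1⟩ = e ⟨b1, hb1⟩ * e ⟨a1, ha1⟩ := Subtype.ext h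
    rw [← map_mul, ← map_mul] at h'
    have := e.injective h'
    exact congrArg Subtype.val this
  · -- `P'` is not normal in `N_S(T')`
    by_contra hcon
    push Not at hcon
    have h1 : normalizerIn S T' ≤ T' := by
      conv_rhs => rw [hNeq]
      exact le_inf inf_le_left (g2_le_normalizer_of_conj_mem hcon)
    exact absurd hlt (not_lt_of_ge h1)
  · -- `ψ' ∈ Aut_F(T')`
    rw [Cfsg.Agent.Helper87.mem_autGroup_iff F hT'S]
    exact Cfsg.Agent.Helper87.IsIso.trans (Cfsg.Agent.Helper87.IsIso.symm he)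
      (Cfsg.Agent.Helper87.IsIso.trans hψiso he)
  · rw [MulEquiv.orderOf_eq]; exact hcop
  · intro x hx
    obtain ⟨y, hy, hyx⟩ := (hmemP' _).mp hx
    have hex : e y = x := Subtype.ext hyx
    have hsymm : e.symm x = y := by rw [← hex]; simp
    have hψx : (MulAut.congr e ψ) x = e (ψ y) := by
      show e (ψ (e.symm x)) = e (ψ y)
      rw [hsymm]
    obtain ⟨h1, h2⟩ := hψP y hy
    refine ⟨?_, ?_⟩
    · rw [hψx, hmemP']
      exact ⟨ψ y, h1, rfl⟩
    · intro t ht
      have h3 := h2 _ (e.symm ⟨t, ht⟩).2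
      have h4 : ((y ^ a)⁻¹ * ψ y) * e.symm ⟨t, ht⟩ = e.symm ⟨t, ht⟩ * ((y ^ a)⁻¹ * ψ y) := Subtype.ext (by
        simpa using h3)
      have h5 := congrArg e h4
      simp only [map_mul, map_inv, map_pow, MulEquiv.apply_symm_apply, hex] at h5
      have h6 := congrArg Subtype.val h5
      rw [hψx]
      simpa using h6

/-- (G2) transport to a fully normalized conjugate: statement VERBATIM from `tools/helper77_res/Skel.lean.txt`. -/
theorem transport_pearl (hS : IsPGroup p S) (F : FusionSystem S) (hF : F.IsSaturated p)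
    (hrk : ∀ E : Subgroup Ω, E ≤ S → Cfsg.IsElementaryAbelian p E → Nat.card E ≤ p ^ 2)
    (P : Subgroup Ω) (hPn : F.IsFullyNormalized P) (hPc : F.IsCentric P)
    (hpearl : Pearl p (normalizerIn S P) P (F.autGroup (normalizerIn S P))) (hTS : normalizerIn S P ≠ S) :
    ∃ (T' P' : Subgroup Ω),
      Cfg p (normalizerIn S T') T' (F.autGroup T') (F.autGroup (normalizerIn S T')) ∧
      Nat.card T' = p ^ 3 ∧ (∀ x ∈ T', x ^ p = 1) ∧ (∃ a ∈ T', ∃ b ∈ T', a * b ≠ b * a) ∧
      P' ≤ T' ∧ Nat.card P' = p ^ 2 ∧ (∃ s ∈ normalizerIn S T', ∃ x ∈ P', s * x * s⁻¹ ∉ P') ∧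
      ∃ ψ ∈ F.autGroup T', ∃ a : ℕ, a ^ 2 % p ≠ 1 ∧ (orderOf ψ).Coprime p ∧
        ∀ x : T', (x : Ω) ∈ P' → ((ψ x : T') : Ω) ∈ P' ∧
          ∀ t ∈ T', (((x : Ω) ^ a)⁻¹ * ((ψ x : T') : Ω)) * t = t * (((x : Ω) ^ a)⁻¹ * ((ψ x : T') : Ω)) :=
  transport_pearl_core hS F hF
    (fun Q hQa hQr hQc hQS => Cfsg.Agent.Helper31.Res.cfg_of_receptive hS F hrk Q hQa hQr hQc hQS)
    P hPn hPc hpearl hTS

end glue

end Cfsg.Agent.Helper3.Res
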