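import Mathlib
import Cfsg.Prelude.Def_Characters
import Cfsg.Agent.Helper3.Monomial
import Cfsg.Agent.Helper3.BrauerGlobal
import Cfsg.Agent.Helper15.Clifford

/-!
# Brauer's splitting field theorem (helper3)

If the subfield `K` of `ℂ` contains all roots of unity of order dividing the exponent of `G`, then
every complex character of `G` is the character of a representation over `K`, and every complex
matrix representation is equivalent to one with entries in `K`.
-/

set_option autoImplicit false
set_option linter.unusedSectionVars false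

namespace Cfsg.Agent.Helper3

open Cfsg Module Representation Cfsg.Agent.Helper15
open scoped ComplexConjugate

universe u

variable {K : Subfield ℂ} {G : Type u} [Group G] [Fintype G]

theorem hom_mem_of_exponent (hK : ∀ z : ℂ, z ^ Monoid.exponent G = 1 → z ∈ K)
    (E : Subgroup G) (lam : E →* ℂˣ) (e : E) : ((lam e : ℂˣ) : ℂ) ∈ K := by
  apply hK
  have h1 : e ^ Monoid.exponent G = 1 := by
    apply Subtype.ext
    rw [Subgroup.coe_pow, Monoid.pow_exponent_eq_one]
    rfl
  rw [← Units.val_pow_eq_pow_val, ← map_pow, h1, map_one]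
  rfl

theorem brauerLinSpan_le_kIrr_closure (hK : ∀ z : ℂ, z ^ Monoid.exponent G = 1 → z ∈ K) :
    brauerLinSpan G ≤ AddSubgroup.closure {χ : G → ℂ | IsKIrrChar K G χ} := by
  unfold brauerLinSpan
  rw [AddSubgroup.closure_le]
  rintro f ⟨E, lam, -, rfl⟩
  have h1 := isKChar_indFun_of_hom (K := K) E lam (hom_mem_of_exponent hK E lam)
  have h2 := h1.mem_closure
  have hle : AddSubmonoid.closure {χ : G → ℂ | IsKIrrChar K G χ} ≤
      (AddSubgroup.closure {χ : G → ℂ | IsKIrrChar K G χ}).toAddSubmonoid :=
    AddSubmonoid.closure_le.mpr AddSubgroup.subset_closure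
  exact hle h2

/-- Every irreducible complex character is afforded by a representation over `K`. -/
theorem isKChar_of_isIrrCharacter (hK : ∀ z : ℂ, z ^ Monoid.exponent G = 1 → z ∈ K)
    {χ : G → ℂ} (hχ : IsIrrCharacter G χ) : IsKChar K G χ := by
  classical
  letI := Helper74.irrFintype G
  have hχc : IsCharacter G χ := Helper74.isCharacter_of_isIrr hχ
  have hspan : χ ∈ AddSubgroup.closure {χ : G → ℂ | IsKIrrChar K G χ} :=
    brauerLinSpan_le_kIrr_closure hK
      (brauerSpanAll_le_brauerLinSpan (character_mem_brauerSpanAll hχc))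
  have hself : classInner χ χ = 1 := Helper74.irr_inner_self (⟨χ, hχ⟩ : IrrCharacter G)
  -- some K-irreducible character is not orthogonal to χ
  have hex : ∃ ψ : G → ℂ, IsKIrrChar K G ψ ∧ classInner χ ψ ≠ 0 := by
    by_contra hno
    push Not at hno
    have hall : ∀ θ ∈ AddSubgroup.closure {χ : G → ℂ | IsKIrrChar K G χ},
        classInner χ θ = 0 := by
      intro θ hθ
      induction hθ using AddSubgroup.closure_induction with
      | mem θ hθ => exact hno θ hθ
      | zero => unfold classInner; simp
      | add a b _ _ ha hb => rw [Helper74.classInner_add_right, ha, hb, add_zero]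
      | neg a _ ha => rw [Helper74.classInner_neg_right, ha, neg_zero]
    have := hall χ hspan
    rw [hself] at this
    exact one_ne_zero this
  obtain ⟨ψ, hψ, hne⟩ := hex
  have hψc : IsCharacter G ψ := hψ.isKChar.isCharacter
  obtain ⟨d, hdpos, hd⟩ := kIrr_inner_self hψ
  obtain ⟨k, hk⟩ := kIrr_inner_dvd hψ hspan
  obtain ⟨m, hm⟩ := isCharacter_inner_nat hχc hψc
  rw [hd, hm] at hk
  have hm0 : m ≠ 0 := by
    intro h0
    apply hne
    rw [hm, h0]; simp
  -- d divides m
  have hkd : (m : ℤ) = k * d := by exact_mod_cast hk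
  have hdm : d ≤ m := by
    have h1 : (d : ℤ) ∣ (m : ℤ) := ⟨k, by rw [hkd, mul_comm]⟩
    have h2 : d ∣ m := by exact_mod_cast h1
    exact Nat.le_of_dvd (Nat.pos_of_ne_zero hm0) h2
  -- m² ≤ d by Parseval
  have hpars := classInner_eq_sum_irr (Helper74.isClassFunction_of_isCharacter hψc) ψ
  choose c hc using fun ξ : IrrCharacter G => Helper74.isCharacter_inner_irr_nat hψc ξ
  have hsum : (d : ℂ) = ((∑ ξ : IrrCharacter G, c ξ * c ξ : ℕ) : ℂ) := by
    rw [← hd, hpars]
    push_cast
    refine Finset.sum_congr rfl fun ξ _ => ?_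
    rw [hc ξ, Complex.conj_natCast]
  have hsum' : d = ∑ ξ : IrrCharacter G, c ξ * c ξ := by exact_mod_cast hsum
  have hcχ : c ⟨χ, hχ⟩ = m := by
    have h1 := hc ⟨χ, hχ⟩
    have h2 : classInner ψ χ = conj (classInner χ ψ) := (Helper74.classInner_conj_symm χ ψ).symm
    simp only at h1
    rw [h2, hm, Complex.conj_natCast] at h1
    exact_mod_cast h1.symm
  have hmd : m * m ≤ d := by
    rw [hsum', ← hcχ]
    exact Finset.single_le_sum (f := fun ξ : IrrCharacter G => c ξ * c ξ)
      (fun _ _ => Nat.zero_le _) (Finset.mem_univ _)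
  have hm1 : m = 1 := by nlinarith [Nat.pos_of_ne_zero hm0]
  have hd1 : d = 1 := by
    subst hm1
    omega
  -- ψ is irreducible and equals χ
  rw [hd1, Nat.cast_one] at hd
  have hψirr : IsIrrCharacter G ψ := isIrrCharacter_of_inner_self_eq_one hψc hd
  have heq : χ = ψ := by
    by_contra hneq
    have hne' : (⟨χ, hχ⟩ : IrrCharacter G) ≠ ⟨ψ, hψirr⟩ := fun h => hneq (congrArg Subtype.val h)
    exact hne (Helper74.irr_inner_ne hne')
  rw [heq]
  exact hψ.isKChar

/-- Every complex character is afforded by a representation over `K`. -/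
theorem isKChar_of_isCharacter (hK : ∀ z : ℂ, z ^ Monoid.exponent G = 1 → z ∈ K)
    {χ : G → ℂ} (hχ : IsCharacter G χ) : IsKChar K G χ := by
  classical
  letI := Helper74.irrFintype G
  rw [Helper74.isCharacter_eq_sum_irr hχ]
  have key : ∀ s : Finset (IrrCharacter G),
      IsKChar K G (∑ ξ ∈ s, classInner χ (ξ : G → ℂ) • (ξ : G → ℂ)) := by
    intro s
    induction s using Finset.induction_on with
    | empty => rw [Finset.sum_empty]; exact isKChar_zero
    | insert a s ha ih =>
      rw [Finset.sum_insert ha]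
      refine IsKChar.add ?_ ih
      obtain ⟨m, hm⟩ := Helper74.isCharacter_inner_irr_nat hχ a
      rw [hm]
      have hirr := isKChar_of_isIrrCharacter hK a.2
      clear hm
      induction m with
      | zero => simp only [Nat.cast_zero, zero_smul]; exact isKChar_zero
      | succ m ihm =>
        have : ((m + 1 : ℕ) : ℂ) • (a : G → ℂ) = (m : ℂ) • (a : G → ℂ) + (a : G → ℂ) := by
          push_cast
          rw [add_smul, one_smul]
        rw [this]
        exact IsKChar.add ihm hirr
  exact key Finset.univ

/-- **Brauer's splitting field theorem** (matrix form over a subfield `K` of `ℂ` containing the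
`exp(G)`-th roots of unity). -/
theorem exists_equiv_entries_mem (hK : ∀ z : ℂ, z ^ Monoid.exponent G = 1 → z ∈ K) (n : ℕ)
    (ρ : Representation ℂ G (Fin n → ℂ)) :
    ∃ σ : Representation ℂ G (Fin n → ℂ), Nonempty (ρ.Equiv σ) ∧
      ∀ g : G, ∀ i j : Fin n, LinearMap.toMatrix' (σ g) i j ∈ K := by
  have hχ : IsCharacter G ρ.character := ⟨n, ρ, rfl⟩
  obtain ⟨n', τ, hτ⟩ := isKChar_of_isCharacter hK hχ
  have hn : n' = n := by
    have h1 := hτ 1
    rw [Representation.char_one, Representation.char_one] at h1
    simp only [finrank_fintype_fun_eq_card, Fintype.card_fin] at h1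
    have h2 : ((n : ℕ) : ℂ) = ((n' : ℕ) : ℂ) := by
      rw [h1]; simp
    exact_mod_cast h2.symm
  subst hn
  refine ⟨baseChangeRep τ, ?_, ?_⟩
  · apply equiv_of_character_eq
    funext g
    rw [baseChangeRep_character, hτ]
  · intro g i j
    rw [toMatrix'_baseChangeRep]
    exact (LinearMap.toMatrix' (τ g) i j).2

end Cfsg.Agent.Helper3
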