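-- (B2ii) for helper74's S4130: at most p^a - 1 classes of elements of order p when N(P) ≠ C(P).
import Mathlib

set_option autoImplicit false

namespace Cfsg.Agent.Helper3.Sqf

/-- a `p`-element normalizing a Sylow `p`-subgroup lies in it. -/
theorem mem_sylow_of_pElt_norm' {G : Type*} [Group G] (p : ℕ) [Fact p.Prime] (P : Sylow p G)
    {s : G} (hs : s ∈ Subgroup.normalizer ((P : Subgroup G) : Set G)) (hsp : ∃ k : ℕ, s ^ p ^ k = 1) :
    s ∈ (P : Subgroup G) := by
  have hpg : IsPGroup p (Subgroup.zpowers s) := by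
    obtain ⟨k, hk⟩ := hsp
    rintro ⟨y, hy⟩
    obtain ⟨n, rfl⟩ := Subgroup.mem_zpowers_iff.mp hy
    refine ⟨k, Subtype.ext ?_⟩
    simp only [Subgroup.coe_pow, Subgroup.coe_one]
    rw [← zpow_natCast, ← zpow_mul, mul_comm, zpow_mul, zpow_natCast, hk, one_zpow]
  have hle : Subgroup.zpowers s ≤ Subgroup.normalizer ((P : Subgroup G) : Set G) := by
    rw [Subgroup.zpowers_le]; exact hs
  have h1 := (Subgroup.sylow_mem_fixedPoints_iff (Subgroup.zpowers s) (P := P)).mpr hle
  have h2 := (hpg.sylow_mem_fixedPoints_iff (Q := P)).mp h1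
  exact h2 (Subgroup.mem_zpowers s)

/-- the arithmetic at the end of (B2ii). -/
theorem b2ii_arith (p s a b n : ℕ) (hp : 2 ≤ p) (hs : p + 1 ≤ s) (hb : b + 1 ≤ a)
    (h : n * s = s * p ^ b + (p ^ (a + 1) - p ^ b)) : n ≤ p ^ a := by
  obtain ⟨e, rfl⟩ := Nat.exists_eq_add_of_le hb
  obtain ⟨j, rfl⟩ := Nat.exists_eq_add_of_le hs
  have hB : 0 < p ^ b := Nat.pos_of_ne_zero (pow_ne_zero _ (by omega))
  have hE : 0 < p ^ e := Nat.pos_of_ne_zero (pow_ne_zero _ (by omega))
  set B := p ^ b with hBdef
  set E := p ^ e with hEdef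
  have e1 : p ^ (b + 1 + e + 1) = B * p * E * p := by
    rw [hBdef, hEdef]; ring
  have e2 : p ^ (b + 1 + e) = B * p * E := by
    rw [hBdef, hEdef]; ring
  rw [e1] at h
  rw [e2]
  have hle : B ≤ B * p * E * p := by
    calc B = B * 1 * 1 * 1 := by ring
      _ ≤ B * p * E * p := by gcongr <;> omega
  have h' : n * (p + 1 + j) + B = (p + 1 + j) * B + B * p * E * p := by omega
  by_contra hcon
  have h1 : B * p * E + 1 ≤ n := by omega
  have h2 : (B * p * E + 1) * (p + 1 + j) ≤ n * (p + 1 + j) := Nat.mul_le_mul_right _ h1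
  have hE1 : 1 ≤ E := hE
  have hB1 : 1 ≤ B := hB
  nlinarith [Nat.mul_le_mul hB1 hE1, Nat.mul_le_mul_left (B * p) hE1, Nat.mul_le_mul_left (B * j) hE1,
    Nat.mul_le_mul_left (B * p * j) hE1, Nat.zero_le (B * p * E * j), Nat.zero_le (B * j)]

theorem card_classes_le {G : Type*} [Group G] [Finite G] (p : ℕ) [Fact p.Prime]
    (hmin : ∀ q : ℕ, q.Prime → q ∣ Nat.card G → p ≤ q) (P : Sylow p G)
    (hab : ∀ a ∈ (P : Subgroup G), ∀ b ∈ (P : Subgroup G), a * b = b * a)
    (hexp : ∀ a ∈ (P : Subgroup G), a ^ p = 1) (a : ℕ)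
    (hcard : Nat.card (P : Subgroup G) = p ^ (a + 1))
    (g : G) (hg : g ∈ Subgroup.normalizer ((P : Subgroup G) : Set G))
    (hgc : g ∉ Subgroup.centralizer ((P : Subgroup G) : Set G)) :
    Nat.card {c : ConjClasses G // ∃ t : G, orderOf t = p ∧ ConjClasses.mk t = c} ≤
      p ^ a - 1 := by
  classical
  have hp : p.Prime := Fact.out
  let θ : Subgroup.normalizer ((P : Subgroup G) : Set G) →* MulAut (P : Subgroup G) :=
    (P : Subgroup G).normalizerMonoidHom
  have hθ : ∀ (n : Subgroup.normalizer ((P : Subgroup G) : Set G)) (x : (P : Subgroup G)),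
      ((θ n x : (P : Subgroup G)) : G) = (n : G) * x * (n : G)⁻¹ := fun n x => rfl
  set gN : Subgroup.normalizer ((P : Subgroup G) : Set G) := ⟨g, hg⟩ with hgN
  have hφ0 : θ gN ≠ 1 := by
    intro h1
    apply hgc
    rw [Subgroup.mem_centralizer_iff]
    intro y hy
    have h2 : ((θ gN ⟨y, hy⟩ : (P : Subgroup G)) : G) = y := by rw [h1]; rfl
    rw [hθ] at h2
    have h3 : g * y * g⁻¹ = y := h2
    calc y * g = g * y * g⁻¹ * g := by rw [h3]
      _ = g * y := by group
  -- the order m of θ gN and its smallest prime factor s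
  set m := orderOf (θ gN) with hm
  have hm1 : m ≠ 1 := by
    rw [hm, Ne, orderOf_eq_one_iff]; exact hφ0
  have hm0 : m ≠ 0 := by
    have h1 : m ∣ orderOf gN := orderOf_map_dvd θ gN
    intro h0
    rw [h0, zero_dvd_iff] at h1
    exact (orderOf_pos gN).ne' h1
  set s := m.minFac with hs
  have hsp : s.Prime := Nat.minFac_prime hm1
  have hsm : s ∣ m := Nat.minFac_dvd m
  set d := m / s with hd
  have hdm : d ∣ m := Nat.div_dvd_of_dvd hsm
  have hd0 : d ≠ 0 := by
    intro h0
    rw [h0, zero_dvd_iff] at hdm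
    exact hm0 hdm
  set g' := gN ^ d with hg'
  set φ := θ g' with hφ
  have hφpow : φ = (θ gN) ^ d := by rw [hφ, hg', map_pow]
  have hφord : orderOf φ = s := by
    rw [hφpow, orderOf_pow_of_dvd hd0 hdm, ← hm, hd, Nat.div_div_self hsm hm0]
  have hsG : s ∣ Nat.card G := by
    rw [← hφord]
    exact (orderOf_map_dvd θ g').trans ((orderOf_dvd_natCard g').trans
      (Subgroup.card_subgroup_dvd_card _))
  have hps : p ≤ s := hmin s hsp hsG
  have hsnep : s ≠ p := by
    intro hsp'
    obtain ⟨k, r, hr, ho⟩ := Nat.exists_eq_pow_mul_and_not_dvd (orderOf_pos g').ne' p hp.ne_one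
    set u := g' ^ r with hu
    have hupow : (u : G) ^ p ^ k = 1 := by
      have : u ^ p ^ k = 1 := by
        rw [hu, ← pow_mul, mul_comm, ← ho, pow_orderOf_eq_one]
      have := congrArg Subtype.val this
      simpa using this
    have huP : (u : G) ∈ (P : Subgroup G) := mem_sylow_of_pElt_norm' p P u.2 ⟨k, hupow⟩
    have hθu : θ u = 1 := by
      ext x
      rw [hθ]
      have := hab _ huP _ x.2
      rw [this, mul_inv_cancel_right]; rfl
    have : φ ^ r = 1 := by rw [hφ, ← map_pow, ← hu, hθu]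
    have := orderOf_dvd_of_pow_eq_one this
    rw [hφord, hsp'] at this
    exact hr this
  have hs1 : p + 1 ≤ s := by omega
  -- the acting group
  set H : Subgroup (MulAut (P : Subgroup G)) := Subgroup.zpowers φ with hH
  have hHcard : Nat.card H = s := by rw [hH, Nat.card_zpowers, hφord]
  haveI : Fact s.Prime := ⟨hsp⟩
  -- fixed points of φ
  set F : Subgroup (P : Subgroup G) :=
    (φ.toMonoidHom).eqLocus (MonoidHom.id (P : Subgroup G)) with hF
  have hFmem : ∀ x : (P : Subgroup G), x ∈ F ↔ φ x = x := fun x => Iff.rfl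
  obtain ⟨b, hba, hFcard⟩ := (Nat.dvd_prime_pow hp).mp (hcard ▸ Subgroup.card_subgroup_dvd_card F)
  have hφ1 : φ ≠ 1 := by
    intro h1
    rw [h1, orderOf_one] at hφord
    exact hsp.one_lt.ne hφord
  have hFtop : F ≠ ⊤ := by
    intro htop
    apply hφ1
    ext x
    have : x ∈ F := by rw [htop]; trivial
    rw [(hFmem x).mp this]; rfl
  have hba' : b ≤ a := by
    by_contra hcon
    have : b = a + 1 := by omega
    apply hFtop
    rw [← Subgroup.card_eq_iff_eq_top, hFcard, this, hcard]
  -- every element of H is conjugation by an element of the normalizer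
  have hHconj : ∀ h : H, ∃ n : Subgroup.normalizer ((P : Subgroup G) : Set G),
      (h : MulAut (P : Subgroup G)) = θ n := by
    intro h
    obtain ⟨i, hi⟩ := Subgroup.mem_zpowers_iff.mp h.2
    exact ⟨g' ^ i, by rw [map_zpow, ← hi]⟩
  -- fixed points of a nontrivial element
  have hfix : ∀ h : H, h ≠ 1 → ∀ x : (P : Subgroup G), h • x = x ↔ x ∈ F := by
    intro h hh x
    constructor
    · intro hx
      have h1 : Subgroup.zpowers h = ⊤ := zpowers_eq_top_of_prime_card hHcard hh
      have h2 : (⟨φ, Subgroup.mem_zpowers φ⟩ : H) ∈ Subgroup.zpowers h := by rw [h1]; trivial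
      have h3 : Subgroup.zpowers h ≤ MulAction.stabilizer H x := by
        rw [Subgroup.zpowers_le]; exact MulAction.mem_stabilizer_iff.mpr hx
      have h4 := MulAction.mem_stabilizer_iff.mp (h3 h2)
      rw [hFmem]
      exact h4
    · intro hx
      have h3 : Subgroup.zpowers φ ≤ MulAction.stabilizer (MulAut (P : Subgroup G)) x := by
        rw [Subgroup.zpowers_le]; exact MulAction.mem_stabilizer_iff.mpr ((hFmem x).mp hx)
      have h4 := MulAction.mem_stabilizer_iff.mp (h3 h.2)
      exact h4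
  -- Burnside's lemma
  letI : Fintype H := Fintype.ofFinite H
  letI : ∀ h : H, Fintype (MulAction.fixedBy (P : Subgroup G) h) := fun h => Fintype.ofFinite _
  letI : Fintype (MulAction.orbitRel.Quotient H (P : Subgroup G)) := Fintype.ofFinite _
  have hburn := MulAction.sum_card_fixedBy_eq_card_orbits_mul_card_group H (P : Subgroup G)
  have hcardfix : ∀ h : H, Fintype.card (MulAction.fixedBy (P : Subgroup G) h) =
      p ^ b + (if h = 1 then p ^ (a + 1) - p ^ b else 0) := by
    intro h
    rw [Fintype.card_eq_nat_card]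
    by_cases hh : h = 1
    · rw [if_pos hh]
      have hle : p ^ b ≤ p ^ (a + 1) := Nat.pow_le_pow_right hp.pos hba
      rw [Nat.add_sub_cancel' hle, ← hcard]
      exact Nat.card_congr (Equiv.subtypeUnivEquiv (fun x => by
        rw [MulAction.mem_fixedBy, hh, one_smul]))
    · rw [if_neg hh, add_zero, ← hFcard]
      exact Nat.card_congr (Equiv.subtypeEquivRight (fun x => hfix h hh x))
  have hsum : (∑ h : H, Fintype.card (MulAction.fixedBy (P : Subgroup G) h)) =
      s * p ^ b + (p ^ (a + 1) - p ^ b) := by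
    rw [Finset.sum_congr rfl (fun h _ => hcardfix h), Finset.sum_add_distrib, Finset.sum_const,
      Finset.card_univ, Fintype.card_eq_nat_card, hHcard, smul_eq_mul,
      Finset.sum_ite_eq' Finset.univ (1 : H) (fun _ => p ^ (a + 1) - p ^ b),
      if_pos (Finset.mem_univ _)]
  rw [hsum, Fintype.card_eq_nat_card, Fintype.card_eq_nat_card, hHcard] at hburn
  have hbne : b ≠ a := by
    intro hbeq
    rw [hbeq] at hburn
    have h1 : s ∣ s * p ^ a + (p ^ (a + 1) - p ^ a) := ⟨_, hburn.trans (mul_comm _ _)⟩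
    have h2 : s ∣ p ^ (a + 1) - p ^ a := (Nat.dvd_add_right (dvd_mul_right s _)).mp h1
    have h3 : p ^ (a + 1) - p ^ a = p ^ a * (p - 1) := by
      rw [pow_succ, Nat.mul_sub, mul_one]
    rw [h3] at h2
    have hcop : Nat.Coprime s (p ^ a) :=
      Nat.Coprime.pow_right _ ((Nat.coprime_primes hsp hp).mpr hsnep)
    have h4 : s ∣ p - 1 := hcop.dvd_of_dvd_mul_left h2
    have h5 : s ≤ p - 1 := Nat.le_of_dvd (by have := hp.two_le; omega) h4
    omega
  have hb1 : b + 1 ≤ a := by omega
  have hΩ : Nat.card (MulAction.orbitRel.Quotient H (P : Subgroup G)) ≤ p ^ a :=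
    b2ii_arith p s a b _ hp.two_le hs1 hb1 hburn.symm
  -- representatives
  have hrep : ∀ c : {c : ConjClasses G // ∃ t : G, orderOf t = p ∧ ConjClasses.mk t = c},
      ∃ x : (P : Subgroup G), x ≠ 1 ∧ ConjClasses.mk (x : G) = c.1 := by
    rintro ⟨c, t, ht, rfl⟩
    have hpg : IsPGroup p (Subgroup.zpowers t) := by
      rw [IsPGroup.iff_card]
      exact ⟨1, by rw [Nat.card_zpowers, ht, pow_one]⟩
    obtain ⟨Q, hQ⟩ := hpg.exists_le_sylow
    obtain ⟨n, hn⟩ := MulAction.exists_smul_eq G Q P
    have htQ : t ∈ (Q : Subgroup G) := hQ (Subgroup.mem_zpowers t)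
    have hx : n * t * n⁻¹ ∈ (P : Subgroup G) := by
      rw [← hn, Sylow.coe_subgroup_smul, Subgroup.mem_pointwise_smul_iff_inv_smul_mem]
      simpa [MulAut.smul_def, mul_assoc] using htQ
    refine ⟨⟨n * t * n⁻¹, hx⟩, ?_, ?_⟩
    · intro h1
      have h2 : n * t * n⁻¹ = 1 := congrArg Subtype.val h1
      have h3 : t = 1 := by
        have : t = n⁻¹ * (n * t * n⁻¹) * n := by group
        rw [this, h2]; group
      rw [h3, orderOf_one] at ht
      exact hp.one_lt.ne ht
    · show ConjClasses.mk (n * t * n⁻¹) = ConjClasses.mk t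
      rw [ConjClasses.mk_eq_mk_iff_isConj, isConj_comm, isConj_iff]
      exact ⟨n, rfl⟩
  choose r hr1 hrc using hrep
  -- orbit-equivalent elements are conjugate in G
  have horb : ∀ x y : (P : Subgroup G),
      (Quotient.mk'' x : MulAction.orbitRel.Quotient H (P : Subgroup G)) = Quotient.mk'' y →
      ∃ n : G, (x : G) = n * y * n⁻¹ := by
    intro x y hxy
    have h1 := Quotient.eq''.mp hxy
    rw [MulAction.orbitRel_apply, MulAction.mem_orbit_iff] at h1
    obtain ⟨h, hh⟩ := h1
    obtain ⟨n, hn⟩ := hHconj h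
    refine ⟨n, ?_⟩
    rw [← hh, Subgroup.smul_def, MulAut.smul_def, hn, hθ]
  let f : Option {c : ConjClasses G // ∃ t : G, orderOf t = p ∧ ConjClasses.mk t = c} →
      MulAction.orbitRel.Quotient H (P : Subgroup G) :=
    fun o => o.elim (Quotient.mk'' 1) (fun c => Quotient.mk'' (r c))
  have hfinj : Function.Injective f := by
    intro o1 o2 h12
    cases o1 with
    | none =>
      cases o2 with
      | none => rfl
      | some c2 =>
        exfalso
        obtain ⟨n, hn⟩ := horb _ _ h12.symm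
        apply hr1 c2
        apply Subtype.ext
        rw [hn]
        simp
    | some c1 =>
      cases o2 with
      | none =>
        exfalso
        obtain ⟨n, hn⟩ := horb _ _ h12
        apply hr1 c1
        apply Subtype.ext
        rw [hn]
        simp
      | some c2 =>
        obtain ⟨n, hn⟩ := horb _ _ h12
        congr 1
        apply Subtype.ext
        rw [← hrc c1, ← hrc c2, hn, ConjClasses.mk_eq_mk_iff_isConj, isConj_comm, isConj_iff]
        exact ⟨n, rfl⟩
  have hle := Nat.card_le_card_of_injective f hfinj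
  rw [Finite.card_option] at hle
  omega

end Cfsg.Agent.Helper3.Sqf
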