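import Cfsg.Agent.Helper39.X648.Defs

/-!
# Helper3 / S3366 piece (A2): `C_X(R) = Z`

`C = C_X(R)` is normal and `C ⊓ R = Z`.  With `M` normal of order `216` above `R`, `D = C ⊓ M` is
normal of order dividing `24` with the central subgroup `Z` of order `3`; its Sylow `2`-subgroup is
normal in `D`, hence characteristic, hence normal in `X`, hence trivial; so `D = Z`.  If
`g ∈ C ∖ R` then `C ⊔ R` is a normal subgroup properly containing `R`, so it contains `u`, as does `M`;
writing `u = c r` gives `c ∈ C ⊓ M = Z ≤ R` and `u ∈ R`, a contradiction.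
-/

set_option autoImplicit false

open Cfsg.Agent.Helper39.X648

namespace Cfsg.Agent.Helper3.X648

/-- a finite group of order dividing `24` with a central subgroup of order `3`: the Sylow
`2`-subgroup is normal of index dividing `3`. -/
theorem a2_sylow_normal {G : Type*} [Group G] [Finite G] (hG : Nat.card G ∣ 24)
    (Zs : Subgroup G) (hZs : Zs ≤ Subgroup.center G) (hZc : Nat.card Zs = 3)
    (P : Sylow 2 G) : (P : Subgroup G).Normal ∧ (P : Subgroup G).index ∣ 3 := by
  have : Fact (Nat.Prime 2) := ⟨Nat.prime_two⟩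
  have hidx2 : ¬ 2 ∣ (P : Subgroup G).index := P.not_dvd_index
  have hmul : Nat.card (P : Subgroup G) * (P : Subgroup G).index = Nat.card G :=
    Subgroup.card_mul_index _
  have hidx24 : (P : Subgroup G).index ∣ 24 := (Dvd.intro_left _ hmul).trans hG
  have hcop : Nat.Coprime (P : Subgroup G).index (2 ^ 3) :=
    (((Nat.Prime.coprime_iff_not_dvd Nat.prime_two).2 hidx2).symm).pow_right 3
  have hidx3 : (P : Subgroup G).index ∣ 3 := by
    have : (P : Subgroup G).index ∣ 2 ^ 3 * 3 := by norm_num; exact hidx24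
    exact hcop.dvd_of_dvd_mul_left this
  refine ⟨?_, hidx3⟩
  rw [← Subgroup.normalizer_eq_top_iff]
  apply Subgroup.eq_top_of_le_card
  have h1 : Nat.card (P : Subgroup G) ∣ Nat.card (Subgroup.normalizer ((P : Subgroup G) : Set G)) :=
    Subgroup.card_dvd_of_le Subgroup.le_normalizer
  have h2 : 3 ∣ Nat.card (Subgroup.normalizer ((P : Subgroup G) : Set G)) := by
    rw [← hZc]
    exact Subgroup.card_dvd_of_le (hZs.trans (Subgroup.center_le_normalizer _))
  obtain ⟨n, hn⟩ := (IsPGroup.iff_card (p := 2)).1 P.2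
  have hcop2 : Nat.Coprime (Nat.card (P : Subgroup G)) 3 := by
    rw [hn]; exact Nat.Coprime.pow_left n (by norm_num)
  have h3 : Nat.card (P : Subgroup G) * 3 ∣
      Nat.card (Subgroup.normalizer ((P : Subgroup G) : Set G)) :=
    hcop2.mul_dvd_of_dvd_of_dvd h1 h2
  have h4 : Nat.card G ∣ Nat.card (Subgroup.normalizer ((P : Subgroup G) : Set G)) := by
    rw [← hmul]
    exact (Nat.mul_dvd_mul_left _ hidx3).trans h3
  exact Nat.le_of_dvd Nat.card_pos h4

variable {X : Type*} [Group X] [Finite X] {R Z : Subgroup X} {u : X}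

/-- `C_X(R) ⊓ M = Z` -/
theorem a2_inf (h : Base R Z u) (hZ : ∀ z ∈ Z, ∀ g : X, g * z = z * g)
    (M : Subgroup X) (hMn : M.Normal) (hRM : R ≤ M) (hMcard : Nat.card M = 216) :
    Subgroup.centralizer (R : Set X) ⊓ M = Z := by
  have hRn : R.Normal := h.normR
  have hCn : (Subgroup.centralizer (R : Set X)).Normal := Subgroup.normal_centralizer
  set D : Subgroup X := Subgroup.centralizer (R : Set X) ⊓ M with hD
  have hDn : D.Normal := Subgroup.normal_inf_normal _ _
  have hDM : D ≤ M := inf_le_right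
  have hZD : Z ≤ D := by
    intro z hz
    refine Subgroup.mem_inf.2 ⟨?_, hRM (h.Z_le hz)⟩
    rw [Subgroup.mem_centralizer_iff]
    intro r _
    exact hZ z hz r
  have hRD : R ⊓ D ≤ Z := by
    intro x hx
    obtain ⟨hxR, hxD⟩ := Subgroup.mem_inf.1 hx
    have hxC : x ∈ Subgroup.centralizer (R : Set X) := (Subgroup.mem_inf.1 hxD).1
    rw [Subgroup.mem_centralizer_iff] at hxC
    exact (h.mem_Z x).2 ⟨hxR, fun r hr => hxC r hr⟩
  -- |D| ∣ 24
  have hidxRM : R.relIndex M = 8 := by
    have h1 : Nat.card (R.subgroupOf M) * (R.subgroupOf M).index = Nat.card M :=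
      Subgroup.card_mul_index _
    have h2 : Nat.card (R.subgroupOf M) = 27 := by
      rw [Nat.card_congr (Subgroup.subgroupOfEquivOfLe hRM).toEquiv, h.cardR]
    rw [h2, hMcard] at h1
    show (R.subgroupOf M).index = 8
    omega
  have hidxRD : R.relIndex D ∣ 8 := by
    rw [← hidxRM, ← Subgroup.relIndex_sup_right D R,
      ← Subgroup.relIndex_mul_relIndex R (D ⊔ R) M le_sup_right (sup_le hDM hRM)]
    exact Dvd.intro _ rfl
  have hD24 : Nat.card D ∣ 24 := by
    have h1 : Nat.card ((R ⊓ D).subgroupOf D) * ((R ⊓ D).subgroupOf D).index = Nat.card D :=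
      Subgroup.card_mul_index _
    have h2 : Nat.card ((R ⊓ D).subgroupOf D) = Nat.card ↥(R ⊓ D) :=
      Nat.card_congr (Subgroup.subgroupOfEquivOfLe inf_le_right).toEquiv
    have h3 : ((R ⊓ D).subgroupOf D).index = R.relIndex D := Subgroup.inf_relIndex_right R D
    have h4 : Nat.card ↥(R ⊓ D) ∣ 3 := h.cardZ ▸ Subgroup.card_dvd_of_le hRD
    rw [← h1, h2, h3]
    exact Nat.mul_dvd_mul h4 hidxRD
  -- Sylow 2-subgroup of D
  have : Fact (Nat.Prime 2) := ⟨Nat.prime_two⟩
  let P : Sylow 2 D := default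
  have hZs : Z.subgroupOf D ≤ Subgroup.center D := by
    intro x hx
    rw [Subgroup.mem_center_iff]
    intro g
    apply Subtype.ext
    exact hZ x.1 (Subgroup.mem_subgroupOf.1 hx) g.1
  have hZc : Nat.card (Z.subgroupOf D) = 3 := by
    rw [Nat.card_congr (Subgroup.subgroupOfEquivOfLe hZD).toEquiv, h.cardZ]
  obtain ⟨hPn, hPidx⟩ := a2_sylow_normal hD24 (Z.subgroupOf D) hZs hZc P
  have hPc : (P : Subgroup D).Characteristic := P.characteristic_of_normal hPn
  have hTn : ((P : Subgroup D).map D.subtype).Normal :=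
    ConjAct.normal_of_characteristic_of_normal
  have hT2 : IsPGroup 2 ((P : Subgroup D).map D.subtype) := P.2.map D.subtype
  have hTbot : (P : Subgroup D).map D.subtype = ⊥ := h.noO2 _ hTn hT2
  have hPbot : (P : Subgroup D) = ⊥ :=
    (Subgroup.map_eq_bot_iff_of_injective _ D.subtype_injective).1 hTbot
  have hDcard : Nat.card D ∣ 3 := by
    have h1 : Nat.card (P : Subgroup D) * (P : Subgroup D).index = Nat.card D :=
      Subgroup.card_mul_index _
    rw [hPbot, Subgroup.card_bot, one_mul] at h1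
    rw [← h1, ← hPbot]; exact hPidx
  exact (Subgroup.eq_of_le_of_card_ge hZD
    (by rw [h.cardZ]; exact Nat.le_of_dvd (by norm_num) hDcard)).symm

/-- (A2) `C_X(R) = Z` -/
theorem Base.CR (h : Base R Z u) (hZ : ∀ z ∈ Z, ∀ g : X, g * z = z * g) :
    ∀ g : X, (∀ r ∈ R, g * r = r * g) → g ∈ Z := by
  intro g hg
  obtain ⟨M, hMn, hRM, hMcard⟩ := h.syl2
  have hinf := a2_inf h hZ M hMn hRM hMcard
  have hRn : R.Normal := h.normR
  have hCn : (Subgroup.centralizer (R : Set X)).Normal := Subgroup.normal_centralizer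
  have hgC : g ∈ Subgroup.centralizer (R : Set X) := by
    rw [Subgroup.mem_centralizer_iff]
    intro r hr
    exact (hg r hr).symm
  by_cases hgR : g ∈ R
  · exact (h.mem_Z g).2 ⟨hgR, fun r hr => (hg r hr).symm⟩
  · exfalso
    have hSn : (Subgroup.centralizer (R : Set X) ⊔ R).Normal := Subgroup.sup_normal _ _
    have hne : Subgroup.centralizer (R : Set X) ⊔ R ≠ R := by
      intro he
      apply hgR
      rw [← he]
      exact (le_sup_left : Subgroup.centralizer (R : Set X) ≤ _) hgC
    have hu1 : u ∈ Subgroup.centralizer (R : Set X) ⊔ R := h.u_normal _ hSn le_sup_right hne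
    have hMne : M ≠ R := by
      intro he
      have := hMcard
      rw [he, h.cardR] at this
      norm_num at this
    have hu2 : u ∈ M := h.u_normal M hMn hRM hMne
    have hu3 : u ∈ ((Subgroup.centralizer (R : Set X) ⊔ R : Subgroup X) : Set X) := hu1
    rw [Subgroup.mul_normal] at hu3
    obtain ⟨c, hc, r, hr, hcr⟩ := Set.mem_mul.1 hu3
    have hcM : c ∈ M := by
      have : c = u * r⁻¹ := by rw [← hcr]; group
      rw [this]
      exact mul_mem hu2 (inv_mem (hRM hr))
    have hcZ : c ∈ Z := by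
      rw [← hinf]
      exact Subgroup.mem_inf.2 ⟨hc, hcM⟩
    apply h.u_not
    rw [← hcr]
    exact mul_mem (h.Z_le hcZ) hr

end Cfsg.Agent.Helper3.X648
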