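import Cfsg.Agent.Helper39.X648.Defs

/-!
# Helper3 / S3366 piece (A5): `C_R(t) = Z`

Proof (no use of the Frattini hypothesis): for `x ∈ R` the elements `x` and `t x t⁻¹` commute
(squaring trick), the fixed points `F = C_R(t)` commute with the inverted elements, and every
`y ∈ R` has `y² = f v` with `f` fixed and `v` inverted.  Hence a fixed `r` commuting with all of `F`
is central in `R`.  `|F| ∈ {3, 9, 27}`: for `3`, `F = Z`; for `9`, `F` is abelian; for `27`, `t`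
centralises `R`, so `t ∈ Z ≤ R` and `u ∈ R`, a contradiction.
-/

set_option autoImplicit false

open Cfsg.Agent.Helper39.X648

namespace Cfsg.Agent.Helper3.X648

variable {X : Type*} [Group X] [Finite X] {R Z : Subgroup X} {u : X}

theorem a5_sq_one (h : Base R Z u) {z : X} (hz : z ∈ Z) (h2 : z * z = 1) : z = 1 := by
  have h3 : z ^ 3 = 1 := h.exp3 z (h.Z_le hz)
  calc z = z * (z * z) := by rw [h2, mul_one]
    _ = z ^ 3 := by simp [pow_succ, mul_assoc]
    _ = 1 := h3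

omit [Finite X] in
theorem a5_tt {t : X} (ht : orderOf t = 2) : t * t = 1 := by
  have := pow_orderOf_eq_one t
  rw [ht, pow_two] at this
  exact this

/-- `x` and `t x t⁻¹` commute -/
theorem a5_comm_conj (h : Base R Z u) (hZ : ∀ z ∈ Z, ∀ g : X, g * z = z * g)
    (t : X) (ht : orderOf t = 2) (x : X) (hx : x ∈ R) :
    x * (t * x * t⁻¹) = (t * x * t⁻¹) * x := by
  have htt := a5_tt ht
  have hx' : t * x * t⁻¹ ∈ R := h.normR.conj_mem x hx t
  set x' := t * x * t⁻¹ with hx'def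
  have hz : x' * x * x'⁻¹ * x⁻¹ ∈ Z := h.comm_mem x' hx' x hx
  set z := x' * x * x'⁻¹ * x⁻¹ with hzdef
  -- t x' t⁻¹ = x
  have e0 : t * x' * t⁻¹ = x := by
    have : t * x' * t⁻¹ = (t * t) * x * (t * t)⁻¹ := by rw [hx'def]; group
    rw [this, htt, one_mul, inv_one, mul_one]
  -- t (x x') t⁻¹ = z (x x')
  have e1 : t * (x * x') * t⁻¹ = z * (x * x') := by
    have : t * (x * x') * t⁻¹ = (t * x * t⁻¹) * (t * x' * t⁻¹) := by group
    rw [this, e0, ← hx'def, hzdef]; group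
  have e2 : t * (z * (x * x')) * t⁻¹ = x * x' := by
    rw [← e1]
    have : t * (t * (x * x') * t⁻¹) * t⁻¹ = (t * t) * (x * x') * (t * t)⁻¹ := by group
    rw [this, htt, one_mul, inv_one, mul_one]
  have e3 : t * (z * (x * x')) * t⁻¹ = z * (z * (x * x')) := by
    have : t * (z * (x * x')) * t⁻¹ = (t * z * t⁻¹) * (t * (x * x') * t⁻¹) := by group
    rw [this, e1, hZ z hz t, mul_inv_cancel_right]
  have e4 : z * z = 1 := by
    have : z * z * (x * x') = x * x' := by rw [mul_assoc, ← e3, e2]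
    exact mul_eq_right.mp this
  have e5 : z = 1 := a5_sq_one h hz e4
  have : x' * x * x'⁻¹ * x⁻¹ = 1 := e5
  calc x * x' = (x' * x * x'⁻¹ * x⁻¹)⁻¹ * (x' * x) := by group
    _ = x' * x := by rw [this, inv_one, one_mul]

/-- fixed elements commute with inverted elements -/
theorem a5_fix_inv (h : Base R Z u) (hZ : ∀ z ∈ Z, ∀ g : X, g * z = z * g)
    (t : X) (f : X) (hf : f ∈ R) (hft : t * f = f * t) (v : X) (hv : v ∈ R)
    (hvt : t * v * t⁻¹ = v⁻¹) : f * v = v * f := by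
  have hc : f * v * f⁻¹ * v⁻¹ ∈ Z := h.comm_mem f hf v hv
  set c := f * v * f⁻¹ * v⁻¹ with hcdef
  have hft' : t * f * t⁻¹ = f := by rw [hft, mul_inv_cancel_right]
  have e1 : t * c * t⁻¹ = c := by rw [hZ c hc t, mul_inv_cancel_right]
  have e2 : t * c * t⁻¹ = f * v⁻¹ * f⁻¹ * v := by
    have : t * c * t⁻¹ = (t * f * t⁻¹) * (t * v * t⁻¹) * (t * f * t⁻¹)⁻¹ * (t * v * t⁻¹)⁻¹ := by
      rw [hcdef]; group
    rw [this, hft', hvt, inv_inv]
  have e3 : f * v⁻¹ * f⁻¹ * v = c⁻¹ := by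
    calc f * v⁻¹ * f⁻¹ * v = v⁻¹ * (f * v * f⁻¹ * v⁻¹)⁻¹ * v := by group
      _ = v⁻¹ * c⁻¹ * v := rfl
      _ = c⁻¹ := by rw [hZ c⁻¹ (inv_mem hc) v⁻¹, mul_assoc, inv_mul_cancel, mul_one]
  have e4 : c * c = 1 := by
    have : c = c⁻¹ := by rw [← e3, ← e2, e1]
    calc c * c = c * c⁻¹ := by rw [← this]
      _ = 1 := mul_inv_cancel c
  have e5 : c = 1 := a5_sq_one h hc e4
  have : f * v * f⁻¹ * v⁻¹ = 1 := e5
  calc f * v = (f * v * f⁻¹ * v⁻¹) * (v * f) := by group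
    _ = v * f := by rw [this, one_mul]

/-- an element of `C_R(t)` commuting with all of `C_R(t)` is central in `R` -/
theorem a5_central (h : Base R Z u) (hZ : ∀ z ∈ Z, ∀ g : X, g * z = z * g)
    (t : X) (ht : orderOf t = 2) (r : X) (hr : r ∈ R) (hrt : t * r = r * t)
    (hcomm : ∀ f ∈ R, t * f = f * t → r * f = f * r) : r ∈ Z := by
  have htt := a5_tt ht
  rw [h.mem_Z]
  refine ⟨hr, fun y hy => ?_⟩
  have hy' : t * y * t⁻¹ ∈ R := h.normR.conj_mem y hy t
  have hyy' := a5_comm_conj h hZ t ht y hy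
  set y' := t * y * t⁻¹ with hy'def
  have e0 : t * y' * t⁻¹ = y := by
    have : t * y' * t⁻¹ = (t * t) * y * (t * t)⁻¹ := by rw [hy'def]; group
    rw [this, htt, one_mul, inv_one, mul_one]
  -- f = y y' is fixed
  have hf : y * y' ∈ R := mul_mem hy hy'
  have hft : t * (y * y') = (y * y') * t := by
    have : t * (y * y') * t⁻¹ = y * y' := by
      have : t * (y * y') * t⁻¹ = (t * y * t⁻¹) * (t * y' * t⁻¹) := by group
      rw [this, e0, ← hy'def, ← hyy']
    calc t * (y * y') = t * (y * y') * t⁻¹ * t := by group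
      _ = (y * y') * t := by rw [this]
  -- v = y y'⁻¹ is inverted
  have hv : y * y'⁻¹ ∈ R := mul_mem hy (inv_mem hy')
  have hvt : t * (y * y'⁻¹) * t⁻¹ = (y * y'⁻¹)⁻¹ := by
    have : t * (y * y'⁻¹) * t⁻¹ = (t * y * t⁻¹) * (t * y' * t⁻¹)⁻¹ := by group
    rw [this, e0, ← hy'def]; group
  have h1 : r * (y * y') = (y * y') * r := hcomm _ hf hft
  have h2 : r * (y * y'⁻¹) = (y * y'⁻¹) * r := a5_fix_inv h hZ t r hr hrt _ hv hvt
  -- (y y') (y y'⁻¹) = y y
  have h3 : (y * y') * (y * y'⁻¹) = y * y := by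
    calc (y * y') * (y * y'⁻¹) = y * (y' * y) * y'⁻¹ := by group
      _ = y * (y * y') * y'⁻¹ := by rw [hyy']
      _ = y * y := by group
  have h4 : r * (y * y) = (y * y) * r := by
    rw [← h3, ← mul_assoc, h1, mul_assoc, h2, ← mul_assoc]
  have hy3 : y ^ 3 = 1 := h.exp3 y hy
  have h5 : y = (y * y) * (y * y) := by
    calc y = y * y ^ 3 := by rw [hy3, mul_one]
      _ = (y * y) * (y * y) := by simp [pow_succ, mul_assoc]
  have h6 : r * ((y * y) * (y * y)) = ((y * y) * (y * y)) * r := by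
    rw [← mul_assoc, h4, mul_assoc, h4, ← mul_assoc]
  rw [h5]; exact h6.symm

/-- (A5) `C_R(t) = Z` -/
theorem Base.fix_t (h : Base R Z u) (hZ : ∀ z ∈ Z, ∀ g : X, g * z = z * g)
    (hCR : ∀ g : X, (∀ r ∈ R, g * r = r * g) → g ∈ Z)
    (t : X) (ht : orderOf t = 2) (htu : t * u⁻¹ ∈ R)
    (hfrat : ∀ g : X, ∃ r ∈ R, (r⁻¹ * g) * t = t * (r⁻¹ * g)) :
    ∀ r ∈ R, t * r = r * t → r ∈ Z := by
  intro r hr hrt
  let F : Subgroup X := R ⊓ Subgroup.centralizer {t}
  have memF : ∀ x : X, x ∈ F ↔ x ∈ R ∧ t * x = x * t := by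
    intro x
    simp only [F, Subgroup.mem_inf, Subgroup.mem_centralizer_singleton_iff]
    constructor
    · rintro ⟨a, b⟩; exact ⟨a, b.symm⟩
    · rintro ⟨a, b⟩; exact ⟨a, b.symm⟩
  have hFR : F ≤ R := inf_le_left
  have hZF : Z ≤ F := fun z hz => (memF z).2 ⟨h.Z_le hz, hZ z hz t⟩
  have hrF : r ∈ F := (memF r).2 ⟨hr, hrt⟩
  have d1 : Nat.card F ∣ 27 := h.cardR ▸ Subgroup.card_dvd_of_le hFR
  have d2 : 3 ∣ Nat.card F := h.cardZ ▸ Subgroup.card_dvd_of_le hZF
  have d1' : Nat.card F ∣ 3 ^ 3 := by norm_num; exact d1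
  obtain ⟨k, hk, hcard⟩ := (Nat.dvd_prime_pow Nat.prime_three).1 d1'
  interval_cases k
  · -- |F| = 1
    rw [hcard] at d2; norm_num at d2
  · -- |F| = 3
    have : Z = F := Subgroup.eq_of_le_of_card_ge hZF (by rw [hcard, h.cardZ]; norm_num)
    rw [this]; exact hrF
  · -- |F| = 9
    have : Fact (Nat.Prime 3) := ⟨Nat.prime_three⟩
    have hab := IsPGroup.commutative_of_card_eq_prime_sq (p := 3) (G := F) hcard
    refine a5_central h hZ t ht r hr hrt (fun f hf hft => ?_)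
    have hfF : f ∈ F := (memF f).2 ⟨hf, hft⟩
    exact congrArg Subtype.val (hab ⟨r, hrF⟩ ⟨f, hfF⟩)
  · -- |F| = 27
    exfalso
    have hFR' : F = R := Subgroup.eq_of_le_of_card_ge hFR (by rw [hcard, h.cardR]; norm_num)
    have htZ : t ∈ Z := hCR t (fun x hx => ((memF x).1 (hFR' ▸ hx)).2)
    have htR : t ∈ R := h.Z_le htZ
    apply h.u_not
    have : u = (t * u⁻¹)⁻¹ * t := by group
    rw [this]; exact mul_mem (inv_mem htu) htR

end Cfsg.Agent.Helper3.X648
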